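import Groth.Agent.FibBasics.Fp

/-!
Inertia, diagonals, categories fibred in setoids.
-/

set_option autoImplicit false

universe v₄ u₄ v₃ u₃ v₂ u₂ v u

open CategoryTheory CategoryTheory.Functor CategoryTheory.Limits

namespace Groth.Agent.FibBasics

variable {C : Type u} [Category.{v} C]

section Inertia

variable {𝒳 : BasedCategory.{v₂, u₂} C} {𝒴 : BasedCategory.{v₃, u₃} C} {F : 𝒳 ⥤ᵇ 𝒴}

theorem inertia_aut_lift (x : FibCat.InertiaObj F) {S : C} (h : 𝒳.p.obj x.pt = S) :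
    𝒳.p.IsHomLift (𝟙 S) x.aut.hom := by
  have h1 : 𝒴.p.IsHomLift (𝟙 S) (F.map x.aut.hom) := by
    rw [x.map_aut]; exact IsHomLift.id ((F.w_obj x.pt).trans h)
  exact F.isHomLift_map (𝟙 S) x.aut.hom

theorem inertia_lift_hom {x y : (FibCat.inertia F).obj} {R S : C} (f : R ⟶ S) (φ : x ⟶ y)
    [(FibCat.inertia F).p.IsHomLift f φ] : 𝒳.p.IsHomLift f φ.hom :=
  (inferInstance : 𝒳.p.IsHomLift f ((FibCat.inertiaToBase F).map φ))

theorem inertia_isStronglyCartesian {x y : (FibCat.inertia F).obj} {R S : C} (f : R ⟶ S) (φ : x ⟶ y)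
    [𝒳.p.IsStronglyCartesian f φ.hom] : (FibCat.inertia F).p.IsStronglyCartesian f φ where
  toIsHomLift := (BasedFunctor.isHomLift_iff (FibCat.inertiaToBase F) f φ).1
    (inferInstanceAs (𝒳.p.IsHomLift f φ.hom))
  universal_property' {z} g ψ _ := by
    have : 𝒳.p.IsHomLift (g ≫ f) ψ.hom := inertia_lift_hom _ ψ
    let χ := IsStronglyCartesian.map 𝒳.p f φ.hom (g := g) rfl ψ.hom
    have hc : χ ≫ φ.hom = ψ.hom := IsStronglyCartesian.fac 𝒳.p f φ.hom rfl ψ.hom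
    have hz : 𝒳.p.IsHomLift (𝟙 ((FibCat.inertia F).p.obj z)) z.aut.hom := inertia_aut_lift z rfl
    have hx : 𝒳.p.IsHomLift (𝟙 R) x.aut.hom := inertia_aut_lift x (IsHomLift.domain_eq 𝒳.p f φ.hom)
    have comm : z.aut.hom ≫ χ = χ ≫ x.aut.hom := by
      have h1 : 𝒳.p.IsHomLift g (z.aut.hom ≫ χ) := by
        have h := (inferInstance : 𝒳.p.IsHomLift (𝟙 _ ≫ g) (z.aut.hom ≫ χ))
        rwa [Category.id_comp] at h
      have h2 : 𝒳.p.IsHomLift g (χ ≫ x.aut.hom) := by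
        have h := (inferInstance : 𝒳.p.IsHomLift (g ≫ 𝟙 _) (χ ≫ x.aut.hom))
        rwa [Category.comp_id] at h
      apply IsStronglyCartesian.ext 𝒳.p f φ.hom (g := g)
      rw [Category.assoc, Category.assoc, hc, φ.comm, reassoc_of% hc, ψ.comm]
    refine ⟨⟨χ, comm⟩, ⟨(BasedFunctor.isHomLift_iff (FibCat.inertiaToBase F) g _).1
      (inferInstanceAs (𝒳.p.IsHomLift g χ)), FibCat.InertiaObj.hom_ext hc⟩, ?_⟩
    rintro τ ⟨hτ, hτc⟩
    have := hτ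
    have : 𝒳.p.IsHomLift g τ.hom := inertia_lift_hom g τ
    exact FibCat.InertiaObj.hom_ext
      (IsStronglyCartesian.map_uniq 𝒳.p f φ.hom rfl ψ.hom τ.hom (by rw [← hτc]; rfl))

theorem exists_inertia_lift (x : (FibCat.inertia F).obj) {R S : C} (f : R ⟶ S) {b : 𝒳.obj}
    (φ : b ⟶ x.pt) [𝒳.p.IsStronglyCartesian f φ] (hF : 𝒴.p.IsStronglyCartesian f (F.map φ)) :
    ∃ (z : (FibCat.inertia F).obj) (χ : z ⟶ x), (FibCat.inertia F).p.IsStronglyCartesian f χ := by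
  have hS := IsHomLift.codomain_eq 𝒳.p f φ
  have := inertia_aut_lift x hS
  have : 𝒳.p.IsHomLift (𝟙 S) x.aut.inv := IsHomLift.lift_id_inv 𝒳.p S x.aut
  have := IsCartesian.of_comp_iso 𝒳.p f φ x.aut
  let α := IsCartesian.domainUniqueUpToIso 𝒳.p f φ (φ ≫ x.aut.hom)
  have hα : α.hom ≫ φ = φ ≫ x.aut.hom := IsCartesian.fac 𝒳.p f φ (φ ≫ x.aut.hom)
  have hkill : F.map α.hom = 𝟙 (F.obj b) := by
    have : 𝒴.p.IsHomLift (𝟙 R) (𝟙 (F.obj b)) :=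
      IsHomLift.id ((F.w_obj b).trans (IsHomLift.domain_eq 𝒳.p f φ))
    apply IsCartesian.ext 𝒴.p f (F.map φ)
    rw [← F.toFunctor.map_comp, hα, F.toFunctor.map_comp, x.map_aut, Category.id_comp, Category.comp_id]
  let z : (FibCat.inertia F).obj := ⟨b, α, hkill⟩
  let χ : z ⟶ x := ⟨φ, hα⟩
  have : 𝒳.p.IsStronglyCartesian f χ.hom := ‹𝒳.p.IsStronglyCartesian f φ›
  exact ⟨z, χ, inertia_isStronglyCartesian f χ⟩

theorem inertia_isFibered [𝒳.p.IsFibered] (hF : Cart F) : (FibCat.inertia F).p.IsFibered := by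
  refine IsFibered.of_exists_isStronglyCartesian fun x R f => ?_
  obtain ⟨b, φ, hφ⟩ := exists_stronglyCartesian 𝒳.p (rfl : 𝒳.p.obj x.pt = _) f
  exact @exists_inertia_lift _ _ _ _ _ x _ _ f _ φ hφ (hF f φ hφ)

theorem inertia_isFibGrpd (h : FibCat.IsFibGrpd 𝒳.p) (hF : Cart F) : FibCat.IsFibGrpd (FibCat.inertia F).p := by
  have := isFibered_of_isFibGrpd _ h
  have := inertia_isFibered hF
  refine isFibGrpd_of_lifts _ (fun x V f => ?_) (fun R S f y x φ hφ => ?_)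
  · obtain ⟨b, φ, hφ⟩ := exists_stronglyCartesian (FibCat.inertia F).p rfl f
    exact ⟨b, φ, inferInstance⟩
  · have := hφ
    have := inertia_lift_hom f φ
    have := stronglyCartesian_of_isFibGrpd _ h f φ.hom
    exact inertia_isStronglyCartesian f φ

theorem diag_map_eq {x y : 𝒳.obj} (φ : x ⟶ y) :
    ((FibCat.diag F).map φ).hom.fst = φ ∧ ((FibCat.diag F).map φ).hom.snd = φ := ⟨rfl, rfl⟩

/-- The isomorphism `(α, 𝟙) : Δ x ≅ Δ x` of an object of the inertia. -/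
def diagAut (x : FibCat.InertiaObj F) : (FibCat.diag F).obj x.pt ≅ (FibCat.diag F).obj x.pt :=
  ObjectProperty.isoMk _ (CategoricalPullback.mkIso x.aut (Iso.refl _)
    (show F.map x.aut.hom ≫ 𝟙 (F.obj x.pt) = 𝟙 (F.obj x.pt) ≫ F.map (𝟙 x.pt) by rw [x.map_aut]; simp))

/-- The comparison functor from the inertia to the self-product of the diagonal. -/
def inertiaCompare (F : 𝒳 ⥤ᵇ 𝒴) : FibCat.inertia F ⥤ᵇ FibCat.fp (FibCat.diag F) (FibCat.diag F) where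
  toFunctor :=
    { obj := fun x => ⟨⟨x.pt, x.pt, diagAut x⟩,
        (BasedFunctor.isHomLift_iff (FibCat.fpFst F F) _ _).1
          (inertia_aut_lift x rfl : 𝒳.p.IsHomLift (𝟙 (𝒳.p.obj x.pt)) x.aut.hom)⟩
      map := fun {x y} φ => fpHom φ.hom φ.hom (fp_hom_ext φ.comm.symm
        (show φ.hom ≫ 𝟙 y.pt = 𝟙 x.pt ≫ φ.hom by simp))
      map_id := fun _ => fp_hom_ext rfl rfl
      map_comp := fun _ _ => fp_hom_ext rfl rfl }
  w := rfl

theorem inertiaCompare_isEquivOver (F : 𝒳 ⥤ᵇ 𝒴) : FibCat.IsEquivOver (inertiaCompare F) := by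
  have : (inertiaCompare F).toFunctor.Faithful :=
    ⟨fun {x y} φ ψ h => FibCat.InertiaObj.hom_ext (congrArg (fun k => k.hom.fst) h)⟩
  have : (inertiaCompare F).toFunctor.Full := ⟨fun {x y} θ => by
    have h := θ.hom.w
    have h₂ : θ.hom.fst ≫ 𝟙 y.pt = 𝟙 x.pt ≫ θ.hom.snd := congrArg (fun k => k.hom.snd) h
    have h₁ : θ.hom.fst ≫ y.aut.hom = x.aut.hom ≫ θ.hom.snd := congrArg (fun k => k.hom.fst) h
    have e : θ.hom.fst = θ.hom.snd := (Category.comp_id _).symm.trans (h₂.trans (Category.id_comp _))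
    refine ⟨⟨θ.hom.fst, ?_⟩, fp_hom_ext rfl e⟩
    exact (congrArg (x.aut.hom ≫ ·) e).trans h₁.symm⟩
  refine isEquivOver_of_essSurjOver _ fun η => ?_
  let θ := η.obj.iso
  let a : η.obj.fst ≅ η.obj.snd := (FibCat.fpFst F F).toFunctor.mapIso θ
  let b : η.obj.fst ≅ η.obj.snd := (FibCat.fpSnd F F).toFunctor.mapIso θ
  have hab : F.map a.hom ≫ 𝟙 _ = 𝟙 _ ≫ F.map b.hom := θ.hom.hom.w
  rw [Category.comp_id, Category.id_comp] at hab
  have hk : F.map (a ≪≫ b.symm).hom = 𝟙 (F.obj η.obj.fst) := by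
    rw [Iso.trans_hom, F.toFunctor.map_comp, hab, ← F.toFunctor.map_comp, Iso.symm_hom,
      Iso.hom_inv_id, F.toFunctor.map_id]
  let ξ : (FibCat.inertia F).obj := ⟨η.obj.fst, a ≪≫ b.symm, hk⟩
  refine ⟨ξ, ObjectProperty.isoMk _ (CategoricalPullback.mkIso (Iso.refl _) b ?_), ?_⟩
  · apply fp_hom_ext
    · show 𝟙 _ ≫ a.hom = (a.hom ≫ b.inv) ≫ b.hom
      simp
    · show 𝟙 _ ≫ b.hom = 𝟙 _ ≫ b.hom
      rfl
  · exact fp_lift_of_fst _ _ (IsHomLift.id rfl)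

theorem diag_isEquivOver_of_full_faithful [F.toFunctor.Full] [F.toFunctor.Faithful] :
    FibCat.IsEquivOver (FibCat.diag F) := by
  have : (FibCat.diag F).toFunctor.Faithful :=
    ⟨fun {x y} φ ψ h => congrArg (fun k => k.hom.fst) h⟩
  have : (FibCat.diag F).toFunctor.Full := ⟨fun {x y} θ => by
    have h : F.map θ.hom.fst ≫ 𝟙 (F.obj y) = 𝟙 (F.obj x) ≫ F.map θ.hom.snd := θ.hom.w
    have h' : F.map θ.hom.fst = F.map θ.hom.snd :=
      (Category.comp_id _).symm.trans (h.trans (Category.id_comp _))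
    exact ⟨θ.hom.fst, fp_hom_ext rfl (F.toFunctor.map_injective h')⟩⟩
  refine isEquivOver_of_essSurjOver _ fun η => ?_
  refine ⟨η.obj.fst, ObjectProperty.isoMk _ (CategoricalPullback.mkIso (Iso.refl _)
    (F.toFunctor.preimageIso η.obj.iso) ?_), fp_lift_of_fst _ _ (IsHomLift.id rfl)⟩
  show F.map (𝟙 _) ≫ η.obj.iso.hom = 𝟙 _ ≫ F.map (F.toFunctor.preimageIso η.obj.iso).hom
  simp

theorem faithful_of_diag (h : FibCat.IsEquivOver (FibCat.diag F)) : F.toFunctor.Faithful := by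
  obtain ⟨⟨_, _⟩, -⟩ := (isEquivOver_iff _).1 h
  refine ⟨fun {x y} s t e => ?_⟩
  let θ : (FibCat.diag F).obj x ⟶ (FibCat.diag F).obj y :=
    fpHom s t (show F.map s ≫ 𝟙 _ = 𝟙 _ ≫ F.map t by simp [e])
  obtain ⟨φ, hφ⟩ := (FibCat.diag F).toFunctor.map_surjective θ
  exact (congrArg (fun k => k.hom.fst) hφ).symm.trans (congrArg (fun k => k.hom.snd) hφ)

theorem full_of_diag (h𝒳 : FibCat.IsFibGrpd 𝒳.p) (h𝒴 : FibCat.IsFibGrpd 𝒴.p)
    (h : FibCat.IsEquivOver (FibCat.diag F)) : F.toFunctor.Full := by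
  have := isFibered_of_isFibGrpd _ h𝒳
  have hes := essSurjOver_of_isEquivOver h
  refine full_of_fiber F (cart_of_isFibGrpd F h𝒴) fun U => ⟨fun {x y} φ => ?_⟩
  have hg := isGroupoid_fiber _ h𝒴 U
  have : IsIso φ := IsGroupoid.all_isIso φ
  let e : F.obj x.1 ≅ F.obj y.1 := Fiber.fiberInclusion.mapIso (asIso φ)
  have he : 𝒴.p.IsHomLift (𝟙 (𝒳.p.obj x.1)) e.hom := by rw [x.2]; exact φ.2
  let η : (FibCat.fp F F).obj := ⟨⟨x.1, y.1, e⟩, he⟩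
  obtain ⟨c, i, hi⟩ := hes η
  let a : c ≅ x.1 := (FibCat.fpFst F F).toFunctor.mapIso i
  let b : c ≅ y.1 := (FibCat.fpSnd F F).toFunctor.mapIso i
  have hw : F.map a.hom ≫ e.hom = 𝟙 _ ≫ F.map b.hom := i.hom.hom.w
  rw [Category.id_comp] at hw
  have hab : F.map (a.inv ≫ b.hom) = φ.1 := by
    rw [F.toFunctor.map_comp, ← hw, ← Category.assoc, ← F.toFunctor.map_comp, Iso.inv_hom_id,
      F.toFunctor.map_id, Category.id_comp]
    rfl
  exact ⟨⟨a.inv ≫ b.hom, (BasedFunctor.isHomLift_iff F (𝟙 U) (a.inv ≫ b.hom)).1 (hab ▸ φ.2)⟩,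
    Subtype.ext hab⟩

end Inertia

section Setoid

variable {𝒳 : BasedCategory.{v₂, u₂} C} {𝒴 : BasedCategory.{v₃, u₃} C}

theorem fibSetoid_hom_ext (h : FibCat.IsFibSetoid 𝒳.p) {R S : C} (f : R ⟶ S) {a b : 𝒳.obj}
    (φ ψ : a ⟶ b) [𝒳.p.IsHomLift f φ] [𝒳.p.IsHomLift f ψ] : φ = ψ := by
  have := stronglyCartesian_of_isFibGrpd _ h.1 f φ
  let χ := IsCartesian.map 𝒳.p f φ ψ
  have : 𝒳.p.IsHomLift (𝟙 R) (𝟙 a) := IsHomLift.id (IsHomLift.domain_eq 𝒳.p f φ)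
  have := h.2 R
  have hh : Fiber.homMk 𝒳.p R χ = Fiber.homMk 𝒳.p R (𝟙 a) := Subsingleton.elim _ _
  have hχ : χ = 𝟙 a := congrArg Subtype.val hh
  rw [← IsCartesian.fac 𝒳.p f φ ψ]
  show φ = χ ≫ φ
  rw [hχ, Category.id_comp]

theorem isFibSetoid_of_inertia (h : FibCat.IsFibGrpd 𝒳.p)
    (he : FibCat.IsEquivOver (FibCat.inertiaToBase (FibCat.toSelf 𝒳))) : FibCat.IsFibSetoid 𝒳.p := by
  obtain ⟨⟨_, _⟩, -⟩ := (isEquivOver_iff _).1 he
  refine ⟨h, fun U x y => ⟨fun φ ψ => ?_⟩⟩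
  have := isGroupoid_fiber _ h U
  have : IsIso φ := IsGroupoid.all_isIso φ
  have : IsIso ψ := IsGroupoid.all_isIso ψ
  let β : x.1 ≅ x.1 := Fiber.fiberInclusion.mapIso (asIso φ ≪≫ (asIso ψ).symm)
  have hβ : (FibCat.toSelf 𝒳).map β.hom = 𝟙 (𝒳.p.obj x.1) := by
    have : 𝒳.p.IsHomLift (𝟙 U) β.hom := (asIso φ ≪≫ (asIso ψ).symm).hom.2
    show 𝒳.p.map β.hom = _
    rw [IsHomLift.fac' 𝒳.p (𝟙 U) β.hom]
    simp
  let X₁ : (FibCat.inertia (FibCat.toSelf 𝒳)).obj := ⟨x.1, β, hβ⟩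
  let X₂ : (FibCat.inertia (FibCat.toSelf 𝒳)).obj := ⟨x.1, Iso.refl _, (FibCat.toSelf 𝒳).toFunctor.map_id _⟩
  obtain ⟨k, hk⟩ := (FibCat.inertiaToBase (FibCat.toSelf 𝒳)).toFunctor.map_surjective
    (X := X₁) (Y := X₂) (𝟙 x.1)
  have hk1 : k.hom = 𝟙 x.1 := hk
  have hb : β.hom ≫ k.hom = k.hom ≫ 𝟙 x.1 := k.comm
  rw [hk1, Category.comp_id, Category.comp_id] at hb
  have h1 : (asIso φ ≪≫ (asIso ψ).symm).hom = 𝟙 x := Fiber.hom_ext (hb : _)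
  calc φ = φ ≫ CategoryTheory.inv ψ ≫ ψ := by simp
    _ = (φ ≫ CategoryTheory.inv ψ) ≫ ψ := (Category.assoc _ _ _).symm
    _ = ψ := by rw [show φ ≫ CategoryTheory.inv ψ = 𝟙 x from h1, Category.id_comp]

theorem exists_twoIso_of_setoid (h𝒴 : FibCat.IsFibSetoid 𝒴.p) (f g : 𝒳 ⥤ᵇ 𝒴)
    (hfg : ∀ (U : C) (x : 𝒳.p.Fiber U),
      Nonempty ((FibCat.fiberFunctor f U).obj x ≅ (FibCat.fiberFunctor g U).obj x)) :
    Nonempty (Unique (f ≅ g)) := by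
  let e : ∀ x : 𝒳.obj, f.obj x ≅ g.obj x := fun x =>
    Fiber.fiberInclusion.mapIso (hfg (𝒳.p.obj x) ⟨x, rfl⟩).some
  have he : ∀ x, 𝒴.p.IsHomLift (𝟙 (𝒳.p.obj x)) (e x).hom := fun x =>
    (hfg (𝒳.p.obj x) ⟨x, rfl⟩).some.hom.2
  let η := BasedNatIso.mkNatIso (F := f) (G := g) (NatIso.ofComponents e (fun {a b} φ => by
    have := he a
    have := he b
    have h1 : 𝒴.p.IsHomLift (𝒳.p.map φ) (f.map φ ≫ (e b).hom) := by
      have h := (inferInstance : 𝒴.p.IsHomLift (𝒳.p.map φ ≫ 𝟙 _) (f.map φ ≫ (e b).hom))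
      rwa [Category.comp_id] at h
    have h2 : 𝒴.p.IsHomLift (𝒳.p.map φ) ((e a).hom ≫ g.map φ) := by
      have h := (inferInstance : 𝒴.p.IsHomLift (𝟙 _ ≫ 𝒳.p.map φ) ((e a).hom ≫ g.map φ))
      rwa [Category.id_comp] at h
    exact fibSetoid_hom_ext h𝒴 (𝒳.p.map φ) _ _)) he
  refine ⟨{ default := η, uniq := fun θ => ?_ }⟩
  apply Iso.ext
  apply BasedNatTrans.ext
  apply NatTrans.ext
  funext x
  exact fibSetoid_hom_ext h𝒴 (𝟙 (𝒳.p.obj x)) (θ.hom.toNatTrans.app x) (η.hom.toNatTrans.app x)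

theorem isFibSetoid_of_isFibSet {p : 𝒳.obj ⥤ C} (h : FibCat.IsFibSet p) : FibCat.IsFibSetoid p :=
  ⟨h.1, fun U x y => (h.2 U).subsingleton x y⟩

theorem twoMorphism_eq_eqToHom (h𝒴 : FibCat.IsFibSet 𝒴.p) {F G : 𝒳 ⥤ᵇ 𝒴} (α : F ⟶ G) :
    ∃ h : F = G, α = eqToHom h := by
  have hs := isFibSetoid_of_isFibSet h𝒴
  have hobj : ∀ x, F.obj x = G.obj x := fun x =>
    congrArg Subtype.val ((h𝒴.2 (𝒳.p.obj x)).eq_of_hom
      (X := ⟨F.obj x, F.w_obj x⟩) (Y := ⟨G.obj x, G.w_obj x⟩) ⟨α.toNatTrans.app x, α.isHomLift' x⟩)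
  have hF : F = G := by
    obtain ⟨F', hFw⟩ := F
    obtain ⟨G', hGw⟩ := G
    have : F' = G' := Functor.ext hobj fun x y φ => by
      have h1 : 𝒴.p.IsHomLift (𝒳.p.map φ) (F'.map φ) :=
        BasedFunctor.preserves_isHomLift ⟨F', hFw⟩ (𝒳.p.map φ) φ
      have h2 : 𝒴.p.IsHomLift (𝒳.p.map φ) (G'.map φ) :=
        BasedFunctor.preserves_isHomLift ⟨G', hGw⟩ (𝒳.p.map φ) φ
      exact fibSetoid_hom_ext hs (𝒳.p.map φ) _ _
    subst this
    rfl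
  subst hF
  refine ⟨rfl, ?_⟩
  apply BasedNatTrans.ext
  apply NatTrans.ext
  funext x
  exact fibSetoid_hom_ext hs (𝟙 (𝒳.p.obj x)) (α.toNatTrans.app x) ((𝟙 F : F ⟶ F).toNatTrans.app x)

/-- Isomorphic inside a fibre. -/
def fibIsoRel (𝒳 : BasedCategory.{v₂, u₂} C) (x y : 𝒳.obj) : Prop :=
  ∃ e : x ≅ y, 𝒳.p.IsHomLift (𝟙 (𝒳.p.obj x)) e.hom

theorem fibIsoRel_proj {x y : 𝒳.obj} (h : fibIsoRel 𝒳 x y) : 𝒳.p.obj y = 𝒳.p.obj x := by
  obtain ⟨e, he⟩ := h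
  exact IsHomLift.codomain_eq 𝒳.p (𝟙 (𝒳.p.obj x)) e.hom

theorem fibIsoRel_equivalence : Equivalence (fibIsoRel 𝒳) := by
  refine ⟨fun x => ⟨Iso.refl x, IsHomLift.id rfl⟩, fun {x y} h => ?_, fun {x y z} h h' => ?_⟩
  · have hp := fibIsoRel_proj h
    obtain ⟨e, he⟩ := h
    refine ⟨e.symm, ?_⟩
    rw [hp]
    exact IsHomLift.lift_id_inv 𝒳.p _ e
  · have hp := fibIsoRel_proj h
    obtain ⟨e, he⟩ := h
    obtain ⟨e', he'⟩ := h'
    refine ⟨e ≪≫ e', ?_⟩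
    rw [hp] at he'
    have h := (inferInstance : 𝒳.p.IsHomLift (𝟙 (𝒳.p.obj x) ≫ 𝟙 (𝒳.p.obj x)) (e.hom ≫ e'.hom))
    simpa using h

/-- A fixed representative in each isomorphism class of each fibre. -/
noncomputable def fibRep (x : 𝒳.obj) : 𝒳.obj :=
  (Quotient.mk (⟨fibIsoRel 𝒳, fibIsoRel_equivalence⟩ : Setoid 𝒳.obj) x).out

theorem fibRep_rel (x : 𝒳.obj) : fibIsoRel 𝒳 (fibRep x) x :=
  Quotient.exact (s := (⟨fibIsoRel 𝒳, fibIsoRel_equivalence⟩ : Setoid 𝒳.obj))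
    (Quotient.out_eq (s := (⟨fibIsoRel 𝒳, fibIsoRel_equivalence⟩ : Setoid 𝒳.obj)) _)

theorem fibRep_congr {x y : 𝒳.obj} (h : fibIsoRel 𝒳 x y) : fibRep x = fibRep y :=
  congrArg Quotient.out (Quotient.sound h)

theorem exists_fibSet_equiv (h : FibCat.IsFibSetoid 𝒳.p) :
    ∃ (𝒴 : BasedCategory.{v₂, u₂} C) (F : 𝒳 ⥤ᵇ 𝒴), FibCat.IsFibSet 𝒴.p ∧ FibCat.IsEquivOver F := by
  let P : ObjectProperty 𝒳.obj := fun x => fibRep x = x
  let 𝒴 : BasedCategory.{v₂, u₂} C := BasedCategory.ofFunctor (P.ι ⋙ 𝒳.p)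
  let ι : 𝒴 ⥤ᵇ 𝒳 := { toFunctor := P.ι, w := rfl }
  have : ι.toFunctor.Full := P.full_ι
  have : ι.toFunctor.Faithful := P.faithful_ι
  have hι : FibCat.IsEquivOver ι := by
    refine isEquivOver_of_essSurjOver ι fun x => ?_
    obtain ⟨e, he⟩ := fibRep_rel x
    refine ⟨⟨fibRep x, fibRep_congr ⟨e, he⟩⟩, e, ?_⟩
    rw [IsHomLift.codomain_eq 𝒳.p (𝟙 (𝒳.p.obj (fibRep x))) e.hom]
    exact he
  obtain ⟨F, hF, -⟩ := isEquivOver_symm hι
  refine ⟨𝒴, F, ⟨isFibGrpd_of_isEquivOver hF h.1, fun U => ⟨fun x y => ⟨fun φ ψ => ?_⟩, fun {x y} φ => ?_⟩⟩, hF⟩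
  · have := h.2 U
    have := fiberFunctor_faithful ι U
    exact (FibCat.fiberFunctor ι U).map_injective (Subsingleton.elim _ _)
  · apply Subtype.ext
    apply ObjectProperty.FullSubcategory.ext
    have := isGroupoid_fiber _ h.1 U
    have : IsIso ((FibCat.fiberFunctor ι U).map φ) := IsGroupoid.all_isIso _
    let e : x.1.obj ≅ y.1.obj := Fiber.fiberInclusion.mapIso (asIso ((FibCat.fiberFunctor ι U).map φ))
    have he : fibIsoRel 𝒳 x.1.obj y.1.obj := ⟨e, by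
      rw [show 𝒳.p.obj x.1.obj = U from x.2]
      exact ((FibCat.fiberFunctor ι U).map φ).2⟩
    exact x.1.property.symm.trans ((fibRep_congr he).trans y.1.property)

end Setoid

end Groth.Agent.FibBasics
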