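import Groth.Agent.FibBasics.Basic
import Mathlib.CategoryTheory.Bicategory.Basic

/-!
Whiskering of 2-isomorphisms over the base; composition with an internal equivalence.
-/

set_option autoImplicit false

universe v₅ u₅ v₄ u₄ v₃ u₃ v₂ u₂ w v u

open CategoryTheory CategoryTheory.Functor

namespace Groth.Agent.FibBasics

section Whisker

variable {C : Type u} [Category.{v} C] {𝒳 : BasedCategory.{v₂, u₂} C} {𝒴 : BasedCategory.{v₃, u₃} C}
  {𝒵 : BasedCategory.{v₄, u₄} C}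

/-- Left whiskering of a 2-isomorphism over the base. -/
def bWhiskerL (a : 𝒳 ⥤ᵇ 𝒴) {f g : 𝒴 ⥤ᵇ 𝒵} (e : f ≅ g) :
    BasedFunctor.comp a f ≅ BasedFunctor.comp a g :=
  BasedNatIso.mkNatIso (isoWhiskerLeft a.toFunctor ((BasedNatTrans.forgetful _ _).mapIso e))
    (fun x => BasedNatTrans.isHomLift e.hom (a.w_obj x))

/-- Right whiskering of a 2-isomorphism over the base. -/
def bWhiskerR {a b : 𝒳 ⥤ᵇ 𝒴} (e : a ≅ b) (f : 𝒴 ⥤ᵇ 𝒵) :
    BasedFunctor.comp a f ≅ BasedFunctor.comp b f :=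
  BasedNatIso.mkNatIso (isoWhiskerRight ((BasedNatTrans.forgetful _ _).mapIso e) f.toFunctor)
    (fun x => by
      have : 𝒴.p.IsHomLift (𝟙 (𝒳.p.obj x)) (e.hom.toNatTrans.app x) := e.hom.isHomLift' x
      exact BasedFunctor.preserves_isHomLift f _ (e.hom.toNatTrans.app x))

theorem isEquivOver_of_iso {F G : 𝒳 ⥤ᵇ 𝒴} (e : F ≅ G) (h : FibCat.IsEquivOver F) : FibCat.IsEquivOver G := by
  obtain ⟨K, ⟨e₁⟩, ⟨e₂⟩⟩ := h
  exact ⟨K, ⟨(bWhiskerR e K).symm ≪≫ e₁⟩, ⟨(bWhiskerL K e).symm ≪≫ e₂⟩⟩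

theorem isEquivOver_comp {F : 𝒳 ⥤ᵇ 𝒴} {G : 𝒴 ⥤ᵇ 𝒵} (hF : FibCat.IsEquivOver F)
    (hG : FibCat.IsEquivOver G) : FibCat.IsEquivOver (BasedFunctor.comp F G) := by
  obtain ⟨F', ⟨a₁⟩, ⟨a₂⟩⟩ := hF
  obtain ⟨G', ⟨b₁⟩, ⟨b₂⟩⟩ := hG
  exact ⟨BasedFunctor.comp G' F',
    ⟨bWhiskerL F (bWhiskerR b₁ F') ≪≫ a₁⟩, ⟨bWhiskerL G' (bWhiskerR a₂ G) ≪≫ b₂⟩⟩

end Whisker

section Bicat

open Bicategory

variable {B : Type u} [Bicategory.{w, v} B] {a b : B}

theorem precomp_isEquivalence (c : B) (f : a ⟶ b) (g : b ⟶ a) (η : f ≫ g ≅ 𝟙 a) (ε : g ≫ f ≅ 𝟙 b) :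
    (Bicategory.precomp c f).IsEquivalence := by
  refine (CategoryTheory.Equivalence.mk (Bicategory.precomp c f) (Bicategory.precomp c g)
    (NatIso.ofComponents (fun h => ((α_ g f h).symm ≪≫ whiskerRightIso ε h ≪≫ λ_ h).symm) ?_)
    (NatIso.ofComponents (fun h => (α_ f g h).symm ≪≫ whiskerRightIso η h ≪≫ λ_ h) ?_)).isEquivalence_functor
  · intro h k θ
    dsimp [Bicategory.precomp]
    simp only [Category.assoc, whiskerRightIso_hom, whiskerRightIso_inv, whiskerLeftIso_hom, whiskerLeftIso_inv]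
    rw [← associator_naturality_right, ← whisker_exchange_assoc]
    simp
  · intro h k θ
    dsimp [Bicategory.precomp]
    simp only [Category.assoc, whiskerRightIso_hom, whiskerRightIso_inv, whiskerLeftIso_hom, whiskerLeftIso_inv]
    rw [associator_inv_naturality_right_assoc, whisker_exchange_assoc]
    simp

theorem postcomp_isEquivalence (c : B) (f : a ⟶ b) (g : b ⟶ a) (η : f ≫ g ≅ 𝟙 a) (ε : g ≫ f ≅ 𝟙 b) :
    (Bicategory.postcomp c f).IsEquivalence := by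
  refine (CategoryTheory.Equivalence.mk (Bicategory.postcomp c f) (Bicategory.postcomp c g)
    (NatIso.ofComponents (fun h => (α_ h f g ≪≫ whiskerLeftIso h η ≪≫ ρ_ h).symm) ?_)
    (NatIso.ofComponents (fun h => α_ h g f ≪≫ whiskerLeftIso h ε ≪≫ ρ_ h) ?_)).isEquivalence_functor
  · intro h k θ
    dsimp [Bicategory.postcomp]
    simp only [Category.assoc, whiskerRightIso_hom, whiskerRightIso_inv, whiskerLeftIso_hom, whiskerLeftIso_inv]
    rw [← associator_inv_naturality_left, whisker_exchange_assoc]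
    simp
  · intro h k θ
    dsimp [Bicategory.postcomp]
    simp only [Category.assoc, whiskerRightIso_hom, whiskerRightIso_inv, whiskerLeftIso_hom, whiskerLeftIso_inv]
    rw [associator_naturality_left_assoc, ← whisker_exchange_assoc]
    simp

end Bicat

end Groth.Agent.FibBasics
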