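import Groth.Agent.FibBasics.Fp
import Groth.Agent.FibBasics.Whisker

/-!
The 2-Yoneda lemma and representable categories over a base.
-/

set_option autoImplicit false

universe v₃ u₃ v₂ u₂ v u

open CategoryTheory CategoryTheory.Functor CategoryTheory.Limits

namespace Groth.Agent.FibBasics

variable {C : Type u} [Category.{v} C]

section Yoneda

variable {𝒳 : BasedCategory.{v₂, u₂} C} {U : C}

/-- The terminal object of `C/U`. -/
def one (U : C) : (FibCat.overCat U).obj := Over.mk (𝟙 U)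

/-- The structure morphism of an object of `C/U`. -/
def hm (g : (FibCat.overCat U).obj) : (FibCat.overCat U).p.obj g ⟶ U := Over.hom g

/-- The morphism of `g` to the terminal object of `C/U`. -/
def toOne (g : (FibCat.overCat U).obj) : g ⟶ one U :=
  (Over.homMk (Over.hom g) (Category.comp_id _) : (g : Over U) ⟶ Over.mk (𝟙 U))

theorem toOne_unique {g : (FibCat.overCat U).obj} (φ : g ⟶ one U) : φ = toOne g :=
  Over.OverMorphism.ext ((Category.comp_id _).symm.trans (Over.w φ))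

theorem toOne_one : toOne (one U) = 𝟙 _ := (toOne_unique _).symm

theorem hm_w {g g' : (FibCat.overCat U).obj} (h : g ⟶ g') :
    (FibCat.overCat U).p.map h ≫ hm g' = hm g := Over.w h

theorem toOne_lift (g : (FibCat.overCat U).obj) : (FibCat.overCat U).p.IsHomLift (hm g) (toOne g) :=
  IsHomLift.map (FibCat.overCat U).p (toOne g)

theorem based_lift (G : FibCat.overCat U ⥤ᵇ 𝒳) {g g' : (FibCat.overCat U).obj} (h : g ⟶ g') :
    𝒳.p.IsHomLift ((FibCat.overCat U).p.map h) (G.map h) :=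
  (BasedFunctor.isHomLift_iff G _ h).2 (IsHomLift.map (FibCat.overCat U).p h)

theorem based_lift_one (G : FibCat.overCat U ⥤ᵇ 𝒳) (g : (FibCat.overCat U).obj) :
    𝒳.p.IsHomLift (hm g) (G.map (toOne g)) :=
  (BasedFunctor.isHomLift_iff G _ _).2 (toOne_lift g)

/-- Morphisms to the terminal object go to strongly cartesian morphisms. -/
def CartOne (G : FibCat.overCat U ⥤ᵇ 𝒳) : Prop :=
  ∀ g, 𝒳.p.IsStronglyCartesian (hm g) (G.map (toOne g))

theorem cartOne_of_preserves (G : FibCat.overCat U ⥤ᵇ 𝒳) (h : FibCat.PreservesStronglyCartesian G) :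
    CartOne G := fun g =>
  h (hm g) (toOne g) (@stronglyCartesian_of_isFibGrpd _ _ _ _ (FibCat.overCat U).p (isFibGrpd_overForget U)
    _ _ (hm g) g (one U) (toOne g) (toOne_lift g))

theorem cartOne_of_isFibGrpd (G : FibCat.overCat U ⥤ᵇ 𝒳) (h : FibCat.IsFibGrpd 𝒳.p) : CartOne G := fun g =>
  @stronglyCartesian_of_isFibGrpd _ _ _ _ 𝒳.p h _ _ (hm g) _ _ (G.map (toOne g)) (based_lift_one G g)

theorem evalAtId_injective {G H : FibCat.overCat U ⥤ᵇ 𝒳} (hH : CartOne H) (α β : G ⟶ H)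
    (h : (FibCat.evalAtId 𝒳 U).map α = (FibCat.evalAtId 𝒳 U).map β) : α = β := by
  have h' : α.toNatTrans.app (one U) = β.toNatTrans.app (one U) := congrArg Subtype.val h
  apply BasedNatTrans.ext
  apply NatTrans.ext
  funext g
  have := hH g
  have := α.isHomLift' g
  have := β.isHomLift' g
  apply IsCartesian.ext 𝒳.p (hm g) (H.map (toOne g))
  rw [← α.toNatTrans.naturality, ← β.toNatTrans.naturality, h']

theorem evalAtId_surjective {G H : FibCat.overCat U ⥤ᵇ 𝒳} (hH : CartOne H)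
    (θ : (FibCat.evalAtId 𝒳 U).obj G ⟶ (FibCat.evalAtId 𝒳 U).obj H) :
    ∃ α : G ⟶ H, (FibCat.evalAtId 𝒳 U).map α = θ := by
  let t : G.obj (one U) ⟶ H.obj (one U) := θ.1
  have ht : 𝒳.p.IsHomLift (𝟙 U) t := θ.2
  have hl : ∀ g, 𝒳.p.IsHomLift (hm g) (G.map (toOne g) ≫ t) := fun g => by
    have := based_lift_one G g
    have h := (inferInstance : 𝒳.p.IsHomLift (hm g ≫ 𝟙 U) (G.map (toOne g) ≫ t))
    rwa [Category.comp_id] at h
  have hex : ∀ g, ∃ a : G.obj g ⟶ H.obj g, 𝒳.p.IsHomLift (𝟙 ((FibCat.overCat U).p.obj g)) a ∧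
      a ≫ H.map (toOne g) = G.map (toOne g) ≫ t := fun g => by
    have := hH g
    have := hl g
    exact ⟨IsCartesian.map 𝒳.p (hm g) (H.map (toOne g)) (G.map (toOne g) ≫ t), inferInstance,
      IsCartesian.fac 𝒳.p (hm g) (H.map (toOne g)) _⟩
  choose a ha hac using hex
  let α : G ⟶ H :=
    { app := a
      naturality := fun g g' h => by
        have := hH g'
        have := based_lift G h
        have := based_lift H h
        have := ha g
        have := ha g'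
        have hl1 : 𝒳.p.IsHomLift ((FibCat.overCat U).p.map h) (G.map h ≫ a g') := by
          have hh := (inferInstance : 𝒳.p.IsHomLift ((FibCat.overCat U).p.map h ≫ 𝟙 _) (G.map h ≫ a g'))
          rwa [Category.comp_id] at hh
        have hl2 : 𝒳.p.IsHomLift ((FibCat.overCat U).p.map h) (a g ≫ H.map h) := by
          have hh := (inferInstance : 𝒳.p.IsHomLift (𝟙 _ ≫ (FibCat.overCat U).p.map h) (a g ≫ H.map h))
          rwa [Category.id_comp] at hh
        apply IsStronglyCartesian.ext 𝒳.p (hm g') (H.map (toOne g')) (g := (FibCat.overCat U).p.map h)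
        rw [Category.assoc, Category.assoc, hac, ← H.toFunctor.map_comp, toOne_unique (h ≫ toOne g'),
          hac, ← Category.assoc, ← G.toFunctor.map_comp, toOne_unique (h ≫ toOne g')]
      isHomLift' := ha }
  refine ⟨α, Subtype.ext ?_⟩
  show a (one U) = t
  have h1 := hac (one U)
  rw [toOne_one, H.toFunctor.map_id, G.toFunctor.map_id, Category.comp_id, Category.id_comp] at h1
  exact h1

theorem exists_evalAtId_iso [𝒳.p.IsFibered] (x : 𝒳.p.Fiber U) :
    ∃ G : FibCat.overCat U ⥤ᵇ 𝒳, FibCat.PreservesStronglyCartesian G ∧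
      Nonempty ((FibCat.evalAtId 𝒳 U).obj G ≅ x) := by
  have H : ∀ g : (FibCat.overCat U).obj, ∃ (b : 𝒳.obj) (φ : b ⟶ x.1), 𝒳.p.IsStronglyCartesian (hm g) φ := fun g =>
    exists_stronglyCartesian 𝒳.p x.2 (hm g)
  choose b φ hφ using H
  have M : ∀ {g g' : (FibCat.overCat U).obj} (h : g ⟶ g'), ∃ k : b g ⟶ b g', 𝒳.p.IsHomLift ((FibCat.overCat U).p.map h) k ∧ k ≫ φ g' = φ g :=
    fun {g g'} h => by
    have := hφ g'
    have := hφ g
    exact ⟨IsStronglyCartesian.map 𝒳.p (hm g') (φ g') (hm_w h).symm (φ g), inferInstance,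
      IsStronglyCartesian.fac 𝒳.p (hm g') (φ g') (hm_w h).symm (φ g)⟩
  choose k hk hkc using @M
  have uniq : ∀ {g g' : (FibCat.overCat U).obj} (h : g ⟶ g') (m : b g ⟶ b g'), 𝒳.p.IsHomLift ((FibCat.overCat U).p.map h) m →
      m ≫ φ g' = φ g → m = k h := fun {g g'} h m hml hmc => by
    have := hφ g'
    have := hml
    have := hk h
    exact IsStronglyCartesian.ext 𝒳.p (hm g') (φ g') (g := ((FibCat.overCat U).p.map h)) (hmc.trans (hkc h).symm)
  have hb : ∀ g : (FibCat.overCat U).obj, 𝒳.p.obj (b g) = ((FibCat.overCat U).p.obj g) := fun g =>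
    @IsHomLift.domain_eq _ _ _ _ 𝒳.p _ _ _ _ (hm g) (φ g) (hφ g).toIsHomLift
  let G₀ : (FibCat.overCat U).obj ⥤ 𝒳.obj :=
    { obj := b
      map := fun h => k h
      map_id := fun g => (uniq (𝟙 g) (𝟙 (b g)) (by rw [CategoryTheory.Functor.map_id]; exact IsHomLift.id (hb g)) (Category.id_comp _)).symm
      map_comp := fun {g g' g''} h h' => (uniq (h ≫ h') (k h ≫ k h') (by
          have := hk h
          have := hk h'
          rw [(FibCat.overCat U).p.map_comp]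
          infer_instance)
        (by rw [Category.assoc, hkc, hkc])).symm }
  let G : FibCat.overCat U ⥤ᵇ 𝒳 :=
    { toFunctor := G₀
      w := Functor.ext hb fun g g' h => @IsHomLift.fac' _ _ _ _ 𝒳.p _ _ _ _ ((FibCat.overCat U).p.map h) (k h) (hk h) }
  refine ⟨G, ?_, ?_⟩
  · intro R S f g g' h hh
    have : 𝒳.p.IsStronglyCartesian ((FibCat.overCat U).p.map h) (k h) := by
      have := hφ g
      have := hφ g'
      have := hk h
      have : 𝒳.p.IsStronglyCartesian (((FibCat.overCat U).p.map h) ≫ (hm g')) (k h ≫ φ g') := by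
        rw [hkc h, hm_w h]; exact hφ g
      exact IsStronglyCartesian.of_comp (p := 𝒳.p) (f := ((FibCat.overCat U).p.map h)) (g := (hm g')) (ψ := φ g')
    have hl : 𝒳.p.IsHomLift f (k h) :=
      (BasedFunctor.isHomLift_iff G f h).2 hh.toIsHomLift
    have h2 := (isStronglyCartesian_map_iff_lift 𝒳.p ((FibCat.overCat U).p.map h) (k h)).1 this
    exact (isStronglyCartesian_map_iff_lift 𝒳.p f (k h)).2 h2
  · have := hφ (one U)
    have hl : 𝒳.p.IsHomLift (𝟙 U) (φ (one U)) :=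
      (hφ (one U)).toIsHomLift
    have : 𝒳.p.IsStronglyCartesian (𝟙 U) (φ (one U)) := hφ (one U)
    have hi : IsIso (φ (one U)) := IsStronglyCartesian.isIso_of_base_isIso 𝒳.p (𝟙 U) _
    let m : (FibCat.evalAtId 𝒳 U).obj G ⟶ x := ⟨φ (one U), hl⟩
    have : IsIso m := isIso_fiber_hom 𝒳.p m hi
    exact ⟨asIso m⟩

theorem evalAtId_isEquivalence (h : FibCat.IsFibGrpd 𝒳.p) : (FibCat.evalAtId 𝒳 U).IsEquivalence := by
  have := isFibered_of_isFibGrpd _ h
  exact
  { faithful := ⟨fun {G H} α β e => evalAtId_injective (cartOne_of_isFibGrpd H h) α β e⟩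
    full := ⟨fun {G H} θ => evalAtId_surjective (cartOne_of_isFibGrpd H h) θ⟩
    essSurj := ⟨fun x => by
      obtain ⟨G, -, e⟩ := exists_evalAtId_iso x
      exact ⟨G, e⟩⟩ }

theorem evalAtId_cart_isEquivalence [𝒳.p.IsFibered] :
    ((ObjectProperty.ι (FibCat.PreservesStronglyCartesian (𝒳 := FibCat.overCat U) (𝒴 := 𝒳))) ⋙
      FibCat.evalAtId 𝒳 U).IsEquivalence :=
  { faithful := ⟨fun {G H} α β e => ObjectProperty.hom_ext _
      (evalAtId_injective (cartOne_of_preserves H.obj H.property) α.hom β.hom e)⟩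
    full := ⟨fun {G H} θ => by
      obtain ⟨α, hα⟩ := evalAtId_surjective (cartOne_of_preserves H.obj H.property) θ
      exact ⟨ObjectProperty.homMk α, hα⟩⟩
    essSurj := ⟨fun x => by
      obtain ⟨G, hG, e⟩ := exists_evalAtId_iso x
      exact ⟨⟨G, hG⟩, e⟩⟩ }

end Yoneda

section Representable

variable {𝒳 : BasedCategory.{v₂, u₂} C}

theorem over_unique_hom {U : C} (g : (FibCat.overCat U).obj) : Nonempty (Unique (g ⟶ one U)) :=
  ⟨{ default := toOne g, uniq := fun φ => toOne_unique φ }⟩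

theorem terminal_of_isEquivOver {U : C} {F : 𝒳 ⥤ᵇ FibCat.overCat U} (hF : FibCat.IsEquivOver F) :
    ∃ ξ : 𝒳.obj, 𝒳.p.obj ξ = U ∧ ∀ ρ : 𝒳.obj, Nonempty (Unique (ρ ⟶ ξ)) := by
  obtain ⟨⟨_, _⟩, hes⟩ := (isEquivOver_iff F).1 hF
  obtain ⟨ξ, e, he⟩ := hes (one U)
  refine ⟨ξ, ?_, fun ρ => ?_⟩
  · exact (F.w_obj ξ).symm.trans (@IsHomLift.domain_eq _ _ _ _ (FibCat.overCat U).p _ _ _ _ _ e.hom he)
  · refine ⟨{ default := F.toFunctor.preimage (toOne (F.obj ρ) ≫ e.inv), uniq := fun φ => ?_ }⟩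
    apply F.toFunctor.map_injective
    rw [Functor.map_preimage, ← toOne_unique (F.map φ ≫ e.hom)]
    simp

theorem exists_equiv_of_terminal (h : FibCat.IsFibGrpd 𝒳.p) (ξ : 𝒳.obj)
    (hξ : ∀ ρ : 𝒳.obj, Nonempty (Unique (ρ ⟶ ξ))) :
    ∃ F : 𝒳 ⥤ᵇ FibCat.overCat (𝒳.p.obj ξ), FibCat.IsEquivOver F := by
  choose u hu using fun ρ => (⟨(hξ ρ).some.default, fun φ => (hξ ρ).some.uniq φ⟩ :
    ∃ u : ρ ⟶ ξ, ∀ φ : ρ ⟶ ξ, φ = u)
  let F₀ : 𝒳.obj ⥤ Over (𝒳.p.obj ξ) :=
    { obj := fun ρ => Over.mk (𝒳.p.map (u ρ))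
      map := fun {a b} φ => Over.homMk (𝒳.p.map φ) (by
        show 𝒳.p.map φ ≫ 𝒳.p.map (u b) = 𝒳.p.map (u a)
        rw [← 𝒳.p.map_comp, hu a (φ ≫ u b)])
      map_id := fun a => Over.OverMorphism.ext (𝒳.p.map_id a)
      map_comp := fun φ ψ => Over.OverMorphism.ext (𝒳.p.map_comp φ ψ) }
  let F : 𝒳 ⥤ᵇ FibCat.overCat (𝒳.p.obj ξ) := { toFunctor := F₀, w := rfl }
  have : F.toFunctor.Faithful := ⟨fun {a b} φ ψ e => by
    have e' : 𝒳.p.map φ = 𝒳.p.map ψ := congrArg Over.Hom.left e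
    have : 𝒳.p.IsHomLift (𝒳.p.map φ) ψ := e' ▸ IsHomLift.map 𝒳.p ψ
    have := h.isStronglyCartesian (u b)
    have : 𝒳.p.IsHomLift (𝒳.p.map φ) φ := IsHomLift.map 𝒳.p φ
    exact IsStronglyCartesian.ext 𝒳.p (𝒳.p.map (u b)) (u b) (g := 𝒳.p.map φ)
      ((hu a (φ ≫ u b)).trans (hu a (ψ ≫ u b)).symm)⟩
  have : F.toFunctor.Full := ⟨fun {a b} k => by
    let g : 𝒳.p.obj a ⟶ 𝒳.p.obj b := k.left
    have hg : g ≫ 𝒳.p.map (u b) = 𝒳.p.map (u a) := Over.w k
    have := h.isStronglyCartesian (u b)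
    have : 𝒳.p.IsHomLift (𝒳.p.map (u a)) (u a) := IsHomLift.map 𝒳.p (u a)
    let χ := IsStronglyCartesian.map 𝒳.p (𝒳.p.map (u b)) (u b) (g := g) hg.symm (u a)
    exact ⟨χ, Over.OverMorphism.ext (IsHomLift.eq_of_isHomLift 𝒳.p g χ).symm⟩⟩
  refine ⟨F, isEquivOver_of_essSurjOver F fun η => ?_⟩
  obtain ⟨ρ, φ, hφ⟩ := h.exists_lift (x := ξ) η.hom
  have := hφ
  have e : 𝒳.p.obj ρ = η.left := IsHomLift.domain_eq 𝒳.p η.hom φ
  have hη : F.obj ρ = η := over_obj_ext e (by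
    show 𝒳.p.map (u ρ) = eqToHom e ≫ η.hom
    rw [← hu ρ φ, IsHomLift.fac' 𝒳.p η.hom φ]
    simp)
  refine ⟨ρ, eqToIso hη, ?_⟩
  subst hη
  exact IsHomLift.id rfl

theorem isFibGrpd_of_representable {U : C} {F : 𝒳 ⥤ᵇ FibCat.overCat U} (hF : FibCat.IsEquivOver F) :
    FibCat.IsFibGrpd 𝒳.p := by
  obtain ⟨G, hG, -⟩ := isEquivOver_symm hF
  exact isFibGrpd_of_isEquivOver hG (isFibGrpd_overForget U)

theorem isRepresentable_iff :
    FibCat.IsRepresentable 𝒳 ↔
      (FibCat.IsFibGrpd 𝒳.p ∧ ∃ ξ : 𝒳.obj, ∀ ρ : 𝒳.obj, Nonempty (Unique (ρ ⟶ ξ))) := by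
  constructor
  · rintro ⟨U, F, hF⟩
    obtain ⟨ξ, -, hξ⟩ := terminal_of_isEquivOver hF
    exact ⟨isFibGrpd_of_representable hF, ξ, hξ⟩
  · rintro ⟨h, ξ, hξ⟩
    obtain ⟨F, hF⟩ := exists_equiv_of_terminal h ξ hξ
    exact ⟨_, F, hF⟩

theorem isRepresentable_of_equiv {𝒴 : BasedCategory.{v₃, u₃} C} {F : 𝒳 ⥤ᵇ 𝒴} (hF : FibCat.IsEquivOver F)
    (h : FibCat.IsRepresentable 𝒴) : FibCat.IsRepresentable 𝒳 := by
  obtain ⟨U, K, hK⟩ := h
  exact ⟨U, BasedFunctor.comp F K, isEquivOver_comp hF hK⟩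

end Representable

section SliceMaps

theorem exists_iso_over_map {X X' : C} (T : FibCat.overCat X' ⥤ᵇ FibCat.overCat X) (hT : FibCat.IsEquivOver T) :
    ∃ e : X' ≅ X, Nonempty (T ≅ (⟨Over.map e.hom, Over.mapForget_eq e.hom⟩ :
      FibCat.overCat X' ⥤ᵇ FibCat.overCat X)) := by
  obtain ⟨T', hT', -⟩ := isEquivOver_symm hT
  obtain ⟨⟨_, _⟩, -⟩ := (isEquivOver_iff T).1 hT
  obtain ⟨η, e, he⟩ := (essSurjOver_of_isEquivOver hT) (one X)
  let t : (FibCat.overCat X).obj := T.obj (one X')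
  have ht : (FibCat.overCat X).p.obj t = X' := T.w_obj (one X')
  obtain ⟨k, hk⟩ : ∃ k : one X ⟶ t, True :=
    ⟨e.inv ≫ T.map (toOne η), trivial⟩
  let k' : X ⟶ (FibCat.overCat X).p.obj t := (FibCat.overCat X).p.map k
  have h1 : k' ≫ hm t = 𝟙 X := Over.w k
  have h2 : toOne t ≫ k = 𝟙 t := by
    obtain ⟨m, hm⟩ := T.toFunctor.map_surjective (toOne t ≫ k)
    obtain ⟨m', hm'⟩ := T.toFunctor.map_surjective (𝟙 t)
    have hmm : m = m' := (toOne_unique m).trans (toOne_unique m').symm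
    exact hm.symm.trans ((congrArg T.map hmm).trans hm')
  have h2' : hm t ≫ k' = 𝟙 (FibCat.overCat X).p.obj t := congrArg Over.Hom.left h2
  let i : X' ≅ X :=
    { hom := eqToHom ht.symm ≫ hm t
      inv := k' ≫ eqToHom ht
      hom_inv_id := by rw [Category.assoc, reassoc_of% h2']; simp
      inv_hom_id := by rw [Category.assoc, eqToHom_trans_assoc, eqToHom_refl, Category.id_comp, h1] }
  refine ⟨i, ?_⟩
  let M : FibCat.overCat X' ⥤ᵇ FibCat.overCat X := ⟨Over.map i.hom, Over.mapForget_eq i.hom⟩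
  have := evalAtId_isEquivalence (𝒳 := FibCat.overCat X) (U := X') (isFibGrpd_overForget X)
  have hobj : M.obj (one X') = t := over_obj_ext ht.symm (by
    show 𝟙 X' ≫ i.hom = eqToHom ht.symm ≫ hm t
    simp [i])
  have e0 : (FibCat.evalAtId (FibCat.overCat X) X').obj T = (FibCat.evalAtId (FibCat.overCat X) X').obj M :=
    Subtype.ext hobj.symm
  exact ⟨(FibCat.evalAtId (FibCat.overCat X) X').preimageIso (eqToIso e0)⟩

theorem exists_iso_of_representations {𝒮 : BasedCategory.{v, max u v} C} {X X' : C}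
    (j : 𝒮 ⥤ᵇ FibCat.overCat X) (j' : 𝒮 ⥤ᵇ FibCat.overCat X') (hj : FibCat.IsEquivOver j)
    (hj' : FibCat.IsEquivOver j') :
    ∃ e : X' ≅ X, Nonempty (BasedFunctor.comp j' (⟨Over.map e.hom, Over.mapForget_eq e.hom⟩ :
      FibCat.overCat X' ⥤ᵇ FibCat.overCat X) ≅ j) := by
  obtain ⟨k, hk, ⟨a⟩, -⟩ := isEquivOver_symm hj'
  obtain ⟨e, ⟨t⟩⟩ := exists_iso_over_map (BasedFunctor.comp k j) (isEquivOver_comp hk hj)
  exact ⟨e, ⟨(bWhiskerL j' t).symm ≪≫ bWhiskerR a j⟩⟩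

end SliceMaps

end Groth.Agent.FibBasics
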