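import Groth.Agent.FibBasics.Yoneda
import Groth.Prelude.Def_StGerb
import Mathlib.CategoryTheory.Sites.Sheaf
import Mathlib.Algebra.Category.Grp.Limits

/-!
Gluing of automorphisms in a stack in groupoids; the band of an abelian gerbe.
-/

set_option autoImplicit false

universe v₂ u₂ v u

open CategoryTheory CategoryTheory.Functor Opposite

namespace Groth.Agent.FibBasics

variable {C : Type u} [Category.{v} C]

section AutTransport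

variable {𝒮 : BasedCategory.{v₂, u₂} C}

/-- Two automorphisms over identities commute with a morphism. -/
def Conj {z' z : 𝒮.obj} (φ : z' ⟶ z) (b : Gerb.AutO z') (a : Gerb.AutO z) : Prop :=
  b.hom.1 ≫ φ = φ ≫ a.hom.1

theorem Conj.one {z' z : 𝒮.obj} (φ : z' ⟶ z) : Conj φ 1 1 :=
  (Category.id_comp φ).trans (Category.comp_id φ).symm

theorem Conj.mul {z' z : 𝒮.obj} {φ : z' ⟶ z} {b b' : Gerb.AutO z'} {a a' : Gerb.AutO z}
    (h : Conj φ b a) (h' : Conj φ b' a') : Conj φ (b * b') (a * a') := by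
  show (b'.hom.1 ≫ b.hom.1) ≫ φ = φ ≫ a'.hom.1 ≫ a.hom.1
  exact (Category.assoc _ _ _).trans ((congrArg (b'.hom.1 ≫ ·) h).trans ((Category.assoc _ _ _).symm.trans
    ((congrArg (· ≫ a.hom.1) h').trans (Category.assoc _ _ _))))

theorem aut_hom_inv {z : 𝒮.obj} (a : Gerb.AutO z) : a.hom.1 ≫ a.inv.1 = 𝟙 z := congrArg Subtype.val a.hom_inv_id

theorem aut_inv_hom {z : 𝒮.obj} (a : Gerb.AutO z) : a.inv.1 ≫ a.hom.1 = 𝟙 z := congrArg Subtype.val a.inv_hom_id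

theorem Conj.inv {z' z : 𝒮.obj} {φ : z' ⟶ z} {b : Gerb.AutO z'} {a : Gerb.AutO z} (h : Conj φ b a) :
    Conj φ b⁻¹ a⁻¹ := by
  show b.inv.1 ≫ φ = φ ≫ a.inv.1
  calc b.inv.1 ≫ φ = b.inv.1 ≫ (φ ≫ a.hom.1) ≫ a.inv.1 := by
        erw [Category.assoc, aut_hom_inv a, Category.comp_id]
    _ = b.inv.1 ≫ (b.hom.1 ≫ φ) ≫ a.inv.1 := congrArg (fun t => b.inv.1 ≫ t ≫ a.inv.1) h.symm
    _ = φ ≫ a.inv.1 := by
        erw [Category.assoc, ← Category.assoc, aut_inv_hom b, Category.id_comp]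

theorem Conj.trans {z'' z' z : 𝒮.obj} {ψ : z'' ⟶ z'} {φ : z' ⟶ z} {c : Gerb.AutO z''} {b : Gerb.AutO z'}
    {a : Gerb.AutO z} (h : Conj ψ c b) (h' : Conj φ b a) : Conj (ψ ≫ φ) c a :=
  ((Category.assoc _ _ _).symm.trans (congrArg (· ≫ φ) h)).trans
    ((Category.assoc _ _ _).trans ((congrArg (ψ ≫ ·) h').trans (Category.assoc _ _ _).symm))

theorem autO_ext {z : 𝒮.obj} {a a' : Gerb.AutO z} (h : a.hom.1 = a'.hom.1) : a = a' :=
  Iso.ext (Subtype.ext h)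

variable (hp : FibCat.IsFibGrpd 𝒮.p)

include hp in
theorem exists_conj {z' z : 𝒮.obj} (φ : z' ⟶ z) (a : Gerb.AutO z) : ∃ b : Gerb.AutO z', Conj φ b a := by
  have := hp.isStronglyCartesian φ
  have : 𝒮.p.IsHomLift (𝟙 (𝒮.p.obj z)) a.hom.1 := a.hom.2
  have : 𝒮.p.IsHomLift (𝒮.p.map φ) φ := IsHomLift.map 𝒮.p φ
  have h := (inferInstance : 𝒮.p.IsHomLift (𝒮.p.map φ ≫ 𝟙 (𝒮.p.obj z)) (φ ≫ a.hom.1))
  rw [Category.comp_id] at h
  let u : z' ⟶ z' := IsCartesian.map 𝒮.p (𝒮.p.map φ) φ (φ ≫ a.hom.1)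
  have hu : 𝒮.p.IsHomLift (𝟙 (𝒮.p.obj z')) u := inferInstance
  have := isGroupoid_fiber 𝒮.p hp (𝒮.p.obj z')
  let u' : Gerb.fib z' ⟶ Gerb.fib z' := ⟨u, hu⟩
  have : IsIso u' := IsGroupoid.all_isIso u'
  exact ⟨asIso u', IsCartesian.fac 𝒮.p (𝒮.p.map φ) φ (φ ≫ a.hom.1)⟩

include hp in
theorem conj_unique {z' z : 𝒮.obj} (φ : z' ⟶ z) {b b' : Gerb.AutO z'} {a : Gerb.AutO z}
    (h : Conj φ b a) (h' : Conj φ b' a) : b = b' := by
  have := hp.isStronglyCartesian φ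
  have : 𝒮.p.IsHomLift (𝟙 (𝒮.p.obj z')) b.hom.1 := b.hom.2
  have : 𝒮.p.IsHomLift (𝟙 (𝒮.p.obj z')) b'.hom.1 := b'.hom.2
  exact autO_ext (IsCartesian.ext 𝒮.p (𝒮.p.map φ) φ b.hom.1 b'.hom.1 (Eq.trans h (Eq.symm h')))

include hp in
theorem conj_cancel {z'' z' z : 𝒮.obj} {ψ : z'' ⟶ z'} {φ : z' ⟶ z} {c : Gerb.AutO z''} {b : Gerb.AutO z'}
    {a : Gerb.AutO z} (h' : Conj φ b a) (h : Conj (ψ ≫ φ) c a) : Conj ψ c b := by
  obtain ⟨c', hc'⟩ := exists_conj hp ψ b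
  rwa [conj_unique hp (ψ ≫ φ) h (hc'.trans h')]

include hp in
theorem conj_indep (hcomm : ∀ (x : 𝒮.obj) (α β : Gerb.AutO x), α * β = β * α) {z x : 𝒮.obj}
    (χ χ' : z ⟶ x) (hχ : 𝒮.p.map χ = 𝒮.p.map χ') {b b' : Gerb.AutO z} {a : Gerb.AutO x}
    (h : Conj χ b a) (h' : Conj χ' b' a) : b = b' := by
  have := hp.isStronglyCartesian χ
  have : 𝒮.p.IsHomLift (𝒮.p.map χ') χ' := IsHomLift.map 𝒮.p χ'
  have : 𝒮.p.IsHomLift (𝒮.p.map χ) χ' := by rw [hχ]; infer_instance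
  let u : z ⟶ z := IsCartesian.map 𝒮.p (𝒮.p.map χ) χ χ'
  have := isGroupoid_fiber 𝒮.p hp (𝒮.p.obj z)
  let u' : Gerb.fib z ⟶ Gerb.fib z := ⟨u, (inferInstance : 𝒮.p.IsHomLift (𝟙 (𝒮.p.obj z)) u)⟩
  have : IsIso u' := IsGroupoid.all_isIso u'
  let ι : Gerb.AutO z := asIso u'
  have hu : ι.hom.1 ≫ χ = χ' := IsCartesian.fac 𝒮.p (𝒮.p.map χ) χ χ'
  have hc : ι.hom.1 ≫ b.hom.1 = b.hom.1 ≫ ι.hom.1 := congrArg (fun t : Gerb.AutO z => t.hom.1) (hcomm z b ι)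
  refine conj_unique hp χ' ?_ h'
  show b.hom.1 ≫ χ' = χ' ≫ a.hom.1
  rw [← hu]
  exact (Category.assoc _ _ _).symm.trans ((congrArg (· ≫ χ) hc.symm).trans ((Category.assoc _ _ _).trans
    ((congrArg (ι.hom.1 ≫ ·) h).trans (Category.assoc _ _ _).symm)))

end AutTransport

section Glue

variable {𝒮 : BasedCategory.{v, max u v} C} (J : GrothendieckTopology C)

theorem existsUnique_aut_glue (hst : Stk.IsStack J 𝒮) (z : 𝒮.obj) (R : Sieve (𝒮.p.obj z))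
    (hR : R ∈ J (𝒮.p.obj z)) (β : ∀ {z' : 𝒮.obj} (φ : z' ⟶ z), R (𝒮.p.map φ) → Gerb.AutO z')
    (hβ : ∀ {z'' z' : 𝒮.obj} (ψ : z'' ⟶ z') (φ : z' ⟶ z) (h : R (𝒮.p.map φ)) (h' : R (𝒮.p.map (ψ ≫ φ))),
      Conj ψ (β (ψ ≫ φ) h') (β φ h)) :
    ∃! a : Gerb.AutO z, ∀ {z' : 𝒮.obj} (φ : z' ⟶ z) (h : R (𝒮.p.map φ)), Conj φ (β φ h) a := by
  have hp := hst.1
  have := isFibered_of_isFibGrpd 𝒮.p hp
  have := isGroupoid_fiber 𝒮.p hp (𝒮.p.obj z)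
  obtain ⟨H, -, ⟨e⟩⟩ := exists_evalAtId_iso (𝒳 := 𝒮) (U := 𝒮.p.obj z) (Gerb.fib z)
  have hres : (Stk.resSieve R 𝒮).IsEquivalence := hst.2 R hR
  let H₁ : 𝒮.obj := H.obj (one (𝒮.p.obj z))
  let eh : H₁ ⟶ z := e.hom.1
  let ei : z ⟶ H₁ := e.inv.1
  have heh : 𝒮.p.IsHomLift (𝟙 (𝒮.p.obj z)) eh := e.hom.2
  have he : eh ≫ ei = 𝟙 H₁ := congrArg Subtype.val e.hom_inv_id
  have he' : ei ≫ eh = 𝟙 z := congrArg Subtype.val e.inv_hom_id
  let ℓ : ∀ g : (FibCat.overCat (𝒮.p.obj z)).obj, H.obj g ⟶ z := fun g => H.map (toOne g) ≫ eh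
  have hℓl : ∀ g, 𝒮.p.IsHomLift (hm g) (ℓ g) := fun g => by
    have h := @IsHomLift.comp _ _ _ _ 𝒮.p _ _ _ _ _ _ (hm g) (𝟙 (𝒮.p.obj z)) (H.map (toOne g)) eh
      (based_lift_one H g) heh
    rwa [Category.comp_id] at h
  have hℓn : ∀ {g g' : (FibCat.overCat (𝒮.p.obj z)).obj} (k : g ⟶ g'), H.map k ≫ ℓ g' = ℓ g := fun {g g'} k =>
    (Category.assoc _ _ _).symm.trans (congrArg (· ≫ eh)
      ((H.toFunctor.map_comp k (toOne g')).symm.trans (congrArg H.map (toOne_unique (k ≫ toOne g')))))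
  have hmem : ∀ g : (Stk.sieveCat R).obj, R (𝒮.p.map (ℓ g.1)) := fun g => by
    have := hℓl g.1
    rw [IsHomLift.fac' 𝒮.p (hm g.1) (ℓ g.1)]
    simp only [eqToHom_refl, Category.comp_id]
    exact R.downward_closed g.2 _
  let Hr := (Stk.resSieve R 𝒮).obj H
  let β' : ∀ g : (Stk.sieveCat R).obj, Gerb.AutO (H.obj g.1) := fun g => β (ℓ g.1) (hmem g)
  let γ : Hr ⟶ Hr :=
    { toNatTrans :=
        { app := fun g => (β' g).hom.1
          naturality := fun g g' k => by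
            let k₀ : g.1 ⟶ g'.1 := k.hom
            have h' : R (𝒮.p.map (H.map k₀ ≫ ℓ g'.1)) := by rw [hℓn k₀]; exact hmem g
            have key : ∀ (φ : H.obj g.1 ⟶ z) (_ : φ = ℓ g.1) (h : R (𝒮.p.map φ)), β φ h = β' g := by
              rintro φ rfl h; rfl
            have hn := hβ (H.map k₀) (ℓ g'.1) (hmem g') h'
            rw [key _ (hℓn k₀) h'] at hn
            exact hn.symm }
      isHomLift' := fun g => by
        have hd : 𝒮.p.obj (H.obj g.1) = (Stk.sieveCat R).p.obj g := H.w_obj g.1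
        have := (β' g).hom.2
        show 𝒮.p.IsHomLift (𝟙 ((Stk.sieveCat R).p.obj g)) (β' g).hom.1
        rw [← hd]; exact this }
  let α := (Stk.resSieve R 𝒮).preimage γ
  have hα : ∀ g : (Stk.sieveCat R).obj, α.toNatTrans.app g.1 = (β' g).hom.1 := fun g =>
    congrArg (fun t => t.toNatTrans.app g) ((Stk.resSieve R 𝒮).map_preimage γ)
  let m : Gerb.fib z ⟶ Gerb.fib z := e.inv ≫ (FibCat.evalAtId 𝒮 (𝒮.p.obj z)).map α ≫ e.hom
  have : IsIso m := IsGroupoid.all_isIso m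
  let a : Gerb.AutO z := asIso m
  have hm1 : ∀ g : (Stk.sieveCat R).obj, Conj (ℓ g.1) (β' g) a := fun g => by
    let α₁ : H₁ ⟶ H₁ := α.toNatTrans.app (one (𝒮.p.obj z))
    let t : H.obj g.1 ⟶ H₁ := H.map (toOne g.1)
    let bb : H.obj g.1 ⟶ H.obj g.1 := (β' g).hom.1
    have hn : t ≫ α₁ = bb ≫ t := (α.toNatTrans.naturality (toOne g.1)).trans (congrArg (· ≫ t) (hα g))
    show bb ≫ t ≫ eh = (t ≫ eh) ≫ ei ≫ α₁ ≫ eh
    calc bb ≫ t ≫ eh = t ≫ α₁ ≫ eh := by rw [← Category.assoc, ← hn, Category.assoc]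
      _ = (t ≫ eh) ≫ ei ≫ α₁ ≫ eh := by
        rw [Category.assoc t eh, ← Category.assoc eh ei, he, Category.id_comp]
  -- transfer from the chosen lifts to all morphisms
  have hall : ∀ (a' : Gerb.AutO z), (∀ g : (Stk.sieveCat R).obj, Conj (ℓ g.1) (β' g) a') →
      ∀ {z' : 𝒮.obj} (φ : z' ⟶ z) (h : R (𝒮.p.map φ)), Conj φ (β φ h) a' := by
    intro a' ha' z' φ h
    let g : (Stk.sieveCat R).obj := ⟨Over.mk (𝒮.p.map φ), h⟩
    have := hℓl g.1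
    have : 𝒮.p.IsHomLift (hm g.1) φ := IsHomLift.map 𝒮.p φ
    have := stronglyCartesian_of_isFibGrpd 𝒮.p hp (hm g.1) (ℓ g.1)
    let ψ := IsCartesian.map 𝒮.p (hm g.1) (ℓ g.1) φ
    have hψ : ψ ≫ ℓ g.1 = φ := IsCartesian.fac 𝒮.p (hm g.1) (ℓ g.1) φ
    have key : ∀ (χ : z' ⟶ z) (hχ : χ = φ) (h' : R (𝒮.p.map χ)), Conj χ (β χ h') a' → Conj φ (β φ h) a' := by
      rintro χ rfl h' h''; exact h''
    refine key _ hψ (by rw [hψ]; exact h) ?_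
    exact (hβ ψ (ℓ g.1) (hmem g) (by rw [hψ]; exact h)).trans (ha' g)
  refine ⟨a, hall a hm1, fun a' ha' => ?_⟩
  -- uniqueness
  obtain ⟨α', hα'⟩ := evalAtId_surjective (cartOne_of_isFibGrpd H hp) (e.hom ≫ a'.hom ≫ e.inv)
  let ah : z ⟶ z := a'.hom.1
  let α₁ : H₁ ⟶ H₁ := α'.toNatTrans.app (one (𝒮.p.obj z))
  have h1 : α₁ = eh ≫ ah ≫ ei := congrArg Subtype.val hα'
  have hr : (Stk.resSieve R 𝒮).map α' = γ := by
    apply BasedNatTrans.ext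
    apply NatTrans.ext
    funext g
    show α'.toNatTrans.app g.1 = (β' g).hom.1
    have hl : 𝒮.p.IsHomLift (𝟙 ((FibCat.overCat (𝒮.p.obj z)).p.obj g.1)) (α'.toNatTrans.app g.1) :=
      α'.isHomLift' g.1
    have hl' : 𝒮.p.IsHomLift (𝟙 ((FibCat.overCat (𝒮.p.obj z)).p.obj g.1)) (β' g).hom.1 :=
      γ.isHomLift' g
    have := hℓl g.1
    have := stronglyCartesian_of_isFibGrpd 𝒮.p hp (hm g.1) (ℓ g.1)
    apply IsCartesian.ext 𝒮.p (hm g.1) (ℓ g.1)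
    refine Eq.trans ?_ (ha' (ℓ g.1) (hmem g)).symm
    let t : H.obj g.1 ⟶ H₁ := H.map (toOne g.1)
    let ag : H.obj g.1 ⟶ H.obj g.1 := α'.toNatTrans.app g.1
    have hn : t ≫ α₁ = ag ≫ t := α'.toNatTrans.naturality (toOne g.1)
    show ag ≫ t ≫ eh = (t ≫ eh) ≫ ah
    rw [← Category.assoc, ← hn, h1]
    simp only [Category.assoc, he', Category.comp_id]
  have hαα : α' = α := (Stk.resSieve R 𝒮).map_injective (hr.trans ((Stk.resSieve R 𝒮).map_preimage γ).symm)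
  apply autO_ext
  show ah = ei ≫ (α.toNatTrans.app (one (𝒮.p.obj z)) : H₁ ⟶ H₁) ≫ eh
  rw [← hαα]
  show ah = ei ≫ α₁ ≫ eh
  rw [h1]
  simp only [Category.assoc, he', Category.comp_id, reassoc_of% he']

end Glue

section Band

variable (𝒮 : BasedCategory.{v, max u v} C)

/-- A section of the inertia over `C/U`. -/
@[ext]
structure ISec (U : C) : Type (max u v) where
  app : ∀ (z : 𝒮.obj), (𝒮.p.obj z ⟶ U) → Gerb.AutO z
  natural : ∀ {z' z : 𝒮.obj} (φ : z' ⟶ z) (f : 𝒮.p.obj z ⟶ U),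
    Conj φ (app z' (𝒮.p.map φ ≫ f)) (app z f)

instance (U : C) : Group (ISec 𝒮 U) where
  mul α β := ⟨fun z f => α.app z f * β.app z f, fun φ f => (α.natural φ f).mul (β.natural φ f)⟩
  one := ⟨fun _ _ => 1, fun φ _ => Conj.one φ⟩
  inv α := ⟨fun z f => (α.app z f)⁻¹, fun φ f => (α.natural φ f).inv⟩
  mul_assoc α β γ := ISec.ext (funext fun z => funext fun f => mul_assoc _ _ _)
  one_mul α := ISec.ext (funext fun z => funext fun f => one_mul _)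
  mul_one α := ISec.ext (funext fun z => funext fun f => mul_one _)
  inv_mul_cancel α := ISec.ext (funext fun z => funext fun f => inv_mul_cancel _)

variable {𝒮}

/-- Restriction. -/
def ISec.res {V U : C} (g : V ⟶ U) : ISec 𝒮 U →* ISec 𝒮 V where
  toFun α := ⟨fun z f => α.app z (f ≫ g), fun φ f => by rw [Category.assoc]; exact α.natural φ (f ≫ g)⟩
  map_one' := rfl
  map_mul' _ _ := rfl

variable (𝒮) in
/-- The presheaf of sections of the inertia. -/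
def bandPresheaf : Cᵒᵖ ⥤ GrpCat.{max u v} where
  obj U := GrpCat.of (ISec 𝒮 U.unop)
  map g := GrpCat.ofHom (ISec.res g.unop)
  map_id U := GrpCat.hom_ext (MonoidHom.ext fun α => ISec.ext (funext fun z => funext fun f => by
    show α.app z (f ≫ 𝟙 _) = α.app z f
    rw [Category.comp_id]))
  map_comp g h := GrpCat.hom_ext (MonoidHom.ext fun α => ISec.ext (funext fun z => funext fun f => by
    show α.app z (f ≫ h.unop ≫ g.unop) = α.app z ((f ≫ h.unop) ≫ g.unop)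
    rw [Category.assoc]))

theorem ISec.app_congr {U : C} (α : ISec 𝒮 U) {z : 𝒮.obj} {f f' : 𝒮.p.obj z ⟶ U} (h : f = f') :
    α.app z f = α.app z f' := by rw [h]

theorem bandPresheaf_isSheaf (J : GrothendieckTopology C) (hst : Stk.IsStack J 𝒮) :
    Presheaf.IsSheaf J (bandPresheaf 𝒮) := by
  rw [Presheaf.isSheaf_iff_isSheaf_forget J (bandPresheaf 𝒮) (forget GrpCat.{max u v}),
    isSheaf_iff_isSheaf_of_type]
  intro U R hR x hx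
  have hc : ∀ {V W : C} (g : W ⟶ V) (h : V ⟶ U) (hh : R h) (hgh : R (g ≫ h)),
      (x (g ≫ h) hgh : ISec 𝒮 W) = ISec.res g (x h hh : ISec 𝒮 V) := fun {V W} g h hh hgh => by
    have h1 := hx (𝟙 _) g hgh hh (Category.id_comp _)
    have h2 : ISec.res (𝟙 W) (x (g ≫ h) hgh : ISec 𝒮 W) = ISec.res g (x h hh : ISec 𝒮 V) := h1
    refine Eq.trans ?_ h2
    refine ISec.ext (funext fun z => funext fun f => ?_)
    exact ISec.app_congr _ (Category.comp_id f).symm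
  have hkey : ∀ (z : 𝒮.obj) (f : 𝒮.p.obj z ⟶ U), ∃! a : Gerb.AutO z, ∀ {z' : 𝒮.obj} (φ : z' ⟶ z)
      (h : R.pullback f (𝒮.p.map φ)), Conj φ ((x (𝒮.p.map φ ≫ f) h : ISec 𝒮 (𝒮.p.obj z')).app z' (𝟙 _)) a := by
    intro z f
    refine existsUnique_aut_glue J hst z (R.pullback f) (J.pullback_stable f hR)
      (fun {z'} φ h => (x (𝒮.p.map φ ≫ f) h : ISec 𝒮 (𝒮.p.obj z')).app z' (𝟙 _)) (fun {z'' z'} ψ φ h h' => ?_)
    have e : 𝒮.p.map (ψ ≫ φ) ≫ f = 𝒮.p.map ψ ≫ 𝒮.p.map φ ≫ f := by rw [𝒮.p.map_comp, Category.assoc]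
    have key : ∀ (q : 𝒮.p.obj z'' ⟶ U) (hq : R q), q = 𝒮.p.map ψ ≫ 𝒮.p.map φ ≫ f →
        (x q hq : ISec 𝒮 (𝒮.p.obj z'')).app z'' (𝟙 _) =
          (x (𝒮.p.map φ ≫ f) h : ISec 𝒮 (𝒮.p.obj z')).app z'' (𝒮.p.map ψ ≫ 𝟙 _) := by
      rintro q hq rfl
      rw [hc (𝒮.p.map ψ) (𝒮.p.map φ ≫ f) h hq]
      exact ISec.app_congr _ ((Category.id_comp _).trans (Category.comp_id _).symm)
    show Conj ψ ((x (𝒮.p.map (ψ ≫ φ) ≫ f) h' : ISec 𝒮 (𝒮.p.obj z'')).app z'' (𝟙 _)) _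
    rw [key _ h' e]
    exact (x (𝒮.p.map φ ≫ f) h : ISec 𝒮 (𝒮.p.obj z')).natural ψ (𝟙 _)
  choose s hs hsu using hkey
  let σ : ISec 𝒮 U :=
    { app := s
      natural := fun {z' z} ψ f => by
        obtain ⟨c, hc'⟩ := exists_conj hst.1 ψ (s z f)
        suffices c = s z' (𝒮.p.map ψ ≫ f) by rw [← this]; exact hc'
        refine hsu z' _ c (fun {z''} φ h => ?_)
        have e : 𝒮.p.map φ ≫ 𝒮.p.map ψ ≫ f = 𝒮.p.map (φ ≫ ψ) ≫ f := by rw [𝒮.p.map_comp, Category.assoc]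
        have h' : R.pullback f (𝒮.p.map (φ ≫ ψ)) := by
          show R (𝒮.p.map (φ ≫ ψ) ≫ f)
          rw [← e]; exact h
        have key : ∀ (q : 𝒮.p.obj z'' ⟶ U) (hq : R q), q = 𝒮.p.map (φ ≫ ψ) ≫ f →
            (x q hq : ISec 𝒮 (𝒮.p.obj z'')).app z'' (𝟙 _) =
              (x (𝒮.p.map (φ ≫ ψ) ≫ f) h' : ISec 𝒮 (𝒮.p.obj z'')).app z'' (𝟙 _) := by
          rintro q hq rfl; rfl
        rw [key _ h e]
        exact conj_cancel hst.1 hc' (hs z f (φ ≫ ψ) h') }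
  refine ⟨σ, fun V h hh => ?_, fun σ' hσ' => ?_⟩
  · refine ISec.ext (funext fun z => funext fun f => ?_)
    show s z (f ≫ h) = (x h hh : ISec 𝒮 V).app z f
    refine (hsu z (f ≫ h) _ (fun {z'} φ hφ => ?_)).symm
    have hφ' : R ((𝒮.p.map φ ≫ f) ≫ h) := R.downward_closed hh _
    have key : ∀ (q : 𝒮.p.obj z' ⟶ U) (hq : R q), q = (𝒮.p.map φ ≫ f) ≫ h →
        (x q hq : ISec 𝒮 (𝒮.p.obj z')).app z' (𝟙 _) = (x h hh : ISec 𝒮 V).app z' (𝒮.p.map φ ≫ f) := by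
      rintro q hq rfl
      rw [hc (𝒮.p.map φ ≫ f) h hh hq]
      exact ISec.app_congr _ (Category.id_comp _)
    rw [key _ hφ (Category.assoc _ _ _).symm]
    exact (x h hh : ISec 𝒮 V).natural φ f
  · refine ISec.ext (funext fun z => funext fun f => ?_)
    refine hsu z f _ (fun {z'} φ hφ => ?_)
    have h1 : ISec.res (𝒮.p.map φ ≫ f) (σ' : ISec 𝒮 U) = (x (𝒮.p.map φ ≫ f) hφ : ISec 𝒮 (𝒮.p.obj z')) :=
      hσ' (𝒮.p.map φ ≫ f) hφ
    rw [← h1]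
    show Conj φ ((σ' : ISec 𝒮 U).app z' (𝟙 _ ≫ 𝒮.p.map φ ≫ f)) _
    rw [Category.id_comp]
    exact (σ' : ISec 𝒮 U).natural φ f

variable (J : GrothendieckTopology C)

/-- The morphisms into `z` along which `z` admits a morphism to `x` over `f`. -/
def reach (hp : FibCat.IsFibGrpd 𝒮.p) (z x : 𝒮.obj) (f : 𝒮.p.obj z ⟶ 𝒮.p.obj x) : Sieve (𝒮.p.obj z) where
  arrows W g := ∃ (z' : 𝒮.obj) (φ : z' ⟶ z) (χ : z' ⟶ x), 𝒮.p.IsHomLift g φ ∧ 𝒮.p.IsHomLift (g ≫ f) χ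
  downward_closed := by
    intro W W' g hg k
    obtain ⟨z', φ, χ, hφ, hχ⟩ := hg
    have := isFibered_of_isFibGrpd 𝒮.p hp
    obtain ⟨b, η, hη⟩ := exists_stronglyCartesian 𝒮.p (IsHomLift.domain_eq 𝒮.p g φ) k
    refine ⟨b, η ≫ φ, η ≫ χ, inferInstance, ?_⟩
    rw [Category.assoc]
    infer_instance

theorem reach_covering (hg : Gerb.IsGerbe J 𝒮) (z x : 𝒮.obj) (f : 𝒮.p.obj z ⟶ 𝒮.p.obj x) :
    reach hg.1.1 z x f ∈ J (𝒮.p.obj z) := by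
  have := isFibered_of_isFibGrpd 𝒮.p hg.1.1
  obtain ⟨x', c, hc⟩ := exists_stronglyCartesian 𝒮.p (a := x) rfl f
  have hx : 𝒮.p.obj x' = 𝒮.p.obj z := IsHomLift.domain_eq 𝒮.p f c
  have hb : (FibCat.selfOver C).p.IsHomLift (𝟙 (𝒮.p.obj z)) (eqToHom hx.symm) :=
    IsHomLift.eqToHom_domain_lift_id hx.symm rfl
  obtain ⟨R, hR, hR'⟩ := hg.2.2 z x' (eqToHom hx.symm) hb
  refine J.superset_covering ?_ hR
  intro W g hgR
  obtain ⟨z', φ, ψ, hφ, hψ, he⟩ := hR' g hgR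
  refine ⟨z', φ, ψ ≫ c, hφ, ?_⟩
  have hψ' : 𝒮.p.IsHomLift g ψ := hψ
  infer_instance

theorem reach_lift (hp : FibCat.IsFibGrpd 𝒮.p) {z x : 𝒮.obj} {f : 𝒮.p.obj z ⟶ 𝒮.p.obj x} {z' : 𝒮.obj}
    (φ : z' ⟶ z) (h : reach hp z x f (𝒮.p.map φ)) : ∃ χ : z' ⟶ x, 𝒮.p.map χ = 𝒮.p.map φ ≫ f := by
  obtain ⟨w, φ₁, χ₁, hφ₁, hχ₁⟩ := h
  have := stronglyCartesian_of_isFibGrpd 𝒮.p hp (𝒮.p.map φ) φ₁
  let u : z' ⟶ w := IsCartesian.map 𝒮.p (𝒮.p.map φ) φ₁ φ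
  have h2 := (inferInstance : 𝒮.p.IsHomLift (𝟙 _ ≫ 𝒮.p.map φ ≫ f) (u ≫ χ₁))
  rw [Category.id_comp] at h2
  exact ⟨u ≫ χ₁, (IsHomLift.eq_of_isHomLift 𝒮.p (𝒮.p.map φ ≫ f) (u ≫ χ₁)).symm⟩

theorem conj_of_isec {z' x : 𝒮.obj} (α : ISec 𝒮 (𝒮.p.obj x)) (χ : z' ⟶ x)
    {g : 𝒮.p.obj z' ⟶ 𝒮.p.obj x} (h : g = 𝒮.p.map χ) : Conj χ (α.app z' g) (α.app x (𝟙 _)) := by
  have hn := α.natural χ (𝟙 (𝒮.p.obj x))
  rwa [ISec.app_congr α ((Category.comp_id (𝒮.p.map χ)).trans h.symm)] at hn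

theorem eval_bijective (hg : Gerb.IsGerbe J 𝒮) (hcomm : ∀ (x : 𝒮.obj) (α β : Gerb.AutO x), α * β = β * α)
    (x : 𝒮.obj) : Function.Bijective (fun α : ISec 𝒮 (𝒮.p.obj x) => α.app x (𝟙 _)) := by
  have hp := hg.1.1
  refine ⟨fun α α' hα => ?_, fun a => ?_⟩
  · refine ISec.ext (funext fun z => funext fun f => ?_)
    obtain ⟨s, -, hu⟩ := existsUnique_aut_glue J hg.1 z (reach hp z x f) (reach_covering J hg z x f)
      (fun {z'} φ _ => α.app z' (𝒮.p.map φ ≫ f))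
      (fun {z'' z'} ψ φ h h' => by
        show Conj ψ (α.app z'' (𝒮.p.map (ψ ≫ φ) ≫ f)) (α.app z' (𝒮.p.map φ ≫ f))
        rw [𝒮.p.map_comp, Category.assoc]
        exact α.natural ψ _)
    refine (hu _ (fun {z'} φ h => α.natural φ f)).trans (hu _ (fun {z'} φ h => ?_)).symm
    show Conj φ (α.app z' (𝒮.p.map φ ≫ f)) (α'.app z f)
    obtain ⟨χ, hχ⟩ := reach_lift hp φ h
    have h1 : Conj χ (α.app z' (𝒮.p.map φ ≫ f)) (α'.app x (𝟙 _)) := by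
      have hα' : α.app x (𝟙 _) = α'.app x (𝟙 _) := hα
      rw [← hα']
      exact conj_of_isec α χ hχ.symm
    rw [conj_unique hp χ h1 (conj_of_isec α' χ hχ.symm)]
    exact α'.natural φ f
  · have hkey : ∀ (z : 𝒮.obj) (f : 𝒮.p.obj z ⟶ 𝒮.p.obj x), ∃! s : Gerb.AutO z,
        ∀ {z' : 𝒮.obj} (φ : z' ⟶ z), reach hp z x f (𝒮.p.map φ) →
          ∀ (χ : z' ⟶ x), 𝒮.p.map χ = 𝒮.p.map φ ≫ f → ∃ b, Conj φ b s ∧ Conj χ b a := by
      intro z f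
      have hex : ∀ {z' : 𝒮.obj} (φ : z' ⟶ z), reach hp z x f (𝒮.p.map φ) →
          ∃ b : Gerb.AutO z', ∀ (χ : z' ⟶ x), 𝒮.p.map χ = 𝒮.p.map φ ≫ f → Conj χ b a := by
        intro z' φ h
        obtain ⟨χ₀, hχ₀⟩ := reach_lift hp φ h
        obtain ⟨b, hb⟩ := exists_conj hp χ₀ a
        refine ⟨b, fun χ hχ => ?_⟩
        obtain ⟨b', hb'⟩ := exists_conj hp χ a
        rwa [conj_indep hp hcomm χ₀ χ (hχ₀.trans hχ.symm) hb hb']
      choose β hβ using @hex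
      obtain ⟨s, hs, hu⟩ := existsUnique_aut_glue J hg.1 z (reach hp z x f) (reach_covering J hg z x f) @β
        (fun {z'' z'} ψ φ h h' => by
          obtain ⟨χ, hχ⟩ := reach_lift hp φ h
          refine conj_cancel hp (hβ φ h χ hχ) (hβ (ψ ≫ φ) h' (ψ ≫ χ) ?_)
          rw [𝒮.p.map_comp, 𝒮.p.map_comp, hχ, Category.assoc])
      refine ⟨s, fun {z'} φ h χ hχ => ⟨β φ h, hs φ h, hβ φ h χ hχ⟩, fun s' hs' => hu s' (fun {z'} φ h => ?_)⟩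
      obtain ⟨χ, hχ⟩ := reach_lift hp φ h
      obtain ⟨b, hb1, hb2⟩ := hs' φ h χ hχ
      rwa [← conj_unique hp χ hb2 (hβ φ h χ hχ)]
    choose s hs hsu using hkey
    let σ : ISec 𝒮 (𝒮.p.obj x) :=
      { app := s
        natural := fun {z' z} ψ f => by
          obtain ⟨c, hc⟩ := exists_conj hp ψ (s z f)
          suffices c = s z' (𝒮.p.map ψ ≫ f) by rw [← this]; exact hc
          refine hsu z' _ c (fun {z''} φ h χ hχ => ?_)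
          have hχ' : 𝒮.p.map χ = 𝒮.p.map (φ ≫ ψ) ≫ f := by rw [hχ, 𝒮.p.map_comp, Category.assoc]
          obtain ⟨b, hb1, hb2⟩ := hs z f (φ ≫ ψ) ⟨z'', φ ≫ ψ, χ, IsHomLift.map 𝒮.p _,
            by rw [← hχ']; exact IsHomLift.map 𝒮.p χ⟩ χ hχ'
          exact ⟨b, conj_cancel hp hc hb1, hb2⟩ }
    refine ⟨σ, (hsu x (𝟙 _) a (fun {z'} φ h χ hχ => ?_)).symm⟩
    obtain ⟨b, hb⟩ := exists_conj hp φ a
    obtain ⟨b', hb'⟩ := exists_conj hp χ a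
    refine ⟨b, hb, ?_⟩
    rwa [conj_indep hp hcomm φ χ (by rw [hχ, Category.comp_id]) hb hb']

theorem exists_band (hg : Gerb.IsGerbe J 𝒮) (hcomm : ∀ (x : 𝒮.obj) (α β : Gerb.AutO x), α * β = β * α) :
    ∃ G : Sheaf J GrpCat.{max u v}, (∀ (U : C) (a b : G.obj.obj (op U)), a * b = b * a) ∧
      Nonempty (Gerb.Banding 𝒮 G.obj) := by
  refine ⟨⟨bandPresheaf 𝒮, bandPresheaf_isSheaf J hg.1⟩,
    fun U a b => ISec.ext (funext fun z => funext fun f =>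
      hcomm z ((a : ISec 𝒮 U).app z f) ((b : ISec 𝒮 U).app z f)), ⟨?_⟩⟩
  let ev : ∀ x : 𝒮.obj, ISec 𝒮 (𝒮.p.obj x) →* Gerb.AutO x := fun x =>
    { toFun := fun α => α.app x (𝟙 _), map_one' := rfl, map_mul' := fun _ _ => rfl }
  exact
    { iso := fun x => MulEquiv.ofBijective (ev x) (eval_bijective J hg hcomm x)
      natural := fun {x' x} φ α => conj_of_isec (α : ISec 𝒮 (𝒮.p.obj x)) φ (Category.id_comp _) }

end Band

end Groth.Agent.FibBasics
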