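import Groth.Agent.FibBasics.Basic

/-!
Cartesian morphisms in 2-fibre products over the base; fibredness of fibre products, diagonals and inertia.
-/

set_option autoImplicit false

universe v₄ u₄ v₃ u₃ v₂ u₂ v u

open CategoryTheory CategoryTheory.Functor CategoryTheory.Limits

namespace Groth.Agent.FibBasics

variable {C : Type u} [Category.{v} C]

section Fp

variable {𝒳 : BasedCategory.{v₂, u₂} C} {𝒴 : BasedCategory.{v₃, u₃} C} {𝒮 : BasedCategory.{v₄, u₄} C}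
  {F : 𝒳 ⥤ᵇ 𝒮} {G : 𝒴 ⥤ᵇ 𝒮}

/-- A morphism of `fp F G` from its two components. -/
def fpHom {x y : (FibCat.fp F G).obj} (s : x.obj.fst ⟶ y.obj.fst) (t : x.obj.snd ⟶ y.obj.snd)
    (w : F.map s ≫ y.obj.iso.hom = x.obj.iso.hom ≫ G.map t) : x ⟶ y :=
  ObjectProperty.homMk { fst := s, snd := t, w := w }

theorem fp_hom_ext {x y : (FibCat.fp F G).obj} {φ ψ : x ⟶ y} (h₁ : φ.hom.fst = ψ.hom.fst)
    (h₂ : φ.hom.snd = ψ.hom.snd) : φ = ψ :=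
  ObjectProperty.hom_ext _ (CategoricalPullback.hom_ext h₁ h₂)

@[simp] theorem fp_comp_fst {x y z : (FibCat.fp F G).obj} (φ : x ⟶ y) (ψ : y ⟶ z) :
    (φ ≫ ψ).hom.fst = φ.hom.fst ≫ ψ.hom.fst := rfl

@[simp] theorem fp_comp_snd {x y z : (FibCat.fp F G).obj} (φ : x ⟶ y) (ψ : y ⟶ z) :
    (φ ≫ ψ).hom.snd = φ.hom.snd ≫ ψ.hom.snd := rfl

theorem fp_snd_proj (x : (FibCat.fp F G).obj) : 𝒴.p.obj x.obj.snd = 𝒳.p.obj x.obj.fst :=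
  (FibCat.fpSnd F G).w_obj x

theorem fp_lift_fst {x y : (FibCat.fp F G).obj} {R S : C} (f : R ⟶ S) (φ : x ⟶ y)
    [(FibCat.fp F G).p.IsHomLift f φ] : 𝒳.p.IsHomLift f φ.hom.fst :=
  (inferInstance : 𝒳.p.IsHomLift f ((FibCat.fpFst F G).map φ))

theorem fp_lift_snd {x y : (FibCat.fp F G).obj} {R S : C} (f : R ⟶ S) (φ : x ⟶ y)
    [(FibCat.fp F G).p.IsHomLift f φ] : 𝒴.p.IsHomLift f φ.hom.snd :=
  (inferInstance : 𝒴.p.IsHomLift f ((FibCat.fpSnd F G).map φ))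

theorem fp_lift_of_fst {x y : (FibCat.fp F G).obj} {R S : C} (f : R ⟶ S) (φ : x ⟶ y)
    (h : 𝒳.p.IsHomLift f φ.hom.fst) : (FibCat.fp F G).p.IsHomLift f φ :=
  (BasedFunctor.isHomLift_iff (FibCat.fpFst F G) f φ).1 h

theorem fp_isStronglyCartesian {x y : (FibCat.fp F G).obj} {R S : C} (f : R ⟶ S) (φ : x ⟶ y)
    [𝒳.p.IsStronglyCartesian f φ.hom.fst] [𝒴.p.IsStronglyCartesian f φ.hom.snd]
    [𝒮.p.IsStronglyCartesian f (G.map φ.hom.snd)] : (FibCat.fp F G).p.IsStronglyCartesian f φ where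
  toIsHomLift := fp_lift_of_fst f φ inferInstance
  universal_property' {z} g ψ _ := by
    have hψ₁ : 𝒳.p.IsHomLift (g ≫ f) ψ.hom.fst := fp_lift_fst _ ψ
    have hψ₂ : 𝒴.p.IsHomLift (g ≫ f) ψ.hom.snd := fp_lift_snd _ ψ
    have hx : 𝒮.p.IsHomLift (𝟙 (𝒳.p.obj x.obj.fst)) x.obj.iso.hom := x.property
    have hy : 𝒮.p.IsHomLift (𝟙 (𝒳.p.obj y.obj.fst)) y.obj.iso.hom := y.property
    have hz : 𝒮.p.IsHomLift (𝟙 (𝒳.p.obj z.obj.fst)) z.obj.iso.hom := z.property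
    let χ₁ := IsStronglyCartesian.map 𝒳.p f φ.hom.fst (g := g) rfl ψ.hom.fst
    let χ₂ := IsStronglyCartesian.map 𝒴.p f φ.hom.snd (g := g) rfl ψ.hom.snd
    have hχ₂ : 𝒴.p.IsHomLift g χ₂ := inferInstance
    have hc₁ : χ₁ ≫ φ.hom.fst = ψ.hom.fst := IsStronglyCartesian.fac 𝒳.p f φ.hom.fst rfl _
    have hc₂ : χ₂ ≫ φ.hom.snd = ψ.hom.snd := IsStronglyCartesian.fac 𝒴.p f φ.hom.snd rfl _
    have l₁ : 𝒮.p.IsHomLift g (F.map χ₁ ≫ x.obj.iso.hom) := by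
      have := IsHomLift.codomain_eq 𝒳.p g χ₁
      subst this
      have h := (inferInstance : 𝒮.p.IsHomLift (g ≫ 𝟙 _) (F.map χ₁ ≫ x.obj.iso.hom))
      rwa [Category.comp_id] at h
    have l₂ : 𝒮.p.IsHomLift g (z.obj.iso.hom ≫ G.map χ₂) := by
      have hz' : 𝒮.p.IsHomLift (𝟙 ((FibCat.fp F G).p.obj z)) z.obj.iso.hom := hz
      have h := (inferInstance : 𝒮.p.IsHomLift (𝟙 _ ≫ g) (z.obj.iso.hom ≫ G.map χ₂))
      rwa [Category.id_comp] at h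
    have w : F.map χ₁ ≫ x.obj.iso.hom = z.obj.iso.hom ≫ G.map χ₂ := by
      apply IsStronglyCartesian.ext 𝒮.p f (G.map φ.hom.snd) (g := g)
      rw [Category.assoc, Category.assoc, ← φ.hom.w, ← G.toFunctor.map_comp, hc₂,
        ← Category.assoc, ← F.toFunctor.map_comp, hc₁]
      exact ψ.hom.w
    refine ⟨fpHom χ₁ χ₂ w, ⟨fp_lift_of_fst g _ (inferInstanceAs (𝒳.p.IsHomLift g χ₁)),
      fp_hom_ext hc₁ hc₂⟩, ?_⟩
    rintro χ ⟨hχ, hc⟩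
    have := hχ
    have h₁ : 𝒳.p.IsHomLift g χ.hom.fst := fp_lift_fst g χ
    have h₂ : 𝒴.p.IsHomLift g χ.hom.snd := fp_lift_snd g χ
    exact fp_hom_ext
      (IsStronglyCartesian.map_uniq 𝒳.p f φ.hom.fst rfl ψ.hom.fst _ (by rw [← hc]; rfl))
      (IsStronglyCartesian.map_uniq 𝒴.p f φ.hom.snd rfl ψ.hom.snd _ (by rw [← hc]; rfl))

theorem fp_isCartesian {x y : (FibCat.fp F G).obj} {R S : C} (f : R ⟶ S) (φ : x ⟶ y)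
    [𝒳.p.IsCartesian f φ.hom.fst] [𝒴.p.IsCartesian f φ.hom.snd]
    [𝒮.p.IsCartesian f (G.map φ.hom.snd)] : (FibCat.fp F G).p.IsCartesian f φ where
  toIsHomLift := fp_lift_of_fst f φ inferInstance
  universal_property {z} ψ _ := by
    have hψ₁ : 𝒳.p.IsHomLift f ψ.hom.fst := fp_lift_fst _ ψ
    have hψ₂ : 𝒴.p.IsHomLift f ψ.hom.snd := fp_lift_snd _ ψ
    have hx : 𝒮.p.IsHomLift (𝟙 (𝒳.p.obj x.obj.fst)) x.obj.iso.hom := x.property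
    have hz : 𝒮.p.IsHomLift (𝟙 (𝒳.p.obj z.obj.fst)) z.obj.iso.hom := z.property
    rw [IsHomLift.domain_eq 𝒳.p f φ.hom.fst] at hx
    rw [IsHomLift.domain_eq 𝒳.p f ψ.hom.fst] at hz
    let χ₁ := IsCartesian.map 𝒳.p f φ.hom.fst ψ.hom.fst
    let χ₂ := IsCartesian.map 𝒴.p f φ.hom.snd ψ.hom.snd
    have hc₁ : χ₁ ≫ φ.hom.fst = ψ.hom.fst := IsCartesian.fac 𝒳.p f φ.hom.fst _
    have hc₂ : χ₂ ≫ φ.hom.snd = ψ.hom.snd := IsCartesian.fac 𝒴.p f φ.hom.snd _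
    have w : F.map χ₁ ≫ x.obj.iso.hom = z.obj.iso.hom ≫ G.map χ₂ := by
      apply IsCartesian.ext 𝒮.p f (G.map φ.hom.snd)
      rw [Category.assoc, Category.assoc, ← φ.hom.w, ← G.toFunctor.map_comp, hc₂,
        ← Category.assoc, ← F.toFunctor.map_comp, hc₁]
      exact ψ.hom.w
    refine ⟨fpHom χ₁ χ₂ w, ⟨fp_lift_of_fst (𝟙 R) _ (inferInstanceAs (𝒳.p.IsHomLift (𝟙 R) χ₁)),
      fp_hom_ext hc₁ hc₂⟩, ?_⟩
    rintro χ ⟨hχ, hc⟩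
    have := hχ
    have h₁ : 𝒳.p.IsHomLift (𝟙 R) χ.hom.fst := fp_lift_fst _ χ
    have h₂ : 𝒴.p.IsHomLift (𝟙 R) χ.hom.snd := fp_lift_snd _ χ
    exact fp_hom_ext
      (IsCartesian.map_uniq 𝒳.p f φ.hom.fst ψ.hom.fst _ (by rw [← hc]; rfl))
      (IsCartesian.map_uniq 𝒴.p f φ.hom.snd ψ.hom.snd _ (by rw [← hc]; rfl))

/-- Cartesian lifts in the factors give an object of the fibre product above. -/
theorem exists_fp_lift (x : (FibCat.fp F G).obj) {R S : C} (f : R ⟶ S) {a : 𝒳.obj} {b : 𝒴.obj}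
    (φ : a ⟶ x.obj.fst) (ψ : b ⟶ x.obj.snd) [𝒳.p.IsHomLift f φ] [𝒴.p.IsHomLift f ψ]
    [𝒮.p.IsCartesian f (F.map φ)] [𝒮.p.IsCartesian f (G.map ψ)] :
    ∃ (e : F.obj a ≅ G.obj b), 𝒮.p.IsHomLift (𝟙 (𝒳.p.obj a)) e.hom ∧
      F.map φ ≫ x.obj.iso.hom = e.hom ≫ G.map ψ := by
  have hx : 𝒮.p.IsHomLift (𝟙 (𝒳.p.obj x.obj.fst)) x.obj.iso.hom := x.property
  rw [IsHomLift.codomain_eq 𝒳.p f φ] at hx
  have := IsCartesian.of_comp_iso 𝒮.p f (F.map φ) x.obj.iso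
  refine ⟨IsCartesian.domainUniqueUpToIso 𝒮.p f (G.map ψ) (F.map φ ≫ x.obj.iso.hom), ?_, ?_⟩
  · rw [IsHomLift.domain_eq 𝒳.p f φ]; infer_instance
  · exact (IsCartesian.fac 𝒮.p f (G.map ψ) (F.map φ ≫ x.obj.iso.hom)).symm

theorem fp_isFibered [𝒳.p.IsFibered] [𝒴.p.IsFibered] (hF : Cart F) (hG : Cart G) :
    (FibCat.fp F G).p.IsFibered := by
  refine IsFibered.of_exists_isStronglyCartesian fun x R f => ?_
  obtain ⟨a, φ, hφ⟩ := exists_stronglyCartesian 𝒳.p (rfl : 𝒳.p.obj x.obj.fst = _) f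
  obtain ⟨b, ψ, hψ⟩ := exists_stronglyCartesian 𝒴.p (fp_snd_proj x) f
  let f' : R ⟶ 𝒳.p.obj x.obj.fst := f
  have : 𝒳.p.IsHomLift f φ := hφ.toIsHomLift
  have : 𝒴.p.IsHomLift f ψ := hψ.toIsHomLift
  have := hF f φ hφ
  have := hG f ψ hψ
  obtain ⟨e, he, hw⟩ := exists_fp_lift x f φ ψ
  let z : (FibCat.fp F G).obj := ⟨⟨a, b, e⟩, he⟩
  let χ : z ⟶ x := fpHom φ ψ hw
  have : 𝒳.p.IsStronglyCartesian f χ.hom.fst := hφ
  have : 𝒴.p.IsStronglyCartesian f χ.hom.snd := hψ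
  have : 𝒮.p.IsStronglyCartesian f (G.map χ.hom.snd) := hG f ψ hψ
  exact ⟨z, χ, fp_isStronglyCartesian f χ⟩

theorem fp_isFibGrpd (h𝒳 : FibCat.IsFibGrpd 𝒳.p) (h𝒴 : FibCat.IsFibGrpd 𝒴.p)
    (h𝒮 : FibCat.IsFibGrpd 𝒮.p) : FibCat.IsFibGrpd (FibCat.fp F G).p := by
  have := isFibered_of_isFibGrpd _ h𝒳
  have := isFibered_of_isFibGrpd _ h𝒴
  have := fp_isFibered (F := F) (G := G) (cart_of_isFibGrpd F h𝒮) (cart_of_isFibGrpd G h𝒮)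
  refine isFibGrpd_of_lifts _ (fun x V f => ?_) (fun R S f y x φ hφ => ?_)
  · obtain ⟨b, φ, hφ⟩ := exists_stronglyCartesian (FibCat.fp F G).p rfl f
    exact ⟨b, φ, inferInstance⟩
  · have := hφ
    have := fp_lift_fst f φ
    have := fp_lift_snd f φ
    have := stronglyCartesian_of_isFibGrpd _ h𝒳 f φ.hom.fst
    have := stronglyCartesian_of_isFibGrpd _ h𝒴 f φ.hom.snd
    have := stronglyCartesian_of_isFibGrpd _ h𝒮 f (G.map φ.hom.snd)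
    exact fp_isStronglyCartesian f φ

theorem fpFst_overCat_isFibGrpd {U : C} {𝒳' : BasedCategory.{v₂, u₂} C} {𝒴' : BasedCategory.{v₃, u₃} C}
    (h𝒳 : FibCat.IsFibGrpd 𝒳'.p) (h𝒴 : FibCat.IsFibGrpd 𝒴'.p) (G' : FibCat.overCat U ⥤ᵇ 𝒴')
    (F' : 𝒳' ⥤ᵇ 𝒴') : FibCat.IsFibGrpd (FibCat.fpFst G' F').toFunctor :=
  isFibGrpd_of_comp_overForget (FibCat.fpFst G' F').toFunctor
    (fp_isFibGrpd (isFibGrpd_overForget U) h𝒳 h𝒴)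

theorem fpSnd_id_isFibGrpd (h𝒳 : FibCat.IsFibGrpd 𝒳.p) (h𝒮 : FibCat.IsFibGrpd 𝒮.p) (F : 𝒳 ⥤ᵇ 𝒮) :
    FibCat.IsFibGrpd (FibCat.fpSnd F (BasedFunctor.id 𝒮)).toFunctor := by
  have hc : FibCat.IsFibGrpd ((FibCat.fpSnd F (BasedFunctor.id 𝒮)).toFunctor ⋙ 𝒮.p) := by
    rw [(FibCat.fpSnd F (BasedFunctor.id 𝒮)).w]
    exact fp_isFibGrpd h𝒳 h𝒮 h𝒮
  refine isFibGrpd_of_lifts _ (fun x y' g => ?_) (fun R S g y x φ hφ => ?_)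
  · let g₀ : y' ⟶ x.obj.snd := g
    let f : 𝒮.p.obj y' ⟶ 𝒳.p.obj x.obj.fst := 𝒮.p.map g₀ ≫ eqToHom (fp_snd_proj x)
    have hg : 𝒮.p.IsHomLift f g₀ := IsHomLift.of_fac 𝒮.p f g₀ rfl (fp_snd_proj x) (by simp [f])
    obtain ⟨a, φ, hφ⟩ := h𝒳.exists_lift (x := x.obj.fst) f
    have := hφ
    have := stronglyCartesian_of_isFibGrpd _ h𝒮 f (F.map φ)
    have : 𝒮.p.IsStronglyCartesian f ((BasedFunctor.id 𝒮).map g₀) := stronglyCartesian_of_isFibGrpd _ h𝒮 f g₀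
    obtain ⟨e, he, hw⟩ := exists_fp_lift (F := F) (G := BasedFunctor.id 𝒮) x f φ g₀
    exact ⟨⟨⟨a, y', e⟩, he⟩, fpHom φ g₀ hw,
      IsHomLift.map (FibCat.fpSnd F (BasedFunctor.id 𝒮)).toFunctor
        (fpHom φ g₀ hw : (⟨⟨a, y', e⟩, he⟩ : (FibCat.fp F (BasedFunctor.id 𝒮)).obj) ⟶ x)⟩
  · subst_hom_lift (FibCat.fpSnd F (BasedFunctor.id 𝒮)).toFunctor g φ
    let f := 𝒮.p.map ((FibCat.fpSnd F (BasedFunctor.id 𝒮)).map φ)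
    have : ((FibCat.fpSnd F (BasedFunctor.id 𝒮)).toFunctor ⋙ 𝒮.p).IsHomLift f φ :=
      IsHomLift.map ((FibCat.fpSnd F (BasedFunctor.id 𝒮)).toFunctor ⋙ 𝒮.p) φ
    have := stronglyCartesian_of_isFibGrpd _ hc f φ
    have := stronglyCartesian_of_isFibGrpd _ h𝒮 f ((FibCat.fpSnd F (BasedFunctor.id 𝒮)).map φ)
    exact isStronglyCartesian_of_comp (FibCat.fpSnd F (BasedFunctor.id 𝒮)).toFunctor 𝒮.p f φ

end Fp

section Self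

variable {𝒳 : BasedCategory.{v₂, u₂} C} {𝒴 : BasedCategory.{v₃, u₃} C}

theorem self_hom_ext {R S : C} (f : R ⟶ S) {a b : (FibCat.selfOver C).obj} (φ ψ : a ⟶ b)
    [(FibCat.selfOver C).p.IsHomLift f φ] [(FibCat.selfOver C).p.IsHomLift f ψ] : φ = ψ :=
  (IsHomLift.fac' (FibCat.selfOver C).p f φ).trans (IsHomLift.fac' (FibCat.selfOver C).p f ψ).symm

theorem isFibGrpd_id : FibCat.IsFibGrpd (𝟭 C) where
  exists_lift := fun {x V} f => ⟨V, f, IsHomLift.map (𝟭 C) (f : V ⟶ x)⟩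
  isStronglyCartesian := fun {y x} φ =>
    { universal_property' := fun {z} g ψ hψ => ⟨g, ⟨IsHomLift.map (𝟭 C) g,
          IsHomLift.eq_of_isHomLift (𝟭 C) (g ≫ (𝟭 C).map φ) ψ⟩,
        fun χ h => (@IsHomLift.eq_of_isHomLift _ _ _ _ (𝟭 C) _ _ g χ h.1).symm⟩ }

theorem isFibGrpd_selfOver : FibCat.IsFibGrpd (FibCat.selfOver C).p := isFibGrpd_id

theorem self_eqToHom_lift {a b : C} (h : a = b) :
    (FibCat.selfOver C).p.IsHomLift (𝟙 a) (eqToHom h) := by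
  subst h; exact IsHomLift.map (𝟭 C) (𝟙 a)

theorem toSelf_sq {x y : (FibCat.fp (FibCat.toSelf 𝒳) (FibCat.toSelf 𝒴)).obj} {R S : C} (f : R ⟶ S)
    (s : x.obj.fst ⟶ y.obj.fst) (t : x.obj.snd ⟶ y.obj.snd) [𝒳.p.IsHomLift f s] [𝒴.p.IsHomLift f t] :
    (FibCat.toSelf 𝒳).map s ≫ y.obj.iso.hom = x.obj.iso.hom ≫ (FibCat.toSelf 𝒴).map t := by
  have hx : (FibCat.selfOver C).p.IsHomLift (𝟙 (𝒳.p.obj x.obj.fst)) x.obj.iso.hom := x.property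
  have hy : (FibCat.selfOver C).p.IsHomLift (𝟙 (𝒳.p.obj y.obj.fst)) y.obj.iso.hom := y.property
  rw [IsHomLift.domain_eq 𝒳.p f s] at hx
  rw [IsHomLift.codomain_eq 𝒳.p f s] at hy
  exact self_hom_ext f _ _

theorem toSelf_cartesian_fst {x y : (FibCat.fp (FibCat.toSelf 𝒳) (FibCat.toSelf 𝒴)).obj} {R S : C}
    (f : R ⟶ S) (φ : x ⟶ y) [(FibCat.fp (FibCat.toSelf 𝒳) (FibCat.toSelf 𝒴)).p.IsCartesian f φ] :
    𝒳.p.IsCartesian f φ.hom.fst where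
  toIsHomLift := fp_lift_fst f φ
  universal_property {a} ψ _ := by
    have := fp_lift_snd f φ
    have hz : 𝒳.p.obj a = 𝒴.p.obj x.obj.snd :=
      (IsHomLift.domain_eq 𝒳.p f ψ).trans (IsHomLift.domain_eq 𝒴.p f φ.hom.snd).symm
    let z : (FibCat.fp (FibCat.toSelf 𝒳) (FibCat.toSelf 𝒴)).obj :=
      ⟨⟨a, x.obj.snd, eqToIso hz⟩, self_eqToHom_lift hz⟩
    let ψ' : z ⟶ y := fpHom ψ φ.hom.snd (toSelf_sq (x := z) f ψ φ.hom.snd)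
    have : (FibCat.fp (FibCat.toSelf 𝒳) (FibCat.toSelf 𝒴)).p.IsHomLift f ψ' :=
      fp_lift_of_fst f ψ' (inferInstanceAs (𝒳.p.IsHomLift f ψ))
    let χ := IsCartesian.map (FibCat.fp (FibCat.toSelf 𝒳) (FibCat.toSelf 𝒴)).p f φ ψ'
    have hχ : χ ≫ φ = ψ' := IsCartesian.fac _ f φ ψ'
    refine ⟨χ.hom.fst, ⟨fp_lift_fst (𝟙 R) χ, congrArg (fun k => k.hom.fst) hχ⟩, ?_⟩
    rintro τ ⟨hτ, hτc⟩
    have := hτ
    have : 𝒴.p.IsHomLift (𝟙 R) (𝟙 x.obj.snd) := IsHomLift.id (IsHomLift.domain_eq 𝒴.p f φ.hom.snd)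
    let τ' : z ⟶ x := fpHom τ (𝟙 x.obj.snd) (toSelf_sq (x := z) (𝟙 R) τ (𝟙 x.obj.snd))
    have : (FibCat.fp (FibCat.toSelf 𝒳) (FibCat.toSelf 𝒴)).p.IsHomLift (𝟙 R) τ' :=
      fp_lift_of_fst (𝟙 R) τ' (inferInstanceAs (𝒳.p.IsHomLift (𝟙 R) τ))
    exact congrArg (fun k => k.hom.fst) (IsCartesian.map_uniq (FibCat.fp (FibCat.toSelf 𝒳) (FibCat.toSelf 𝒴)).p f φ ψ' τ'
      (fp_hom_ext hτc (Category.id_comp _)))

theorem toSelf_cartesian_snd {x y : (FibCat.fp (FibCat.toSelf 𝒳) (FibCat.toSelf 𝒴)).obj} {R S : C}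
    (f : R ⟶ S) (φ : x ⟶ y) [(FibCat.fp (FibCat.toSelf 𝒳) (FibCat.toSelf 𝒴)).p.IsCartesian f φ] :
    𝒴.p.IsCartesian f φ.hom.snd where
  toIsHomLift := fp_lift_snd f φ
  universal_property {b} ψ _ := by
    have := fp_lift_fst f φ
    have hz : 𝒳.p.obj x.obj.fst = 𝒴.p.obj b :=
      (IsHomLift.domain_eq 𝒳.p f φ.hom.fst).trans (IsHomLift.domain_eq 𝒴.p f ψ).symm
    let z : (FibCat.fp (FibCat.toSelf 𝒳) (FibCat.toSelf 𝒴)).obj :=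
      ⟨⟨x.obj.fst, b, eqToIso hz⟩, self_eqToHom_lift hz⟩
    let ψ' : z ⟶ y := fpHom φ.hom.fst ψ (toSelf_sq (x := z) f φ.hom.fst ψ)
    have : (FibCat.fp (FibCat.toSelf 𝒳) (FibCat.toSelf 𝒴)).p.IsHomLift f ψ' :=
      fp_lift_of_fst f ψ' (inferInstanceAs (𝒳.p.IsHomLift f φ.hom.fst))
    let χ := IsCartesian.map (FibCat.fp (FibCat.toSelf 𝒳) (FibCat.toSelf 𝒴)).p f φ ψ'
    have hχ : χ ≫ φ = ψ' := IsCartesian.fac _ f φ ψ'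
    refine ⟨χ.hom.snd, ⟨fp_lift_snd (𝟙 R) χ, congrArg (fun k => k.hom.snd) hχ⟩, ?_⟩
    rintro τ ⟨hτ, hτc⟩
    have := hτ
    have : 𝒳.p.IsHomLift (𝟙 R) (𝟙 x.obj.fst) := IsHomLift.id (IsHomLift.domain_eq 𝒳.p f φ.hom.fst)
    let τ' : z ⟶ x := fpHom (𝟙 x.obj.fst) τ (toSelf_sq (x := z) (𝟙 R) (𝟙 x.obj.fst) τ)
    have : (FibCat.fp (FibCat.toSelf 𝒳) (FibCat.toSelf 𝒴)).p.IsHomLift (𝟙 R) τ' :=
      fp_lift_of_fst (𝟙 R) τ' (inferInstanceAs (𝒳.p.IsHomLift (𝟙 R) (𝟙 x.obj.fst)))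
    exact congrArg (fun k => k.hom.snd) (IsCartesian.map_uniq (FibCat.fp (FibCat.toSelf 𝒳) (FibCat.toSelf 𝒴)).p f φ ψ' τ'
      (fp_hom_ext (Category.id_comp _) hτc))

theorem toSelf_cartesian_of {x y : (FibCat.fp (FibCat.toSelf 𝒳) (FibCat.toSelf 𝒴)).obj} {R S : C}
    (f : R ⟶ S) (φ : x ⟶ y) [𝒳.p.IsCartesian f φ.hom.fst] [𝒴.p.IsCartesian f φ.hom.snd] :
    (FibCat.fp (FibCat.toSelf 𝒳) (FibCat.toSelf 𝒴)).p.IsCartesian f φ := by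
  have := stronglyCartesian_of_isFibGrpd _ isFibGrpd_selfOver f ((FibCat.toSelf 𝒴).map φ.hom.snd)
  exact fp_isCartesian f φ

theorem toSelf_fp_isFibered [𝒳.p.IsFibered] [𝒴.p.IsFibered] :
    (FibCat.fp (FibCat.toSelf 𝒳) (FibCat.toSelf 𝒴)).p.IsFibered :=
  fp_isFibered (cart_of_isFibGrpd _ isFibGrpd_selfOver) (cart_of_isFibGrpd _ isFibGrpd_selfOver)

theorem toSelf_fp_isPreFibered [𝒳.p.IsPreFibered] [𝒴.p.IsPreFibered] :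
    (FibCat.fp (FibCat.toSelf 𝒳) (FibCat.toSelf 𝒴)).p.IsPreFibered where
  exists_isCartesian' {x R} f := by
    obtain ⟨a, φ, hφ⟩ := IsPreFibered.exists_isCartesian 𝒳.p (rfl : 𝒳.p.obj x.obj.fst = _) f
    obtain ⟨b, ψ, hψ⟩ := IsPreFibered.exists_isCartesian 𝒴.p (fp_snd_proj x) f
    have : 𝒳.p.IsHomLift f φ := hφ.toIsHomLift
    have : 𝒴.p.IsHomLift f ψ := hψ.toIsHomLift
    have := stronglyCartesian_of_isFibGrpd _ isFibGrpd_selfOver f ((FibCat.toSelf 𝒳).map φ)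
    have := stronglyCartesian_of_isFibGrpd _ isFibGrpd_selfOver f ((FibCat.toSelf 𝒴).map ψ)
    obtain ⟨e, he, hw⟩ := exists_fp_lift x f φ ψ
    let z : (FibCat.fp (FibCat.toSelf 𝒳) (FibCat.toSelf 𝒴)).obj := ⟨⟨a, b, e⟩, he⟩
    let χ : z ⟶ x := fpHom φ ψ hw
    have : 𝒳.p.IsCartesian f χ.hom.fst := hφ
    have : 𝒴.p.IsCartesian f χ.hom.snd := hψ
    exact ⟨z, χ, toSelf_cartesian_of f χ⟩

end Self

end Groth.Agent.FibBasics
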