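import Groth.Agent.FibBasics.Repr
import Groth.Prelude.Def_StGerb

/-!
Gerbes: invariance under equivalence, composition, base change.
-/

set_option autoImplicit false

universe v₅ u₅ v₄ u₄ v₃ u₃ v₂ u₂ v u

open CategoryTheory CategoryTheory.Functor CategoryTheory.Limits

namespace Groth.Agent.FibBasics

variable {C : Type u} [Category.{v} C] (J : GrothendieckTopology C)
  {𝒳 : BasedCategory.{v₂, u₂} C} {𝒴 : BasedCategory.{v₃, u₃} C} {𝒵 : BasedCategory.{v₄, u₄} C}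

theorem lift_id_left {p : 𝒳.obj ⥤ C} {R S : C} (f : R ⟶ S) {a b c : 𝒳.obj} (i : a ⟶ b) (φ : b ⟶ c)
    (hi : p.IsHomLift (𝟙 R) i) (hφ : p.IsHomLift f φ) : p.IsHomLift f (i ≫ φ) := by
  have h := (inferInstance : p.IsHomLift (𝟙 R ≫ f) (i ≫ φ))
  rwa [Category.id_comp] at h

theorem lift_id_right {p : 𝒳.obj ⥤ C} {R S : C} (f : R ⟶ S) {a b c : 𝒳.obj} (φ : a ⟶ b) (i : b ⟶ c)
    (hφ : p.IsHomLift f φ) (hi : p.IsHomLift (𝟙 S) i) : p.IsHomLift f (φ ≫ i) := by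
  have h := (inferInstance : p.IsHomLift (f ≫ 𝟙 S) (φ ≫ i))
  rwa [Category.comp_id] at h

theorem comp_lift {p : 𝒳.obj ⥤ C} {R S T : C} (f : R ⟶ S) (g : S ⟶ T) {a b c : 𝒳.obj} (φ : a ⟶ b) (ψ : b ⟶ c)
    (h₁ : p.IsHomLift f φ) (h₂ : p.IsHomLift g ψ) : p.IsHomLift (f ≫ g) (φ ≫ ψ) :=
  inferInstance

section Invariance

variable {a : 𝒳 ⥤ᵇ 𝒴} (ha : FibCat.IsEquivOver a) (F : 𝒴 ⥤ᵇ 𝒵)

include ha in
theorem locSurjObj_iff : Gerb.LocSurjObj J (BasedFunctor.comp a F) ↔ Gerb.LocSurjObj J F := by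
  refine ⟨fun h z => ?_, fun h z => ?_⟩
  · obtain ⟨R, hR, hf⟩ := h z
    refine ⟨R, hR, fun V f hVf => ?_⟩
    obtain ⟨x, g, hg⟩ := hf f hVf
    exact ⟨a.obj x, g, hg⟩
  · obtain ⟨R, hR, hf⟩ := h z
    refine ⟨R, hR, fun V f hVf => ?_⟩
    obtain ⟨y, g, hg⟩ := hf f hVf
    obtain ⟨x, e, he⟩ := essSurjOver_of_isEquivOver ha y
    have hV : 𝒴.p.obj y = V := (F.w_obj y).symm.trans (IsHomLift.domain_eq 𝒵.p f g)
    subst hV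
    exact ⟨x, F.map e.hom ≫ g, lift_id_left f (F.map e.hom) g
      (BasedFunctor.preserves_isHomLift F _ e.hom) hg⟩

include ha in
theorem locSurjHom_iff : Gerb.LocSurjHom J (BasedFunctor.comp a F) ↔ Gerb.LocSurjHom J F := by
  obtain ⟨⟨_, _⟩, hes⟩ := (isEquivOver_iff a).1 ha
  refine ⟨fun h y y' b hb => ?_, fun h x x' b hb => ?_⟩
  · obtain ⟨x, e, he⟩ := hes y
    obtain ⟨x', e', he'⟩ := hes y'
    have hy' : 𝒴.p.obj y' = 𝒴.p.obj y :=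
      (F.w_obj y').symm.trans (IsHomLift.codomain_eq 𝒵.p (𝟙 (𝒴.p.obj y)) b)
    have hx : 𝒳.p.obj x = 𝒴.p.obj y :=
      (a.w_obj x).symm.trans (IsHomLift.domain_eq 𝒴.p (𝟙 (𝒴.p.obj y)) e.hom)
    rw [hy'] at he'
    have := IsHomLift.lift_id_inv 𝒴.p (𝒴.p.obj y) e'
    have hb' : 𝒵.p.IsHomLift (𝟙 (𝒳.p.obj x)) (F.map e.hom ≫ b ≫ F.map e'.inv) := by
      rw [hx]
      exact lift_id_left _ _ _ (BasedFunctor.preserves_isHomLift F _ e.hom)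
        (lift_id_right _ _ _ hb (BasedFunctor.preserves_isHomLift F _ e'.inv))
    obtain ⟨R, hR, hf⟩ := h x x' (F.map e.hom ≫ b ≫ F.map e'.inv) hb'
    have key : ∀ (U : C), U = 𝒴.p.obj y → ∀ R ∈ J U,
        (∀ ⦃V : C⦄ (f : V ⟶ U), R f → ∃ (x₀ : 𝒳.obj) (φ : x₀ ⟶ x) (ψ : x₀ ⟶ x'),
          𝒳.p.IsHomLift f φ ∧ 𝒳.p.IsHomLift f ψ ∧
            F.map (a.map φ) ≫ F.map e.hom ≫ b ≫ F.map e'.inv = F.map (a.map ψ)) →
        ∃ R ∈ J (𝒴.p.obj y), ∀ ⦃V : C⦄ (f : V ⟶ 𝒴.p.obj y), R f →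
          ∃ (y₀ : 𝒴.obj) (φ : y₀ ⟶ y) (ψ : y₀ ⟶ y'),
            𝒴.p.IsHomLift f φ ∧ 𝒴.p.IsHomLift f ψ ∧ F.map φ ≫ b = F.map ψ := by
      rintro U rfl R hR hf
      refine ⟨R, hR, fun V f hVf => ?_⟩
      obtain ⟨x₀, φ, ψ, hφ, hψ, heq⟩ := hf f hVf
      refine ⟨a.obj x₀, a.map φ ≫ e.hom, a.map ψ ≫ e'.hom,
        lift_id_right f _ _ (BasedFunctor.preserves_isHomLift a f φ) he,
        lift_id_right f _ _ (BasedFunctor.preserves_isHomLift a f ψ) he', ?_⟩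
      rw [F.toFunctor.map_comp, F.toFunctor.map_comp, ← heq]
      simp only [Category.assoc]
      rw [← F.toFunctor.map_comp e'.inv, Iso.inv_hom_id, F.toFunctor.map_id, Category.comp_id]
    exact key _ hx R hR hf
  · change F.obj (a.obj x) ⟶ F.obj (a.obj x') at b
    have hb' : 𝒵.p.IsHomLift (𝟙 (𝒴.p.obj (a.obj x))) b := by
      rw [a.w_obj]; exact hb
    obtain ⟨R, hR, hf⟩ := h (a.obj x) (a.obj x') b hb'
    have key : ∀ (U : C), U = 𝒳.p.obj x → ∀ R ∈ J U,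
        (∀ ⦃V : C⦄ (f : V ⟶ U), R f → ∃ (y₀ : 𝒴.obj) (φ : y₀ ⟶ a.obj x) (ψ : y₀ ⟶ a.obj x'),
          𝒴.p.IsHomLift f φ ∧ 𝒴.p.IsHomLift f ψ ∧ F.map φ ≫ b = F.map ψ) →
        ∃ R ∈ J (𝒳.p.obj x), ∀ ⦃V : C⦄ (f : V ⟶ 𝒳.p.obj x), R f →
          ∃ (x₀ : 𝒳.obj) (φ : x₀ ⟶ x) (ψ : x₀ ⟶ x'),
            𝒳.p.IsHomLift f φ ∧ 𝒳.p.IsHomLift f ψ ∧ F.map (a.map φ) ≫ b = F.map (a.map ψ) := by
      rintro U rfl R hR hf
      refine ⟨R, hR, fun V f hVf => ?_⟩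
      obtain ⟨y₀, φ, ψ, hφ, hψ, heq⟩ := hf f hVf
      obtain ⟨x₀, e, he⟩ := hes y₀
      have hV : 𝒴.p.obj y₀ = V := IsHomLift.domain_eq 𝒴.p f φ
      subst hV
      obtain ⟨φ', hφ'⟩ := a.toFunctor.map_surjective (e.hom ≫ φ)
      obtain ⟨ψ', hψ'⟩ := a.toFunctor.map_surjective (e.hom ≫ ψ)
      refine ⟨x₀, φ', ψ', (BasedFunctor.isHomLift_iff a f φ').1 (hφ' ▸ lift_id_left f _ _ he hφ),
        (BasedFunctor.isHomLift_iff a f ψ').1 (hψ' ▸ lift_id_left f _ _ he hψ), ?_⟩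
      rw [hφ', hψ', F.toFunctor.map_comp, F.toFunctor.map_comp, Category.assoc, heq]
    exact key _ (a.w_obj x) R hR hf

include ha in
theorem isGerbeOver_iff : Gerb.IsGerbeOver J (BasedFunctor.comp a F) ↔ Gerb.IsGerbeOver J F :=
  and_congr (locSurjObj_iff J ha F) (locSurjHom_iff J ha F)

end Invariance

section Stack

theorem isStackFor_of_equiv {𝒳₁ 𝒳₂ : BasedCategory.{v, max u v} C} {F : 𝒳₁ ⥤ᵇ 𝒳₂}
    (hF : FibCat.IsEquivOver F) {U : C} (R : Sieve U) (h : Stk.IsStackFor R 𝒳₁) :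
    Stk.IsStackFor R 𝒳₂ := by
  obtain ⟨F', ⟨η⟩, ⟨ε⟩⟩ := hF
  have h1 := postcomp_isEquivalence (B := BasedCategory.{v, max u v} C) (FibCat.overCat U) F F' η ε
  have h2 := postcomp_isEquivalence (B := BasedCategory.{v, max u v} C) (Stk.sieveCat R) F F' η ε
  let P : (FibCat.overCat U ⥤ᵇ 𝒳₁) ⥤ (FibCat.overCat U ⥤ᵇ 𝒳₂) :=
    Bicategory.postcomp (B := BasedCategory.{v, max u v} C) (FibCat.overCat U) F
  let Q : (Stk.sieveCat R ⥤ᵇ 𝒳₁) ⥤ (Stk.sieveCat R ⥤ᵇ 𝒳₂) :=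
    Bicategory.postcomp (B := BasedCategory.{v, max u v} C) (Stk.sieveCat R) F
  have : P.IsEquivalence := h1
  have : Q.IsEquivalence := h2
  let i : Stk.resSieve R 𝒳₁ ⋙ Q ≅ P ⋙ Stk.resSieve R 𝒳₂ :=
    NatIso.ofComponents (fun G => Iso.refl _) (fun {G H} α => by
      refine (Category.comp_id _).trans (Eq.trans ?_ (Category.id_comp _).symm)
      apply BasedNatTrans.homCategory.ext
      rfl)
  have : (Stk.resSieve R 𝒳₁).IsEquivalence := h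
  have : (P ⋙ Stk.resSieve R 𝒳₂).IsEquivalence := Functor.isEquivalence_of_iso i
  exact Functor.isEquivalence_of_comp_left P (Stk.resSieve R 𝒳₂)

theorem isStack_of_equiv {𝒳₁ 𝒳₂ : BasedCategory.{v, max u v} C} {F : 𝒳₁ ⥤ᵇ 𝒳₂}
    (hF : FibCat.IsEquivOver F) (h : Stk.IsStack J 𝒳₁) : Stk.IsStack J 𝒳₂ :=
  ⟨isFibGrpd_of_isEquivOver hF h.1, fun _ R hR => isStackFor_of_equiv hF R (h.2 R hR)⟩

theorem isGerbe_iff_of_equiv {𝒳₁ 𝒳₂ : BasedCategory.{v, max u v} C} {F : 𝒳₁ ⥤ᵇ 𝒳₂}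
    (hF : FibCat.IsEquivOver F) : Gerb.IsGerbe J 𝒳₁ ↔ Gerb.IsGerbe J 𝒳₂ := by
  obtain ⟨F', hF', -⟩ := isEquivOver_symm hF
  have h := isGerbeOver_iff J hF (FibCat.toSelf 𝒳₂)
  rw [comp_toSelf] at h
  exact ⟨fun hh => ⟨isStack_of_equiv J hF hh.1, h.1 hh.2⟩, fun hh => ⟨isStack_of_equiv J hF' hh.1, h.2 hh.2⟩⟩

end Stack

section Composition

variable (F : 𝒳 ⥤ᵇ 𝒴) (G : 𝒴 ⥤ᵇ 𝒵)

theorem locSurjObj_comp (hF : Gerb.LocSurjObj J F) (hG : Gerb.LocSurjObj J G) :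
    Gerb.LocSurjObj J (BasedFunctor.comp F G) := by
  intro z
  obtain ⟨R, hR, hf⟩ := hG z
  have H : ∀ ⦃V : C⦄ (f : V ⟶ 𝒵.p.obj z), R f → ∃ S ∈ J V, ∀ ⦃W : C⦄ (g : W ⟶ V), S g →
      ∃ (x : 𝒳.obj) (k : G.obj (F.obj x) ⟶ z), 𝒵.p.IsHomLift (g ≫ f) k := by
    intro V f hVf
    obtain ⟨y, k, hk⟩ := hf f hVf
    obtain rfl : 𝒴.p.obj y = V := (G.w_obj y).symm.trans (IsHomLift.domain_eq 𝒵.p f k)
    obtain ⟨S, hS, hg⟩ := hF y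
    refine ⟨S, hS, fun W g hWg => ?_⟩
    obtain ⟨x, l, hl⟩ := hg g hWg
    exact ⟨x, G.map l ≫ k, comp_lift g f _ _ (BasedFunctor.preserves_isHomLift G g l) hk⟩
  choose S hS hg using H
  refine ⟨Sieve.bind R.arrows (fun V f h => S f h), J.bind_covering hR (fun V f h => hS f h), ?_⟩
  rintro W m ⟨V, g, f, hfR, hgS, rfl⟩
  exact hg f hfR g hgS

theorem locSurjHom_comp (h𝒳 : FibCat.IsFibGrpd 𝒳.p) (h𝒴 : FibCat.IsFibGrpd 𝒴.p)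
    (hF : Gerb.IsGerbeOver J F) (hG : Gerb.LocSurjHom J G) :
    Gerb.LocSurjHom J (BasedFunctor.comp F G) := by
  intro x x' b hb
  change G.obj (F.obj x) ⟶ G.obj (F.obj x') at b
  have hb' : 𝒵.p.IsHomLift (𝟙 (𝒴.p.obj (F.obj x))) b := by rw [F.w_obj]; exact hb
  have hx' : 𝒳.p.obj x' = 𝒳.p.obj x :=
    (((G.w_obj (F.obj x')).trans (F.w_obj x')).symm).trans
      (@IsHomLift.codomain_eq _ _ _ _ 𝒵.p _ _ _ _ (𝟙 (𝒳.p.obj x)) b hb)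
  obtain ⟨R₀, hR₀, hf₀⟩ := hG (F.obj x) (F.obj x') b hb'
  have key : ∀ (U : C), U = 𝒳.p.obj x → ∀ R ∈ J U,
      (∀ ⦃V : C⦄ (f : V ⟶ U), R f → ∃ (y₀ : 𝒴.obj) (φ : y₀ ⟶ F.obj x) (ψ : y₀ ⟶ F.obj x'),
        𝒴.p.IsHomLift f φ ∧ 𝒴.p.IsHomLift f ψ ∧ G.map φ ≫ b = G.map ψ) →
      ∃ R ∈ J (𝒳.p.obj x), ∀ ⦃V : C⦄ (f : V ⟶ 𝒳.p.obj x), R f →
        ∃ (x₀ : 𝒳.obj) (φ : x₀ ⟶ x) (ψ : x₀ ⟶ x'),
          𝒳.p.IsHomLift f φ ∧ 𝒳.p.IsHomLift f ψ ∧ G.map (F.map φ) ≫ b = G.map (F.map ψ) := by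
    rintro U rfl R hR hf
    have H1 : ∀ ⦃V : C⦄ (f : V ⟶ 𝒳.p.obj x), R f → ∃ S ∈ J V, ∀ ⦃W : C⦄ (g : W ⟶ V), S g →
        ∃ T ∈ J W, ∀ ⦃Z : C⦄ (h : Z ⟶ W), T h →
        ∃ (x₀ : 𝒳.obj) (φ : x₀ ⟶ x) (ψ : x₀ ⟶ x'),
          𝒳.p.IsHomLift (h ≫ g ≫ f) φ ∧ 𝒳.p.IsHomLift (h ≫ g ≫ f) ψ ∧
            G.map (F.map φ) ≫ b = G.map (F.map ψ) := by
      intro V f hVf
      obtain ⟨y₀, φ, ψ, hφ, hψ, heq⟩ := hf f hVf
      obtain rfl : 𝒴.p.obj y₀ = V := IsHomLift.domain_eq 𝒴.p f φ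
      obtain ⟨S, hS, hg⟩ := hF.1 y₀
      refine ⟨S, hS, fun W g hWg => ?_⟩
      obtain ⟨x₁, k, hk⟩ := hg g hWg
      obtain ⟨xa, c, hc⟩ := h𝒳.exists_lift (x := x) (g ≫ f)
      have : ∃ (xb : 𝒳.obj) (c' : xb ⟶ x'), 𝒳.p.IsHomLift (g ≫ f) c' := by
        have := isFibered_of_isFibGrpd _ h𝒳
        obtain ⟨xb, c', h'⟩ := exists_stronglyCartesian 𝒳.p hx' (g ≫ f)
        exact ⟨xb, c', h'.toIsHomLift⟩
      obtain ⟨xb, c', hc'⟩ := this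
      have l1 : 𝒴.p.IsHomLift (g ≫ f) (k ≫ φ) := comp_lift g f _ _ hk hφ
      have l2 : 𝒴.p.IsHomLift (g ≫ f) (k ≫ ψ) := comp_lift g f _ _ hk hψ
      have lc : 𝒴.p.IsHomLift (g ≫ f) (F.map c) := BasedFunctor.preserves_isHomLift F _ c
      have lc' : 𝒴.p.IsHomLift (g ≫ f) (F.map c') := BasedFunctor.preserves_isHomLift F _ c'
      have := stronglyCartesian_of_isFibGrpd _ h𝒴 (g ≫ f) (k ≫ φ)
      have := stronglyCartesian_of_isFibGrpd _ h𝒴 (g ≫ f) (F.map c)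
      have := stronglyCartesian_of_isFibGrpd _ h𝒴 (g ≫ f) (k ≫ ψ)
      have := stronglyCartesian_of_isFibGrpd _ h𝒴 (g ≫ f) (F.map c')
      let β := IsCartesian.domainUniqueUpToIso 𝒴.p (g ≫ f) (F.map c) (k ≫ φ)
      let β' := IsCartesian.domainUniqueUpToIso 𝒴.p (g ≫ f) (F.map c') (k ≫ ψ)
      have hβ : β.hom ≫ F.map c = k ≫ φ := IsCartesian.fac 𝒴.p (g ≫ f) (F.map c) _
      have hβ' : β'.hom ≫ F.map c' = k ≫ ψ := IsCartesian.fac 𝒴.p (g ≫ f) (F.map c') _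
      have hxa : 𝒳.p.obj xa = W := IsHomLift.domain_eq 𝒳.p (g ≫ f) c
      subst hxa
      have lb : 𝒴.p.IsHomLift (𝟙 (𝒳.p.obj xa)) (β.inv ≫ β'.hom) :=
        lift_id_left _ _ _ (IsHomLift.lift_id_inv 𝒴.p _ β) (inferInstanceAs (𝒴.p.IsHomLift _ β'.hom))
      obtain ⟨T, hT, hh⟩ := hF.2 xa xb (β.inv ≫ β'.hom) lb
      refine ⟨T, hT, fun Z h hZh => ?_⟩
      obtain ⟨x₀, φ₂, ψ₂, hφ₂, hψ₂, heq₂⟩ := hh h hZh
      refine ⟨x₀, φ₂ ≫ c, ψ₂ ≫ c', comp_lift h (g ≫ f) _ _ hφ₂ hc, comp_lift h (g ≫ f) _ _ hψ₂ hc', ?_⟩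
      have e1 : F.map c = β.inv ≫ k ≫ φ := by rw [← hβ, Iso.inv_hom_id_assoc]
      rw [F.toFunctor.map_comp, F.toFunctor.map_comp, ← heq₂, e1]
      simp only [Functor.map_comp, Category.assoc, heq]
      rw [← G.toFunctor.map_comp k ψ, ← hβ', G.toFunctor.map_comp]
    choose S hS hS' using H1
    choose T hT hT' using hS'
    refine ⟨Sieve.bind R.arrows (fun V f hVf =>
        Sieve.bind (S f hVf).arrows (fun W g hWg => T f hVf g hWg)),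
      J.bind_covering hR (fun V f hVf => J.bind_covering (hS f hVf) (fun W g hWg => hT f hVf g hWg)), ?_⟩
    rintro Z m ⟨V, g', f, hfR, ⟨W, h, g, hgS, hhT, rfl⟩, rfl⟩
    rw [Category.assoc]
    exact hT' f hfR g hgS h hhT
  exact key _ (F.w_obj x) R₀ hR₀ hf₀

theorem isGerbeOver_comp (h𝒳 : FibCat.IsFibGrpd 𝒳.p) (h𝒴 : FibCat.IsFibGrpd 𝒴.p)
    (hF : Gerb.IsGerbeOver J F) (hG : Gerb.IsGerbeOver J G) :
    Gerb.IsGerbeOver J (BasedFunctor.comp F G) :=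
  ⟨locSurjObj_comp J F G hF.1 hG.1, locSurjHom_comp J F G h𝒳 h𝒴 hF hG.2⟩

end Composition

section BaseChange

variable (G : 𝒴 ⥤ᵇ 𝒵) (F : 𝒳 ⥤ᵇ 𝒵)

theorem fpFst_isGerbeOver (h𝒴 : FibCat.IsFibGrpd 𝒴.p) (h𝒵 : FibCat.IsFibGrpd 𝒵.p)
    (hF : Gerb.IsGerbeOver J F) : Gerb.IsGerbeOver J (FibCat.fpFst G F) := by
  constructor
  · intro y
    obtain ⟨R, hR, hf⟩ := hF.1 (G.obj y)
    have key : ∀ (U : C), U = 𝒴.p.obj y → ∀ R ∈ J U,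
        (∀ ⦃V : C⦄ (f : V ⟶ U), R f → ∃ (x : 𝒳.obj) (g : F.obj x ⟶ G.obj y), 𝒵.p.IsHomLift f g) →
        ∃ R ∈ J (𝒴.p.obj y), ∀ ⦃V : C⦄ (f : V ⟶ 𝒴.p.obj y), R f →
          ∃ (z : (FibCat.fp G F).obj) (g : z.obj.fst ⟶ y), 𝒴.p.IsHomLift f g := by
      rintro U rfl R hR hf
      refine ⟨R, hR, fun V f hVf => ?_⟩
      obtain ⟨x, g, hg⟩ := hf f hVf
      obtain ⟨y', c, hc⟩ := h𝒴.exists_lift (x := y) f
      have lc : 𝒵.p.IsHomLift f (G.map c) := BasedFunctor.preserves_isHomLift G f c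
      have := stronglyCartesian_of_isFibGrpd _ h𝒵 f (G.map c)
      have := stronglyCartesian_of_isFibGrpd _ h𝒵 f g
      let θ := IsCartesian.domainUniqueUpToIso 𝒵.p f g (G.map c)
      refine ⟨⟨⟨y', x, θ⟩, ?_⟩, c, hc⟩
      show 𝒵.p.IsHomLift (𝟙 (𝒴.p.obj y')) θ.hom
      rw [IsHomLift.domain_eq 𝒴.p f c]
      infer_instance
    exact key _ (G.w_obj y) R hR hf
  · intro z z' b hb
    let y := z.obj.fst
    let y' := z'.obj.fst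
    let b' : y ⟶ y' := b
    have hbl : 𝒴.p.IsHomLift (𝟙 (𝒴.p.obj y)) b' := hb
    have hy' : 𝒴.p.obj y' = 𝒴.p.obj y := IsHomLift.codomain_eq 𝒴.p (𝟙 (𝒴.p.obj y)) b'
    have hz : 𝒵.p.IsHomLift (𝟙 (𝒴.p.obj y)) z.obj.iso.hom := z.property
    have hz' : 𝒵.p.IsHomLift (𝟙 (𝒴.p.obj y)) z'.obj.iso.hom := hy' ▸ z'.property
    have hzi := IsHomLift.lift_id_inv 𝒵.p (𝒴.p.obj y) z.obj.iso
    have hx : 𝒳.p.obj z.obj.snd = 𝒴.p.obj y := fp_snd_proj z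
    have hb0 : 𝒵.p.IsHomLift (𝟙 (𝒳.p.obj z.obj.snd)) (z.obj.iso.inv ≫ G.map b' ≫ z'.obj.iso.hom) := by
      rw [hx]
      exact lift_id_left _ _ _ hzi
        (lift_id_right _ _ _ (BasedFunctor.preserves_isHomLift G _ b') hz')
    obtain ⟨R, hR, hf⟩ := hF.2 z.obj.snd z'.obj.snd (z.obj.iso.inv ≫ G.map b' ≫ z'.obj.iso.hom) hb0
    have key : ∀ (U : C), U = 𝒴.p.obj y → ∀ R ∈ J U,
        (∀ ⦃V : C⦄ (f : V ⟶ U), R f → ∃ (x₀ : 𝒳.obj) (φ : x₀ ⟶ z.obj.snd) (ψ : x₀ ⟶ z'.obj.snd),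
          𝒳.p.IsHomLift f φ ∧ 𝒳.p.IsHomLift f ψ ∧
            F.map φ ≫ z.obj.iso.inv ≫ G.map b' ≫ z'.obj.iso.hom = F.map ψ) →
        ∃ R ∈ J (𝒴.p.obj y), ∀ ⦃V : C⦄ (f : V ⟶ 𝒴.p.obj y), R f →
          ∃ (z₀ : (FibCat.fp G F).obj) (φ : z₀ ⟶ z) (ψ : z₀ ⟶ z'),
            (FibCat.fp G F).p.IsHomLift f φ ∧ (FibCat.fp G F).p.IsHomLift f ψ ∧
              φ.hom.fst ≫ b' = ψ.hom.fst := by
      rintro U rfl R hR hf
      refine ⟨R, hR, fun V f hVf => ?_⟩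
      obtain ⟨x₀, φ, ψ, hφ, hψ, heq⟩ := hf f hVf
      obtain ⟨y₀, c, hc⟩ := h𝒴.exists_lift (x := y) f
      have := stronglyCartesian_of_isFibGrpd _ h𝒵 f (G.map c)
      have := stronglyCartesian_of_isFibGrpd _ h𝒵 f (F.map φ)
      obtain ⟨θ, hθ, hw⟩ := exists_fp_lift z f c φ
      have hw' : G.map (c ≫ b') ≫ z'.obj.iso.hom = θ.hom ≫ F.map ψ := by
        rw [← heq, ← reassoc_of% hw, Iso.hom_inv_id_assoc, G.toFunctor.map_comp, Category.assoc]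
      let z₀ : (FibCat.fp G F).obj := ⟨⟨y₀, x₀, θ⟩, hθ⟩
      exact ⟨z₀, fpHom c φ hw, fpHom (c ≫ b') ψ hw', fp_lift_of_fst f _ hc,
        fp_lift_of_fst f _ (lift_id_right f c b' hc hbl), rfl⟩
    obtain ⟨R', hR', hf'⟩ := key _ hx R hR hf
    exact ⟨R', hR', hf'⟩

theorem isGerbeOver_descent (h𝒳 : FibCat.IsFibGrpd 𝒳.p) (h𝒵 : FibCat.IsFibGrpd 𝒵.p)
    (hG : Gerb.LocSurjObj J G) (hF' : Gerb.IsGerbeOver J (FibCat.fpFst G F)) :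
    Gerb.IsGerbeOver J F := by
  constructor
  · intro w
    obtain ⟨R, hR, hf⟩ := hG w
    have H : ∀ ⦃V : C⦄ (f : V ⟶ 𝒵.p.obj w), R f → ∃ S ∈ J V, ∀ ⦃W : C⦄ (g : W ⟶ V), S g →
        ∃ (x : 𝒳.obj) (k : F.obj x ⟶ w), 𝒵.p.IsHomLift (g ≫ f) k := by
      intro V f hVf
      obtain ⟨y, k, hk⟩ := hf f hVf
      obtain rfl : 𝒴.p.obj y = V := (G.w_obj y).symm.trans (IsHomLift.domain_eq 𝒵.p f k)
      obtain ⟨S, hS, hg⟩ := hF'.1 y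
      refine ⟨S, hS, fun W g hWg => ?_⟩
      obtain ⟨z, l, hl⟩ := hg g hWg
      let l' : z.obj.fst ⟶ y := l
      have hl' : 𝒴.p.IsHomLift g l' := hl
      have hW : 𝒴.p.obj z.obj.fst = W := IsHomLift.domain_eq 𝒴.p g l'
      have hz : 𝒵.p.IsHomLift (𝟙 W) z.obj.iso.hom := hW ▸ z.property
      exact ⟨z.obj.snd, z.obj.iso.inv ≫ G.map l' ≫ k, lift_id_left _ _ _ (IsHomLift.lift_id_inv 𝒵.p W z.obj.iso)
        (comp_lift g f _ _ (BasedFunctor.preserves_isHomLift G g l') hk)⟩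
    choose S hS hg using H
    refine ⟨Sieve.bind R.arrows (fun V f h => S f h), J.bind_covering hR (fun V f h => hS f h), ?_⟩
    rintro W m ⟨V, g, f, hfR, hgS, rfl⟩
    exact hg f hfR g hgS
  · intro x x' b hb
    obtain ⟨R₀, hR₀, hf₀⟩ := hG (F.obj x)
    have hx' : 𝒳.p.obj x' = 𝒳.p.obj x :=
      (F.w_obj x').symm.trans (IsHomLift.codomain_eq 𝒵.p (𝟙 (𝒳.p.obj x)) b)
    have key : ∀ (U : C), U = 𝒳.p.obj x → ∀ R ∈ J U,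
        (∀ ⦃V : C⦄ (f : V ⟶ U), R f → ∃ (y : 𝒴.obj) (g : G.obj y ⟶ F.obj x), 𝒵.p.IsHomLift f g) →
        ∃ R ∈ J (𝒳.p.obj x), ∀ ⦃V : C⦄ (f : V ⟶ 𝒳.p.obj x), R f →
          ∃ (x₀ : 𝒳.obj) (φ : x₀ ⟶ x) (ψ : x₀ ⟶ x'),
            𝒳.p.IsHomLift f φ ∧ 𝒳.p.IsHomLift f ψ ∧ F.map φ ≫ b = F.map ψ := by
      rintro U rfl R hR hf
      have H : ∀ ⦃V : C⦄ (f : V ⟶ 𝒳.p.obj x), R f → ∃ S ∈ J V, ∀ ⦃W : C⦄ (g : W ⟶ V), S g →
          ∃ (x₀ : 𝒳.obj) (φ : x₀ ⟶ x) (ψ : x₀ ⟶ x'),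
            𝒳.p.IsHomLift (g ≫ f) φ ∧ 𝒳.p.IsHomLift (g ≫ f) ψ ∧ F.map φ ≫ b = F.map ψ := by
        intro V f hVf
        obtain ⟨y, g, hg⟩ := hf f hVf
        obtain rfl : 𝒴.p.obj y = V := (G.w_obj y).symm.trans (IsHomLift.domain_eq 𝒵.p f g)
        obtain ⟨x₁, c, hc⟩ := h𝒳.exists_lift (x := x) f
        have := isFibered_of_isFibGrpd _ h𝒳
        obtain ⟨x₁', c', h'⟩ := exists_stronglyCartesian 𝒳.p hx' f
        have hc' : 𝒳.p.IsHomLift f c' := h'.toIsHomLift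
        have lgb : 𝒵.p.IsHomLift f (g ≫ b) := lift_id_right f g b hg hb
        have := stronglyCartesian_of_isFibGrpd _ h𝒵 f g
        have := stronglyCartesian_of_isFibGrpd _ h𝒵 f (g ≫ b)
        have := stronglyCartesian_of_isFibGrpd _ h𝒵 f (F.map c)
        have := stronglyCartesian_of_isFibGrpd _ h𝒵 f (F.map c')
        let θ := IsCartesian.domainUniqueUpToIso 𝒵.p f (F.map c) g
        let θ' := IsCartesian.domainUniqueUpToIso 𝒵.p f (F.map c') (g ≫ b)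
        have hθ : θ.hom ≫ F.map c = g := IsCartesian.fac 𝒵.p f (F.map c) g
        have hθ' : θ'.hom ≫ F.map c' = g ≫ b := IsCartesian.fac 𝒵.p f (F.map c') (g ≫ b)
        let z : (FibCat.fp G F).obj := ⟨⟨y, x₁, θ⟩, inferInstanceAs (𝒵.p.IsHomLift (𝟙 (𝒴.p.obj y)) θ.hom)⟩
        let z' : (FibCat.fp G F).obj := ⟨⟨y, x₁', θ'⟩, inferInstanceAs (𝒵.p.IsHomLift (𝟙 (𝒴.p.obj y)) θ'.hom)⟩
        obtain ⟨S, hS, hh⟩ := hF'.2 z z' (𝟙 y) (IsHomLift.id rfl)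
        refine ⟨S, hS, fun W h hWh => ?_⟩
        obtain ⟨z₀, φ, ψ, hφ, hψ, heq⟩ := hh h hWh
        refine ⟨z₀.obj.snd, φ.hom.snd ≫ c, ψ.hom.snd ≫ c',
          comp_lift h f _ _ (@fp_lift_snd _ _ _ _ _ G F _ _ _ _ h φ hφ) hc,
          comp_lift h f _ _ (@fp_lift_snd _ _ _ _ _ G F _ _ _ _ h ψ hψ) hc', ?_⟩
        have e : φ.hom.fst = ψ.hom.fst := (Category.comp_id _).symm.trans heq
        have w1 : G.map φ.hom.fst ≫ θ.hom = z₀.obj.iso.hom ≫ F.map φ.hom.snd := φ.hom.w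
        have w2 : G.map ψ.hom.fst ≫ θ'.hom = z₀.obj.iso.hom ≫ F.map ψ.hom.snd := ψ.hom.w
        rw [← cancel_epi z₀.obj.iso.hom, F.toFunctor.map_comp, F.toFunctor.map_comp,
          Category.assoc, ← reassoc_of% w1, ← reassoc_of% w2, reassoc_of% hθ, hθ', e]
      choose S hS hg using H
      refine ⟨Sieve.bind R.arrows (fun V f h => S f h), J.bind_covering hR (fun V f h => hS f h), ?_⟩
      rintro W m ⟨V, g, f, hfR, hgS, rfl⟩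
      exact hg f hfR g hgS
    exact key _ (F.w_obj x) R₀ hR₀ hf₀

end BaseChange

end Groth.Agent.FibBasics
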