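import Groth.Agent.FibBasics.Yoneda
import Groth.Agent.FibBasics.Inertia
import Mathlib.CategoryTheory.Limits.Constructions.Equalizers

/-!
Representable 1-morphisms: magic square with the diagonal, slices.
-/

set_option autoImplicit false

universe v₅ u₅ v₄ u₄ v₃ u₃ v₂ u₂ v u

open CategoryTheory CategoryTheory.Functor CategoryTheory.Limits

namespace Groth.Agent.FibBasics

variable {C : Type u} [Category.{v} C]

section BaseChange

variable {𝒳 : BasedCategory.{v₂, u₂} C} {𝒴 : BasedCategory.{v₃, u₃} C} {𝒮 : BasedCategory.{v₄, u₄} C}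
  {𝒟 : BasedCategory.{v₅, u₅} C} (J : 𝒟 ⥤ᵇ 𝒳) (F : 𝒳 ⥤ᵇ 𝒮) (G : 𝒴 ⥤ᵇ 𝒮)

/-- Base change along `J` on the first leg. -/
def fpMapFst : FibCat.fp (BasedFunctor.comp J F) G ⥤ᵇ FibCat.fp F G where
  toFunctor :=
    { obj := fun x => ⟨⟨J.obj x.obj.fst, x.obj.snd, x.obj.iso⟩, by
        show 𝒮.p.IsHomLift (𝟙 (𝒳.p.obj (J.obj x.obj.fst))) x.obj.iso.hom
        rw [J.w_obj]
        exact x.property⟩
      map := fun {x y} φ => fpHom (J.map φ.hom.fst) φ.hom.snd φ.hom.w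
      map_id := fun x => fp_hom_ext (J.toFunctor.map_id _) rfl
      map_comp := fun φ ψ => fp_hom_ext (J.toFunctor.map_comp _ _) rfl }
  w := CategoryTheory.Functor.ext (fun _ => J.w_obj _) (fun _ _ _ => Functor.congr_hom J.w _)

theorem fpMapFst_isEquivOver (hJ : FibCat.IsEquivOver J) : FibCat.IsEquivOver (fpMapFst J F G) := by
  obtain ⟨⟨_, _⟩, hes⟩ := (isEquivOver_iff J).1 hJ
  have : (fpMapFst J F G).toFunctor.Faithful := ⟨fun {x y} φ ψ h => fp_hom_ext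
    (J.toFunctor.map_injective (congrArg (fun k => k.hom.fst) h)) (congrArg (fun k => k.hom.snd) h : φ.hom.snd = ψ.hom.snd)⟩
  have : (fpMapFst J F G).toFunctor.Full := ⟨fun {x y} θ => by
    let s : J.obj x.obj.fst ⟶ J.obj y.obj.fst := θ.hom.fst
    obtain ⟨r, hr⟩ := J.toFunctor.map_surjective s
    have h : F.map s ≫ y.obj.iso.hom = x.obj.iso.hom ≫ G.map θ.hom.snd := θ.hom.w
    exact ⟨fpHom r θ.hom.snd (show F.map (J.map r) ≫ y.obj.iso.hom = _ by rw [hr]; exact h),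
      fp_hom_ext hr rfl⟩⟩
  refine isEquivOver_of_essSurjOver _ fun η => ?_
  obtain ⟨q, e, he⟩ := hes η.obj.fst
  have := he
  have hη : 𝒮.p.IsHomLift (𝟙 (𝒳.p.obj η.obj.fst)) η.obj.iso.hom := η.property
  have hq : 𝒟.p.obj q = 𝒳.p.obj η.obj.fst :=
    (J.w_obj q).symm.trans (IsHomLift.domain_eq 𝒳.p (𝟙 (𝒳.p.obj η.obj.fst)) e.hom)
  let x : (FibCat.fp (BasedFunctor.comp J F) G).obj :=
    ⟨⟨q, η.obj.snd, F.toFunctor.mapIso e ≪≫ η.obj.iso⟩, by
      show 𝒮.p.IsHomLift (𝟙 (𝒟.p.obj q)) (F.map e.hom ≫ η.obj.iso.hom)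
      rw [hq]
      have h := (inferInstance : 𝒮.p.IsHomLift (𝟙 (𝒳.p.obj η.obj.fst) ≫ 𝟙 (𝒳.p.obj η.obj.fst))
        (F.map e.hom ≫ η.obj.iso.hom))
      simpa using h⟩
  refine ⟨x, ObjectProperty.isoMk _ (CategoricalPullback.mkIso e (Iso.refl _) ?_), fp_lift_of_fst _ _ he⟩
  show F.map e.hom ≫ η.obj.iso.hom = (F.map e.hom ≫ η.obj.iso.hom) ≫ G.map (𝟙 η.obj.snd)
  simp

theorem isRepresentable_fp_of_equiv {J : 𝒟 ⥤ᵇ 𝒳} (hJ : FibCat.IsEquivOver J)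
    (h : FibCat.IsRepresentable (FibCat.fp (BasedFunctor.comp J F) G)) :
    FibCat.IsRepresentable (FibCat.fp F G) := by
  obtain ⟨L, hL, -⟩ := isEquivOver_symm (fpMapFst_isEquivOver J F G hJ)
  exact isRepresentable_of_equiv hL h

end BaseChange

section Magic

variable {𝒲 : BasedCategory.{v₂, u₂} C} {𝒳 : BasedCategory.{v₃, u₃} C} {𝒴 : BasedCategory.{v₄, u₄} C}
  {𝒵 : BasedCategory.{v₅, u₅} C} (K : 𝒲 ⥤ᵇ 𝒴) (f : 𝒳 ⥤ᵇ 𝒴) (g : 𝒴 ⥤ᵇ 𝒵)

/-- The pair `(K, f)` on `𝒲 ×_𝒵 𝒳`, as a functor to `𝒴 ×_𝒵 𝒴`. -/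
abbrev pairMap : FibCat.fp (BasedFunctor.comp K g) (BasedFunctor.comp f g) ⥤ᵇ FibCat.fp g g :=
  FibCat.fpLift (BasedFunctor.comp (FibCat.fpFst _ _) K) (BasedFunctor.comp (FibCat.fpSnd _ _) f)
    (FibCat.fpIso (BasedFunctor.comp K g) (BasedFunctor.comp f g))

/-- `(v, x)` over `𝒴` as an object over `𝒵`. -/
def magicBase (σ : (FibCat.fp K f).obj) : (FibCat.fp (BasedFunctor.comp K g) (BasedFunctor.comp f g)).obj :=
  ⟨⟨σ.obj.fst, σ.obj.snd, g.toFunctor.mapIso σ.obj.iso⟩,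
    (BasedFunctor.isHomLift_iff g (𝟙 (𝒲.p.obj σ.obj.fst)) σ.obj.iso.hom).2 σ.property⟩

/-- The isomorphism `(φ, 𝟙)` to the diagonal. -/
def magicIso (σ : (FibCat.fp K f).obj) :
    (pairMap K f g).obj (magicBase K f g σ) ≅ (FibCat.diag g).obj (f.obj σ.obj.snd) :=
  ObjectProperty.isoMk _ (CategoricalPullback.mkIso σ.obj.iso (Iso.refl _)
    (show g.map σ.obj.iso.hom ≫ 𝟙 _ = g.map σ.obj.iso.hom ≫ g.map (𝟙 _) by simp))

/-- The magic square comparison. -/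
def magic : FibCat.fp K f ⥤ᵇ FibCat.fp (pairMap K f g) (FibCat.diag g) where
  toFunctor :=
    { obj := fun σ => ⟨⟨magicBase K f g σ, f.obj σ.obj.snd, magicIso K f g σ⟩,
        fp_lift_of_fst _ _ σ.property⟩
      map := fun {σ τ} φ => fpHom
        (fpHom (x := magicBase K f g σ) (y := magicBase K f g τ) φ.hom.fst φ.hom.snd
          (show g.map (K.map φ.hom.fst) ≫ g.map τ.obj.iso.hom = g.map σ.obj.iso.hom ≫ g.map (f.map φ.hom.snd) by
            rw [← g.toFunctor.map_comp, φ.hom.w, g.toFunctor.map_comp]))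
        (f.map φ.hom.snd)
        (fp_hom_ext φ.hom.w
          (show f.map φ.hom.snd ≫ 𝟙 (f.obj τ.obj.snd) = 𝟙 (f.obj σ.obj.snd) ≫ f.map φ.hom.snd by simp))
      map_id := fun σ => fp_hom_ext rfl (f.toFunctor.map_id _)
      map_comp := fun φ ψ => fp_hom_ext rfl (f.toFunctor.map_comp _ _) }
  w := rfl

theorem magic_isEquivOver : FibCat.IsEquivOver (magic K f g) := by
  have : (magic K f g).toFunctor.Faithful := ⟨fun {σ τ} φ ψ h => fp_hom_ext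
    (congrArg (fun k => k.hom.fst.hom.fst) h : φ.hom.fst = ψ.hom.fst)
    (congrArg (fun k => k.hom.fst.hom.snd) h : φ.hom.snd = ψ.hom.snd)⟩
  have : (magic K f g).toFunctor.Full := ⟨fun {σ τ} θ => by
    let s : σ.obj.fst ⟶ τ.obj.fst := θ.hom.fst.hom.fst
    let t : σ.obj.snd ⟶ τ.obj.snd := θ.hom.fst.hom.snd
    let u : f.obj σ.obj.snd ⟶ f.obj τ.obj.snd := θ.hom.snd
    have h1 : K.map s ≫ τ.obj.iso.hom = σ.obj.iso.hom ≫ u := congrArg (fun k => k.hom.fst) θ.hom.w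
    have h2 : f.map t ≫ 𝟙 _ = 𝟙 _ ≫ u := congrArg (fun k => k.hom.snd) θ.hom.w
    rw [Category.comp_id, Category.id_comp] at h2
    exact ⟨fpHom s t (by rw [h2]; exact h1), fp_hom_ext (fp_hom_ext rfl rfl) h2⟩⟩
  refine isEquivOver_of_essSurjOver _ fun η => ?_
  let q := η.obj.fst
  let α : K.obj q.obj.fst ≅ η.obj.snd := (FibCat.fpFst g g).toFunctor.mapIso η.obj.iso
  let β : f.obj q.obj.snd ≅ η.obj.snd := (FibCat.fpSnd g g).toFunctor.mapIso η.obj.iso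
  have hw : g.map α.hom ≫ 𝟙 (g.obj η.obj.snd) = q.obj.iso.hom ≫ g.map β.hom := η.obj.iso.hom.hom.w
  rw [Category.comp_id] at hw
  have hα : 𝒴.p.IsHomLift (𝟙 (𝒲.p.obj q.obj.fst)) α.hom :=
    @fp_lift_fst _ _ _ _ _ g g _ _ _ _ (𝟙 (𝒲.p.obj q.obj.fst)) η.obj.iso.hom η.property
  have hβ : 𝒴.p.IsHomLift (𝟙 (𝒲.p.obj q.obj.fst)) β.hom :=
    @fp_lift_snd _ _ _ _ _ g g _ _ _ _ (𝟙 (𝒲.p.obj q.obj.fst)) η.obj.iso.hom η.property
  let σ : (FibCat.fp K f).obj := ⟨⟨q.obj.fst, q.obj.snd, α ≪≫ β.symm⟩, by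
    show 𝒴.p.IsHomLift (𝟙 (𝒲.p.obj q.obj.fst)) (α.hom ≫ β.inv)
    have := IsHomLift.lift_id_inv 𝒴.p (𝒲.p.obj q.obj.fst) β
    have h := (inferInstance : 𝒴.p.IsHomLift (𝟙 (𝒲.p.obj q.obj.fst) ≫ 𝟙 (𝒲.p.obj q.obj.fst)) (α.hom ≫ β.inv))
    simpa using h⟩
  let i : magicBase K f g σ ≅ q :=
    ObjectProperty.isoMk _ (CategoricalPullback.mkIso (Iso.refl _) (Iso.refl _) (by
      let θ : g.obj (K.obj q.obj.fst) ≅ g.obj (f.obj q.obj.snd) := q.obj.iso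
      show g.map (K.map (𝟙 q.obj.fst)) ≫ θ.hom = g.map (α.hom ≫ β.inv) ≫ g.map (f.map (𝟙 q.obj.snd))
      have hw' : g.map α.hom = θ.hom ≫ g.map β.hom := hw
      rw [g.toFunctor.map_comp, hw', Category.assoc, Category.assoc, ← g.toFunctor.map_comp_assoc, Iso.hom_inv_id]
      simp))
  refine ⟨σ, ObjectProperty.isoMk _ (CategoricalPullback.mkIso i β ?_), ?_⟩
  · apply fp_hom_ext
    · show K.map (𝟙 q.obj.fst) ≫ α.hom = (α.hom ≫ β.inv) ≫ β.hom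
      simp
    · show f.map (𝟙 q.obj.snd) ≫ β.hom = 𝟙 _ ≫ β.hom
      simp
  · exact fp_lift_of_fst _ _ (fp_lift_of_fst _ _ (IsHomLift.id rfl))

theorem isRepresentable_fp_of_diag (hQ : FibCat.IsRepresentable (FibCat.fp (BasedFunctor.comp K g) (BasedFunctor.comp f g)))
    (hΔ : FibCat.IsRepresentable1 (FibCat.diag g)) : FibCat.IsRepresentable (FibCat.fp K f) := by
  obtain ⟨P, E, hE⟩ := hQ
  obtain ⟨J, hJ, -⟩ := isEquivOver_symm hE
  exact isRepresentable_of_equiv (magic_isEquivOver K f g)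
    (isRepresentable_fp_of_equiv (pairMap K f g) (FibCat.diag g) hJ
      (hΔ P (BasedFunctor.comp J (pairMap K f g))))

theorem isRepresentable1_of_comp_of_diag {f : 𝒳 ⥤ᵇ 𝒴} {g : 𝒴 ⥤ᵇ 𝒵}
    (hgf : FibCat.IsRepresentable1 (BasedFunctor.comp f g))
    (hΔ : FibCat.IsRepresentable1 (FibCat.diag g)) : FibCat.IsRepresentable1 f :=
  fun U K => isRepresentable_fp_of_diag K f g (hgf U (BasedFunctor.comp K g)) hΔ

end Magic

section Slices

theorem based_ext {𝒳 : BasedCategory.{v₂, u₂} C} {𝒴 : BasedCategory.{v₃, u₃} C} {F G : 𝒳 ⥤ᵇ 𝒴}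
    (h : F.toFunctor = G.toFunctor) : F = G := by
  obtain ⟨F₀, hF⟩ := F
  obtain ⟨G₀, hG⟩ := G
  obtain rfl : F₀ = G₀ := h
  rfl

theorem comp_toSelf {𝒳 : BasedCategory.{v₂, u₂} C} {𝒴 : BasedCategory.{v₃, u₃} C} (K : 𝒳 ⥤ᵇ 𝒴) :
    BasedFunctor.comp K (FibCat.toSelf 𝒴) = FibCat.toSelf 𝒳 := by
  exact based_ext K.w

theorem isRepresentable_slice_prod (V U : C) [HasBinaryProduct V U] :
    FibCat.IsRepresentable (FibCat.fp (FibCat.toSelf (FibCat.overCat V)) (FibCat.toSelf (FibCat.overCat U))) := by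
  refine isRepresentable_iff.2 ⟨fp_isFibGrpd (isFibGrpd_overForget V) (isFibGrpd_overForget U) isFibGrpd_selfOver, ?_⟩
  let a : (FibCat.overCat V).obj := (Over.mk (prod.fst : V ⨯ U ⟶ V) : Over V)
  let b : (FibCat.overCat U).obj := (Over.mk (prod.snd : V ⨯ U ⟶ U) : Over U)
  let ξ : (FibCat.fp (FibCat.toSelf (FibCat.overCat V)) (FibCat.toSelf (FibCat.overCat U))).obj :=
    ⟨⟨a, b, Iso.refl (V ⨯ U)⟩, IsHomLift.id rfl⟩
  refine ⟨ξ, fun ρ => ?_⟩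
  let T : C := (FibCat.overCat V).p.obj ρ.obj.fst
  have hT : (FibCat.overCat U).p.obj ρ.obj.snd = T := fp_snd_proj ρ
  let h : T ⟶ V ⨯ U := prod.lift (hm ρ.obj.fst) (eqToHom hT.symm ≫ hm ρ.obj.snd)
  let s : ρ.obj.fst ⟶ a := (Over.homMk h (prod.lift_fst _ _) : (ρ.obj.fst : Over V) ⟶ Over.mk prod.fst)
  let t : ρ.obj.snd ⟶ b := (Over.homMk (eqToHom hT ≫ h) (by
    show (eqToHom hT ≫ h) ≫ prod.snd = hm ρ.obj.snd
    rw [Category.assoc, prod.lift_snd, eqToHom_trans_assoc, eqToHom_refl, Category.id_comp]) :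
      (ρ.obj.snd : Over U) ⟶ Over.mk prod.snd)
  have : (FibCat.overCat V).p.IsHomLift h s := IsHomLift.map (FibCat.overCat V).p s
  have : (FibCat.overCat U).p.IsHomLift h t :=
    IsHomLift.of_fac (FibCat.overCat U).p h t hT rfl (by
      show h = eqToHom hT.symm ≫ (eqToHom hT ≫ h) ≫ eqToHom rfl
      simp)
  refine ⟨{ default := fpHom s t (toSelf_sq (x := ρ) (y := ξ) h s t), uniq := fun φ => ?_ }⟩
  let φ₁ : T ⟶ V ⨯ U := (FibCat.overCat V).p.map φ.hom.fst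
  have hl : (FibCat.overCat U).p.IsHomLift φ₁ φ.hom.snd := FibCat.fp_isHomLift_snd _ _ φ
  have e1 : φ₁ ≫ prod.fst = hm ρ.obj.fst := hm_w φ.hom.fst
  have e3 : (FibCat.overCat U).p.map φ.hom.snd = eqToHom hT ≫ φ₁ := by
    rw [IsHomLift.fac' (FibCat.overCat U).p φ₁ φ.hom.snd]
    exact congrArg (eqToHom hT ≫ ·) (Category.comp_id φ₁)
  have e2 : ((FibCat.overCat U).p.map φ.hom.snd : _ ⟶ V ⨯ U) ≫ prod.snd = hm ρ.obj.snd := hm_w φ.hom.snd
  have key : φ₁ = h := by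
    apply prod.hom_ext
    · rw [e1, prod.lift_fst]
    · let ψ : (FibCat.overCat U).p.obj ρ.obj.snd ⟶ V ⨯ U := (FibCat.overCat U).p.map φ.hom.snd
      have e3' : ψ = eqToHom hT ≫ φ₁ := e3
      have e2' : ψ ≫ prod.snd = hm ρ.obj.snd := e2
      rw [prod.lift_snd, ← e2', e3']
      simp
  exact fp_hom_ext (Over.OverMorphism.ext key)
    (Over.OverMorphism.ext (e3.trans (congrArg (eqToHom hT ≫ ·) key)))

theorem slices_representable_of_diag [HasBinaryProducts C] {𝒮 : BasedCategory.{v₂, u₂} C}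
    (hΔ : FibCat.IsRepresentable1 (FibCat.diag (FibCat.toSelf 𝒮))) (U : C)
    (G : FibCat.overCat U ⥤ᵇ 𝒮) : FibCat.IsRepresentable1 G := by
  intro V K
  refine isRepresentable_fp_of_diag K G (FibCat.toSelf 𝒮) ?_ hΔ
  rw [comp_toSelf, comp_toSelf]
  exact isRepresentable_slice_prod V U

end Slices

section DiagConverse

variable {𝒮 : BasedCategory.{v₂, u₂} C} {W : C}
  (H : FibCat.overCat W ⥤ᵇ FibCat.fp (FibCat.toSelf 𝒮) (FibCat.toSelf 𝒮))

/-- First component of the structure isomorphism. -/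
def dA (x : (FibCat.fp H (FibCat.diag (FibCat.toSelf 𝒮))).obj) :
    (BasedFunctor.comp H (FibCat.fpFst _ _)).obj x.obj.fst ≅ x.obj.snd :=
  (FibCat.fpFst (FibCat.toSelf 𝒮) (FibCat.toSelf 𝒮)).toFunctor.mapIso x.obj.iso

/-- Second component of the structure isomorphism. -/
def dB (x : (FibCat.fp H (FibCat.diag (FibCat.toSelf 𝒮))).obj) :
    (BasedFunctor.comp H (FibCat.fpSnd _ _)).obj x.obj.fst ≅ x.obj.snd :=
  (FibCat.fpSnd (FibCat.toSelf 𝒮) (FibCat.toSelf 𝒮)).toFunctor.mapIso x.obj.iso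

theorem dA_w {x y : (FibCat.fp H (FibCat.diag (FibCat.toSelf 𝒮))).obj} (φ : x ⟶ y) :
    (BasedFunctor.comp H (FibCat.fpFst _ _)).map φ.hom.fst ≫ (dA H y).hom = (dA H x).hom ≫ φ.hom.snd :=
  congrArg (fun k => k.hom.fst) φ.hom.w

theorem dB_w {x y : (FibCat.fp H (FibCat.diag (FibCat.toSelf 𝒮))).obj} (φ : x ⟶ y) :
    (BasedFunctor.comp H (FibCat.fpSnd _ _)).map φ.hom.fst ≫ (dB H y).hom = (dB H x).hom ≫ φ.hom.snd :=
  congrArg (fun k => k.hom.snd) φ.hom.w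

theorem dAB_lift (x : (FibCat.fp H (FibCat.diag (FibCat.toSelf 𝒮))).obj) :
    𝒮.p.IsHomLift (𝟙 ((FibCat.overCat W).p.obj x.obj.fst)) (dA H x ≪≫ (dB H x).symm).hom := by
  have h₁ : 𝒮.p.IsHomLift (𝟙 ((FibCat.overCat W).p.obj x.obj.fst)) (dA H x).hom :=
    @fp_lift_fst _ _ _ _ _ _ _ _ _ _ _ (𝟙 _) x.obj.iso.hom x.property
  have h₂ : 𝒮.p.IsHomLift (𝟙 ((FibCat.overCat W).p.obj x.obj.fst)) (dB H x).hom :=
    @fp_lift_snd _ _ _ _ _ _ _ _ _ _ _ (𝟙 _) x.obj.iso.hom x.property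
  have := IsHomLift.lift_id_inv 𝒮.p ((FibCat.overCat W).p.obj x.obj.fst) (dB H x)
  have h := (inferInstance : 𝒮.p.IsHomLift
    (𝟙 ((FibCat.overCat W).p.obj x.obj.fst) ≫ 𝟙 ((FibCat.overCat W).p.obj x.obj.fst))
    ((dA H x).hom ≫ (dB H x).inv))
  rw [Category.comp_id] at h
  exact h

/-- From the base change of the diagonal to the isomorphisms between the two components. -/
def diagToPair : FibCat.fp H (FibCat.diag (FibCat.toSelf 𝒮)) ⥤ᵇ
    FibCat.fp (BasedFunctor.comp H (FibCat.fpFst _ _)) (BasedFunctor.comp H (FibCat.fpSnd _ _)) where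
  toFunctor :=
    { obj := fun x => ⟨⟨x.obj.fst, x.obj.fst, dA H x ≪≫ (dB H x).symm⟩, dAB_lift H x⟩
      map := fun {x y} φ => fpHom φ.hom.fst φ.hom.fst (by
        show (BasedFunctor.comp H (FibCat.fpFst _ _)).map φ.hom.fst ≫ (dA H y).hom ≫ (dB H y).inv =
          ((dA H x).hom ≫ (dB H x).inv) ≫ (BasedFunctor.comp H (FibCat.fpSnd _ _)).map φ.hom.fst
        rw [← Category.assoc, dA_w, Category.assoc, Category.assoc]
        congr 1
        rw [Iso.comp_inv_eq, Category.assoc, dB_w, Iso.inv_hom_id_assoc])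
      map_id := fun x => fp_hom_ext rfl rfl
      map_comp := fun φ ψ => fp_hom_ext rfl rfl }
  w := rfl

theorem diagToPair_injective {x y : (FibCat.fp H (FibCat.diag (FibCat.toSelf 𝒮))).obj} (φ ψ : x ⟶ y)
    (e : φ.hom.fst = ψ.hom.fst) : φ = ψ := by
  refine fp_hom_ext e ?_
  rw [← cancel_epi (dA H x).hom, ← dA_w, ← dA_w, e]

theorem diagToPair_surjective {x y : (FibCat.fp H (FibCat.diag (FibCat.toSelf 𝒮))).obj}
    (θ : (diagToPair H).obj x ⟶ (diagToPair H).obj y) : ∃ φ : x ⟶ y, (diagToPair H).map φ = θ := by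
  let s : x.obj.fst ⟶ y.obj.fst := θ.hom.fst
  let t : x.obj.fst ⟶ y.obj.fst := θ.hom.snd
  have hst : t = s := by
    have hl : (FibCat.overCat W).p.IsHomLift ((FibCat.overCat W).p.map s) t := FibCat.fp_isHomLift_snd _ _ θ
    exact Over.OverMorphism.ext (IsHomLift.eq_of_isHomLift (FibCat.overCat W).p ((FibCat.overCat W).p.map s) t).symm
  let A := (BasedFunctor.comp H (FibCat.fpFst (FibCat.toSelf 𝒮) (FibCat.toSelf 𝒮))).map s
  let B := (BasedFunctor.comp H (FibCat.fpSnd (FibCat.toSelf 𝒮) (FibCat.toSelf 𝒮))).map s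
  have hw : A ≫ (dA H y).hom ≫ (dB H y).inv = ((dA H x).hom ≫ (dB H x).inv) ≫
      (BasedFunctor.comp H (FibCat.fpSnd (FibCat.toSelf 𝒮) (FibCat.toSelf 𝒮))).map t := θ.hom.w
  rw [hst] at hw
  change A ≫ (dA H y).hom ≫ (dB H y).inv = ((dA H x).hom ≫ (dB H x).inv) ≫ B at hw
  let u : x.obj.snd ⟶ y.obj.snd := (dA H x).inv ≫ A ≫ (dA H y).hom
  have a1 : A ≫ (dA H y).hom = (dA H x).hom ≫ u := by simp [u]
  have a2 : B ≫ (dB H y).hom = (dB H x).hom ≫ u := by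
    rw [← cancel_epi ((dA H x).hom ≫ (dB H x).inv), ← Category.assoc _ B, ← hw]
    simp [u]
  exact ⟨fpHom s u (fp_hom_ext a1 a2), fp_hom_ext rfl hst.symm⟩

theorem diag_representable_of_slices [HasEqualizers C] (h : FibCat.IsFibGrpd 𝒮.p)
    (hG : ∀ (U : C) (G : FibCat.overCat U ⥤ᵇ 𝒮), FibCat.IsRepresentable1 G) :
    FibCat.IsRepresentable1 (FibCat.diag (FibCat.toSelf 𝒮)) := by
  intro W H
  have hSS : FibCat.IsFibGrpd (FibCat.fp (FibCat.toSelf 𝒮) (FibCat.toSelf 𝒮)).p :=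
    fp_isFibGrpd h h isFibGrpd_selfOver
  refine isRepresentable_iff.2 ⟨fp_isFibGrpd (isFibGrpd_overForget W) h hSS, ?_⟩
  let a := BasedFunctor.comp H (FibCat.fpFst (FibCat.toSelf 𝒮) (FibCat.toSelf 𝒮))
  let b := BasedFunctor.comp H (FibCat.fpSnd (FibCat.toSelf 𝒮) (FibCat.toSelf 𝒮))
  obtain ⟨hI, X, hX⟩ := isRepresentable_iff.1 (hG W b W a)
  let P : C := (FibCat.overCat W).p.obj X.obj.fst
  have hP : (FibCat.overCat W).p.obj X.obj.snd = P := fp_snd_proj X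
  let f₁ : P ⟶ W := hm X.obj.fst
  let f₂ : P ⟶ W := eqToHom hP.symm ≫ hm X.obj.snd
  obtain ⟨Y, κ, hκ⟩ := hI.exists_lift (x := X) (equalizer.ι f₁ f₂)
  have : (FibCat.fp a b).p.IsHomLift (R := equalizer f₁ f₂) (S := P) (equalizer.ι f₁ f₂) κ := hκ
  have hY : (FibCat.overCat W).p.obj Y.obj.fst = equalizer f₁ f₂ :=
    IsHomLift.domain_eq (FibCat.fp a b).p (equalizer.ι f₁ f₂) κ
  have hκ1 : (FibCat.overCat W).p.IsHomLift (equalizer.ι f₁ f₂) κ.hom.fst := fp_lift_fst _ κ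
  have hκ2 : (FibCat.overCat W).p.IsHomLift (equalizer.ι f₁ f₂) κ.hom.snd := fp_lift_snd _ κ
  have hY2 : (FibCat.overCat W).p.obj Y.obj.snd = equalizer f₁ f₂ :=
    IsHomLift.domain_eq (FibCat.overCat W).p (equalizer.ι f₁ f₂) κ.hom.snd
  have g1 : hm Y.obj.fst = eqToHom hY ≫ equalizer.ι f₁ f₂ ≫ f₁ := by
    rw [← hm_w κ.hom.fst, IsHomLift.fac' (FibCat.overCat W).p (equalizer.ι f₁ f₂) κ.hom.fst, Category.assoc,
      Category.assoc]
    exact congrArg (fun k => eqToHom hY ≫ equalizer.ι f₁ f₂ ≫ k) (Category.id_comp f₁)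
  have g2 : hm Y.obj.snd = eqToHom hY2 ≫ equalizer.ι f₁ f₂ ≫ f₂ := by
    rw [← hm_w κ.hom.snd, IsHomLift.fac' (FibCat.overCat W).p (equalizer.ι f₁ f₂) κ.hom.snd, Category.assoc,
      Category.assoc]
  have heq : Y.obj.fst = Y.obj.snd := over_obj_ext (hY.trans hY2.symm) (by
    show hm Y.obj.fst = eqToHom _ ≫ hm Y.obj.snd
    rw [g1, g2, equalizer.condition]
    exact (eqToHom_trans_assoc _ _ _).symm)
  obtain ⟨⟨w, w', θ⟩, hθ⟩ := Y
  obtain rfl : w = w' := heq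
  let θ' : a.obj w ≅ b.obj w := θ
  have hθ' : 𝒮.p.IsHomLift (𝟙 ((FibCat.overCat W).p.obj w)) θ'.hom := hθ
  let z := b.obj w
  have hHw := (H.obj w).property
  have hw2 : (FibCat.toSelf 𝒮).map θ'.hom ≫ 𝟙 _ = (H.obj w).obj.iso.hom ≫ (FibCat.toSelf 𝒮).map (𝟙 z) := by
    have e1 : 𝒮.p.obj (H.obj w).obj.fst = (FibCat.overCat W).p.obj w := H.w_obj w
    have hp : (FibCat.selfOver C).p.IsHomLift (𝟙 ((FibCat.overCat W).p.obj w)) (H.obj w).obj.iso.hom := by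
      have : (FibCat.selfOver C).p.IsHomLift (𝟙 (𝒮.p.obj (H.obj w).obj.fst)) (H.obj w).obj.iso.hom := hHw
      rwa [e1] at this
    refine (Category.comp_id _).trans (Eq.trans ?_
      ((congrArg ((H.obj w).obj.iso.hom ≫ ·) ((FibCat.toSelf 𝒮).toFunctor.map_id z)).trans (Category.comp_id _)).symm)
    exact @self_hom_ext _ _ _ _ (𝟙 ((FibCat.overCat W).p.obj w)) _ _ ((FibCat.toSelf 𝒮).map θ'.hom) (H.obj w).obj.iso.hom
      (BasedFunctor.preserves_isHomLift (FibCat.toSelf 𝒮) (𝟙 ((FibCat.overCat W).p.obj w)) θ'.hom) hp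
  let I : H.obj w ≅ (FibCat.diag (FibCat.toSelf 𝒮)).obj z :=
    ObjectProperty.isoMk _ (CategoricalPullback.mkIso θ' (Iso.refl _) hw2)
  let ξ : (FibCat.fp H (FibCat.diag (FibCat.toSelf 𝒮))).obj := ⟨⟨w, z, I⟩, fp_lift_of_fst _ _ hθ'⟩
  let Y' : (FibCat.fp a b).obj := (diagToPair H).obj ξ
  have hYY : Y' = ⟨⟨w, w, θ⟩, hθ⟩ := by
    have : θ' ≪≫ (Iso.refl z).symm = θ' := Iso.ext (Category.comp_id _)
    exact ObjectProperty.FullSubcategory.ext (congrArg (CategoricalPullback.mk w w) this)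
  refine ⟨ξ, fun ρ => ?_⟩
  let Z : (FibCat.fp a b).obj := (diagToPair H).obj ρ
  let κ' : Y' ⟶ X := eqToHom hYY ≫ κ
  have hκ'' : ∀ (A B : (FibCat.fp a b).obj) (e : A = B) (k : B ⟶ X),
      (FibCat.fp a b).p.IsHomLift (R := equalizer f₁ f₂) (S := P) (equalizer.ι f₁ f₂) k →
      (FibCat.fp a b).p.IsHomLift (R := equalizer f₁ f₂) (S := P) (equalizer.ι f₁ f₂) (eqToHom e ≫ k) := by
    rintro A B rfl k hk
    rwa [eqToHom_refl, Category.id_comp]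
  have hκ' : (FibCat.fp a b).p.IsHomLift (R := equalizer f₁ f₂) (S := P) (equalizer.ι f₁ f₂) κ' := hκ'' _ _ hYY κ hκ
  have hsc := stronglyCartesian_of_isFibGrpd _ hI (equalizer.ι f₁ f₂) κ'
  let v : Z ⟶ X := (hX Z).some.default
  let k : (FibCat.overCat W).p.obj ρ.obj.fst ⟶ P := (FibCat.overCat W).p.map v.hom.fst
  have hk1 : k ≫ f₁ = hm ρ.obj.fst := hm_w v.hom.fst
  have hk2 : k ≫ f₂ = hm ρ.obj.fst := by
    have hl : (FibCat.overCat W).p.IsHomLift k v.hom.snd := FibCat.fp_isHomLift_snd _ _ v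
    let q : (FibCat.overCat W).p.obj ρ.obj.fst ⟶ (FibCat.overCat W).p.obj X.obj.snd :=
      (FibCat.overCat W).p.map v.hom.snd
    have h' : k = q ≫ eqToHom hP :=
      (IsHomLift.fac (FibCat.overCat W).p k v.hom.snd).trans (Category.id_comp _)
    have e : q ≫ hm X.obj.snd = hm ρ.obj.fst := hm_w v.hom.snd
    rw [h', Category.assoc]
    simp only [f₂]
    rw [eqToHom_trans_assoc, eqToHom_refl, Category.id_comp, e]
  let m := equalizer.lift k (hk1.trans hk2.symm)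
  have hv : (FibCat.fp a b).p.IsHomLift k v := IsHomLift.map (FibCat.fp a b).p v
  let n : Z ⟶ Y' := IsStronglyCartesian.map (FibCat.fp a b).p (equalizer.ι f₁ f₂) κ' (g := m)
    (equalizer.lift_ι k _).symm v
  obtain ⟨φ, hφ⟩ := diagToPair_surjective H n
  refine ⟨{ default := φ, uniq := fun ψ => ?_ }⟩
  apply diagToPair_injective H
  have key : ∀ n' : Z ⟶ Y', n' = n := by
    intro n'
    have e1 : n' ≫ κ' = v := (hX Z).some.uniq _
    let g' : (FibCat.fp a b).p.obj Z ⟶ equalizer f₁ f₂ :=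
      (FibCat.fp a b).p.map n' ≫ eqToHom (IsHomLift.domain_eq (FibCat.fp a b).p (equalizer.ι f₁ f₂) κ')
    have hg' : (FibCat.fp a b).p.IsHomLift g' n' := IsHomLift.of_fac _ g' n' rfl
      (IsHomLift.domain_eq (FibCat.fp a b).p (equalizer.ι f₁ f₂) κ') (by simp [g'])
    have : (FibCat.fp a b).p.IsHomLift (g' ≫ equalizer.ι f₁ f₂) v := e1 ▸ inferInstance
    have hgm : g' = m := equalizer.hom_ext (by
      exact (@base_eq _ _ _ _ (FibCat.fp a b).p _ _ _ _ (g' ≫ equalizer.ι f₁ f₂) k v ‹_› hv).trans (equalizer.lift_ι k _).symm)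
    have : (FibCat.fp a b).p.IsHomLift m n' := hgm ▸ hg'
    exact IsStronglyCartesian.map_uniq (FibCat.fp a b).p (equalizer.ι f₁ f₂) κ'
      (equalizer.lift_ι k _).symm v n' e1
  have h1 := congrArg (fun k => k.hom.fst) ((key ((diagToPair H).map ψ)).trans hφ.symm)
  exact h1

theorem diag_representable_iff [HasBinaryProducts C] [HasPullbacks C] (h : FibCat.IsFibGrpd 𝒮.p) :
    FibCat.IsRepresentable1 (FibCat.diag (FibCat.toSelf 𝒮)) ↔
      ∀ (U : C) (G : FibCat.overCat U ⥤ᵇ 𝒮), FibCat.IsRepresentable1 G := by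
  have := hasEqualizers_of_hasPullbacks_and_binary_products (C := C)
  exact ⟨fun hΔ => slices_representable_of_diag hΔ, diag_representable_of_slices h⟩

end DiagConverse

end Groth.Agent.FibBasics
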