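import Groth.Prelude.Def_FibCat2
import Groth.Prelude.Def_W4stkcategoriessitesFib

/-!
Basic facts on categories over a base: categories fibred in groupoids, equivalences over the base,
transfer of (strongly) cartesian morphisms, fibre functors.
-/

set_option autoImplicit false

universe v₄ u₄ v₃ u₃ v₂ u₂ v u

open CategoryTheory CategoryTheory.Functor

namespace Groth.Agent.FibBasics

variable {C : Type u} [Category.{v} C]

section Lifts

variable {𝒳 : Type u₂} [Category.{v₂} 𝒳] (p : 𝒳 ⥤ C)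

/-- A lift of `f` is a lift of `g` when `f = g`. -/
theorem isHomLift_congr {R S : C} {a b : 𝒳} {f g : R ⟶ S} (φ : a ⟶ b) [p.IsHomLift f φ]
    (h : f = g) : p.IsHomLift g φ := h ▸ ‹p.IsHomLift f φ›

/-- Two base morphisms with a common lift are equal. -/
theorem base_eq {R S : C} {a b : 𝒳} (f g : R ⟶ S) (φ : a ⟶ b) [p.IsHomLift f φ] [p.IsHomLift g φ] :
    f = g := by
  rw [IsHomLift.fac p f φ, IsHomLift.fac p g φ]

theorem isCartesian_map_iff_lift {R S : C} {a b : 𝒳} (f : R ⟶ S) (φ : a ⟶ b) [hl : p.IsHomLift f φ] :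
    p.IsCartesian f φ ↔ p.IsCartesian (p.map φ) φ := by
  subst_hom_lift p f φ
  rfl

theorem isStronglyCartesian_map_iff_lift {R S : C} {a b : 𝒳} (f : R ⟶ S) (φ : a ⟶ b) [hl : p.IsHomLift f φ] :
    p.IsStronglyCartesian f φ ↔ p.IsStronglyCartesian (p.map φ) φ := by
  subst_hom_lift p f φ
  rfl

theorem exists_stronglyCartesian [p.IsFibered] {R S : C} {a : 𝒳} (ha : p.obj a = S) (f : R ⟶ S) :
    ∃ (b : 𝒳) (φ : b ⟶ a), p.IsStronglyCartesian f φ :=
  ⟨_, IsPreFibered.pullbackMap ha f, inferInstance⟩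

theorem stronglyCartesian_of_isFibGrpd (h : FibCat.IsFibGrpd p) {R S : C} (f : R ⟶ S) {a b : 𝒳}
    (φ : a ⟶ b) [p.IsHomLift f φ] : p.IsStronglyCartesian f φ := by
  subst_hom_lift p f φ
  exact h.isStronglyCartesian φ

theorem isFibered_of_isFibGrpd (h : FibCat.IsFibGrpd p) : p.IsFibered := by
  refine IsFibered.of_exists_isStronglyCartesian fun a R f => ?_
  obtain ⟨b, φ, hφ⟩ := h.exists_lift f
  have := hφ
  exact ⟨b, φ, stronglyCartesian_of_isFibGrpd p h f φ⟩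

theorem isFibGrpd_of_lifts
    (h₁ : ∀ (x : 𝒳) (V : C) (f : V ⟶ p.obj x), ∃ (y : 𝒳) (φ : y ⟶ x), p.IsHomLift f φ)
    (h₂ : ∀ ⦃R S : C⦄ (f : R ⟶ S) ⦃y x : 𝒳⦄ (φ : y ⟶ x), p.IsHomLift f φ → p.IsStronglyCartesian f φ) :
    FibCat.IsFibGrpd p where
  exists_lift := fun {_ _} f => h₁ _ _ f
  isStronglyCartesian := fun φ => h₂ _ φ inferInstance

theorem isIso_of_isFibGrpd (h : FibCat.IsFibGrpd p) {R S : C} (f : R ⟶ S) [IsIso f] {a b : 𝒳}
    (φ : a ⟶ b) [p.IsHomLift f φ] : IsIso φ := by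
  have := stronglyCartesian_of_isFibGrpd p h f φ
  exact IsStronglyCartesian.isIso_of_base_isIso p f φ

theorem isIso_fiber_hom {U : C} {a b : p.Fiber U} (φ : a ⟶ b)
    (hi : IsIso (Fiber.fiberInclusion.map φ)) : IsIso φ := by
  obtain ⟨g, h₁, h₂⟩ := hi.out
  let e : Fiber.fiberInclusion.obj a ≅ Fiber.fiberInclusion.obj b :=
    ⟨Fiber.fiberInclusion.map φ, g, h₁, h₂⟩
  have : p.IsHomLift (𝟙 U) e.hom := φ.2
  exact ⟨⟨g, IsHomLift.lift_id_inv p U e⟩, Fiber.hom_ext h₁, Fiber.hom_ext h₂⟩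

theorem isGroupoid_fiber (h : FibCat.IsFibGrpd p) (U : C) : IsGroupoid (p.Fiber U) where
  all_isIso {a b} φ := by
    have := φ.2
    have : IsIso (Fiber.fiberInclusion.map φ) := isIso_of_isFibGrpd p h (𝟙 U) _
    exact isIso_fiber_hom p φ this

/-- Fibred with groupoid fibres is fibred in groupoids. -/
theorem isFibGrpd_of_isFibered [p.IsFibered] (hg : ∀ U : C, IsGroupoid (p.Fiber U)) :
    FibCat.IsFibGrpd p := by
  refine isFibGrpd_of_lifts p (fun x V f => ?_) (fun R S f y x φ hφ => ?_)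
  · obtain ⟨b, φ, hφ⟩ := exists_stronglyCartesian p rfl f
    exact ⟨b, φ, inferInstance⟩
  · obtain ⟨b, c, hc⟩ := exists_stronglyCartesian p (IsHomLift.codomain_eq p f φ) f
    let τ := IsCartesian.map p f c φ
    have : IsIso τ := by
      have := hg R
      have hi : IsIso (Fiber.homMk p R τ) := IsGroupoid.all_isIso _
      exact (Fiber.fiberInclusion.map_isIso (Fiber.homMk p R τ) : _)
    rw [← IsCartesian.fac p f c φ]
    have := IsStronglyCartesian.of_isIso p (𝟙 R) τ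
    have h := (inferInstance : p.IsStronglyCartesian (𝟙 R ≫ f) (τ ≫ c))
    rwa [Category.id_comp] at h

/-- Functors into a fibre agreeing after the inclusion are equal. -/
theorem fiber_functor_ext {U : C} {A : Type u₃} [Category.{v₃} A] {F G : A ⥤ p.Fiber U}
    (h : F ⋙ Fiber.fiberInclusion = G ⋙ Fiber.fiberInclusion) : F = G := by
  have h0 : ∀ x, F.obj x = G.obj x := fun x => Subtype.ext (Functor.congr_obj h x)
  refine Functor.ext h0 (fun x y f => ?_)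
  apply Fiber.hom_ext
  rw [Functor.map_comp, Functor.map_comp, eqToHom_map, eqToHom_map]
  exact Functor.congr_hom h f

end Lifts

section Comp

variable {𝒜 : Type u₂} [Category.{v₂} 𝒜] {ℬ : Type u₃} [Category.{v₃} ℬ] (F : 𝒜 ⥤ ℬ) (G : ℬ ⥤ C)

theorem isHomLift_comp_iff {R S : C} (f : R ⟶ S) {a b : 𝒜} (φ : a ⟶ b) :
    (F ⋙ G).IsHomLift f φ ↔ G.IsHomLift f (F.map φ) := by
  constructor <;> intro h
  · exact IsHomLift.of_fac G f _ (IsHomLift.domain_eq (F ⋙ G) f φ)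
      (IsHomLift.codomain_eq (F ⋙ G) f φ) (IsHomLift.fac (F ⋙ G) f φ)
  · exact IsHomLift.of_fac (F ⋙ G) f _ (IsHomLift.domain_eq G f (F.map φ))
      (IsHomLift.codomain_eq G f (F.map φ)) (IsHomLift.fac G f (F.map φ))

theorem isStronglyCartesian_comp {R S : C} (f : R ⟶ S) {a b : 𝒜} (φ : a ⟶ b)
    [F.IsStronglyCartesian (F.map φ) φ] [G.IsStronglyCartesian f (F.map φ)] :
    (F ⋙ G).IsStronglyCartesian f φ where
  toIsHomLift := (isHomLift_comp_iff F G f φ).2 inferInstance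
  universal_property' {a'} g ψ h := by
    have : G.IsHomLift (g ≫ f) (F.map ψ) := (isHomLift_comp_iff F G _ ψ).1 h
    let τ := IsStronglyCartesian.map G f (F.map φ) (g := g) rfl (F.map ψ)
    have hτc : τ ≫ F.map φ = F.map ψ := IsStronglyCartesian.fac G f (F.map φ) rfl (F.map ψ)
    have : F.IsHomLift (τ ≫ F.map φ) ψ := by rw [hτc]; infer_instance
    let χ := IsStronglyCartesian.map F (F.map φ) φ (g := τ) rfl ψ
    refine ⟨χ, ⟨?_, IsStronglyCartesian.fac F (F.map φ) φ rfl ψ⟩, ?_⟩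
    · refine (isHomLift_comp_iff F G _ χ).2 ?_
      rw [← IsHomLift.eq_of_isHomLift F τ χ]
      show G.IsHomLift g τ
      infer_instance
    · rintro χ' ⟨h', hc⟩
      have : G.IsHomLift g (F.map χ') := (isHomLift_comp_iff F G _ χ').1 h'
      have he : F.map χ' = τ := IsStronglyCartesian.map_uniq G f (F.map φ) rfl (F.map ψ) (F.map χ')
        (by rw [← F.map_comp, hc])
      have : F.IsHomLift τ χ' := he ▸ inferInstance
      exact IsStronglyCartesian.map_uniq F (F.map φ) φ rfl ψ χ' hc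

theorem isFibered_comp [F.IsFibered] [G.IsFibered] : (F ⋙ G).IsFibered := by
  refine IsFibered.of_exists_isStronglyCartesian fun a R f => ?_
  obtain ⟨b₀, φ₀, h₀⟩ := exists_stronglyCartesian G (rfl : G.obj (F.obj a) = _) f
  obtain ⟨b, φ, hφ⟩ := exists_stronglyCartesian F (rfl : F.obj a = _) φ₀
  refine ⟨b, φ, ?_⟩
  obtain rfl := IsHomLift.domain_eq F φ₀ φ
  obtain rfl : F.map φ = φ₀ := (IsHomLift.eq_of_isHomLift F φ₀ φ).symm
  exact isStronglyCartesian_comp F G f φ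

theorem isFibGrpd_comp (hF : FibCat.IsFibGrpd F) (hG : FibCat.IsFibGrpd G) :
    FibCat.IsFibGrpd (F ⋙ G) := by
  have := isFibered_of_isFibGrpd F hF
  have := isFibered_of_isFibGrpd G hG
  refine isFibGrpd_of_lifts _ (fun x V f => ?_) (fun R S f y x φ hφ => ?_)
  · have := isFibered_comp F G
    obtain ⟨y, φ, hφ⟩ := exists_stronglyCartesian (F ⋙ G) rfl f
    exact ⟨y, φ, inferInstance⟩
  · have := (isHomLift_comp_iff F G f φ).1 hφ
    have := stronglyCartesian_of_isFibGrpd G hG f (F.map φ)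
    have := hF.isStronglyCartesian φ
    exact isStronglyCartesian_comp F G f φ

/-- If `φ` is strongly cartesian for `F ⋙ G` and `F φ` for `G`, then `φ` is so for `F`. -/
theorem isStronglyCartesian_of_comp {R S : C} (f : R ⟶ S) {a b : 𝒜} (φ : a ⟶ b)
    [(F ⋙ G).IsStronglyCartesian f φ] [G.IsStronglyCartesian f (F.map φ)] :
    F.IsStronglyCartesian (F.map φ) φ where
  universal_property' {a'} g ψ _ := by
    let g' : G.obj (F.obj a') ⟶ R := G.map g ≫ eqToHom (IsHomLift.domain_eq G f (F.map φ))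
    have : G.IsHomLift g' g := IsHomLift.of_fac G g' g rfl
      (IsHomLift.domain_eq G f (F.map φ)) (by simp [g'])
    have hψ : F.map ψ = g ≫ F.map φ := (IsHomLift.eq_of_isHomLift F (g ≫ F.map φ) ψ).symm
    have : (F ⋙ G).IsHomLift (g' ≫ f) ψ := by
      rw [isHomLift_comp_iff, hψ]; infer_instance
    let χ := IsStronglyCartesian.map (F ⋙ G) f φ (g := g') rfl ψ
    have hc : χ ≫ φ = ψ := IsStronglyCartesian.fac (F ⋙ G) f φ rfl ψ
    have : G.IsHomLift g' (F.map χ) := (isHomLift_comp_iff F G _ χ).1 inferInstance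
    have he : F.map χ = g := IsStronglyCartesian.ext G f (F.map φ) (g := g')
      (by rw [← F.map_comp, hc, hψ])
    refine ⟨χ, ⟨he ▸ IsHomLift.map F χ, hc⟩, ?_⟩
    rintro χ' ⟨h', hc'⟩
    have := h'
    have : (F ⋙ G).IsHomLift g' χ' := by
      rw [isHomLift_comp_iff, ← IsHomLift.eq_of_isHomLift F g χ']; infer_instance
    exact IsStronglyCartesian.map_uniq (F ⋙ G) f φ rfl ψ χ' hc'

end Comp

section Over

variable {𝒜 : Type u₂} [Category.{v₂} 𝒜]

theorem isFibGrpd_overForget (U : C) : FibCat.IsFibGrpd (Over.forget U) := by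
  refine isFibGrpd_of_lifts _ (fun x V f => ?_) (fun R S f y x φ hφ => ?_)
  · exact ⟨Over.mk (f ≫ x.hom), Over.homMk f,
      IsHomLift.map (Over.forget U) (Over.homMk f : Over.mk (f ≫ x.hom) ⟶ x)⟩
  · subst_hom_lift (Over.forget U) f φ
    exact
    { universal_property' := fun {z} g ψ hψ => by
        have hψ' : g ≫ φ.left = ψ.left :=
          IsHomLift.eq_of_isHomLift (Over.forget U) (g ≫ (Over.forget U).map φ) ψ
        let χ : z ⟶ y := Over.homMk g (by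
          show g ≫ y.hom = z.hom
          exact (congrArg (g ≫ ·) (Over.w φ).symm).trans ((Category.assoc _ _ _).symm.trans
            ((congrArg (· ≫ x.hom) hψ').trans (Over.w ψ))))
        refine ⟨χ, ⟨IsHomLift.map (Over.forget U) χ, Over.OverMorphism.ext hψ'⟩, ?_⟩
        rintro χ' ⟨h', -⟩
        exact Over.OverMorphism.ext (IsHomLift.eq_of_isHomLift (Over.forget U) g χ').symm }

theorem over_obj_ext {U : C} {a b : Over U} (h : a.left = b.left)
    (w : a.hom = eqToHom h ≫ b.hom) : a = b := by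
  obtain ⟨al, ⟨⟨⟩⟩, ah⟩ := a
  obtain ⟨bl, ⟨⟨⟩⟩, bh⟩ := b
  obtain rfl : al = bl := h
  change ah = eqToHom rfl ≫ bh at w
  rw [eqToHom_refl, Category.id_comp] at w
  subst w
  rfl

theorem overForget_obj_eq {U : C} {a b x : Over U} (φ : a ⟶ x) (ψ : b ⟶ x) (h : a.left = b.left)
    (e : φ.left = eqToHom h ≫ ψ.left) : a = b :=
  over_obj_ext h (by rw [← Over.w φ, ← Over.w ψ, e, Category.assoc])

theorem isFibered_of_comp_overForget {U : C} (p' : 𝒜 ⥤ Over U) [(p' ⋙ Over.forget U).IsFibered] :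
    p'.IsFibered := by
  refine IsFibered.of_exists_isStronglyCartesian fun a V f => ?_
  obtain ⟨b, φ, hφ⟩ := exists_stronglyCartesian (p' ⋙ Over.forget U) rfl f.left
  have hφ' : (p' ⋙ Over.forget U).IsStronglyCartesian (R := V.left) (S := (p'.obj a).left) f.left φ := hφ
  have : (Over.forget U).IsHomLift (R := V.left) (S := (p'.obj a).left) f.left (p'.map φ) :=
    (isHomLift_comp_iff p' (Over.forget U) f.left φ).1 hφ'.toIsHomLift
  have := stronglyCartesian_of_isFibGrpd _ (isFibGrpd_overForget U) f.left (p'.map φ)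
  have hsc := @isStronglyCartesian_of_comp _ _ _ _ _ _ p' (Over.forget U) _ _ f.left _ _ φ hφ' this
  have h : (p'.obj b).left = V.left := IsHomLift.domain_eq (Over.forget U) f.left (p'.map φ)
  have e : (p'.map φ).left = eqToHom h ≫ f.left :=
    (IsHomLift.fac' (Over.forget U) f.left (p'.map φ)).trans (by simp)
  obtain rfl := overForget_obj_eq (p'.map φ) f h e
  obtain rfl : p'.map φ = f := Over.OverMorphism.ext (by simpa using e)
  exact ⟨b, φ, hsc⟩

theorem isFibGrpd_of_comp_overForget {U : C} (p' : 𝒜 ⥤ Over U)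
    (h : FibCat.IsFibGrpd (p' ⋙ Over.forget U)) : FibCat.IsFibGrpd p' := by
  have := isFibered_of_isFibGrpd _ h
  have := isFibered_of_comp_overForget p'
  refine isFibGrpd_of_lifts _ (fun x V f => ?_) (fun R S f y x φ hφ => ?_)
  · obtain ⟨b, φ, hφ⟩ := exists_stronglyCartesian p' rfl f
    exact ⟨b, φ, inferInstance⟩
  · subst_hom_lift p' f φ
    have hl : (p' ⋙ Over.forget U).IsHomLift (p'.map φ).left φ := IsHomLift.map (p' ⋙ Over.forget U) φ
    have := stronglyCartesian_of_isFibGrpd _ h (p'.map φ).left φ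
    have : (Over.forget U).IsHomLift (p'.map φ).left (p'.map φ) := IsHomLift.map (Over.forget U) _
    have := stronglyCartesian_of_isFibGrpd _ (isFibGrpd_overForget U) (p'.map φ).left (p'.map φ)
    exact isStronglyCartesian_of_comp p' (Over.forget U) (p'.map φ).left φ

end Over

section BasedFunctor

variable {𝒳 : BasedCategory.{v₂, u₂} C} {𝒴 : BasedCategory.{v₃, u₃} C}

/-- A functor over the base on whose images `map` is computed by `p`. -/
theorem map_base (F : 𝒳 ⥤ᵇ 𝒴) {a b : 𝒳.obj} (φ : a ⟶ b) :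
    𝒴.p.map (F.map φ) = eqToHom (F.w_obj a) ≫ 𝒳.p.map φ ≫ eqToHom (F.w_obj b).symm :=
  Functor.congr_hom F.w φ

/-- "Essentially surjective over the base". -/
def EssSurjOver (F : 𝒳 ⥤ᵇ 𝒴) : Prop :=
  ∀ η : 𝒴.obj, ∃ (ξ : 𝒳.obj) (e : F.obj ξ ≅ η), 𝒴.p.IsHomLift (𝟙 (𝒴.p.obj η)) e.hom

theorem isEquivOver_symm {F : 𝒳 ⥤ᵇ 𝒴} (h : FibCat.IsEquivOver F) :
    ∃ G : 𝒴 ⥤ᵇ 𝒳, FibCat.IsEquivOver G ∧ Nonempty (BasedFunctor.comp F G ≅ BasedFunctor.id 𝒳) ∧
      Nonempty (BasedFunctor.comp G F ≅ BasedFunctor.id 𝒴) := by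
  obtain ⟨G, h₁, h₂⟩ := h
  exact ⟨G, ⟨F, h₂, h₁⟩, h₁, h₂⟩

theorem isEquivalence_of_isEquivOver {F : 𝒳 ⥤ᵇ 𝒴} (h : FibCat.IsEquivOver F) :
    F.toFunctor.IsEquivalence := by
  obtain ⟨G, ⟨e₁⟩, ⟨e₂⟩⟩ := h
  exact (CategoryTheory.Equivalence.mk F.toFunctor G.toFunctor ((BasedNatTrans.forgetful _ _).mapIso e₁).symm
    ((BasedNatTrans.forgetful _ _).mapIso e₂)).isEquivalence_functor

theorem essSurjOver_of_isEquivOver {F : 𝒳 ⥤ᵇ 𝒴} (h : FibCat.IsEquivOver F) : EssSurjOver F := by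
  obtain ⟨G, _, ⟨e₂⟩⟩ := h
  exact fun η => ⟨G.obj η, ((BasedNatTrans.forgetful _ _).mapIso e₂).app η,
    BasedNatTrans.isHomLift e₂.hom rfl⟩

section Construct

variable (F : 𝒳 ⥤ᵇ 𝒴) [F.toFunctor.Full] [F.toFunctor.Faithful] (ξ : 𝒴.obj → 𝒳.obj)
  (e : ∀ η, F.obj (ξ η) ≅ η) (he : ∀ η, 𝒴.p.IsHomLift (𝟙 (𝒴.p.obj η)) (e η).hom)

/-- The inverse over the base determined by a choice of preimages. -/
noncomputable def invFunctor : 𝒴.obj ⥤ 𝒳.obj where
  obj := ξ
  map {a b} h := F.toFunctor.preimage ((e a).hom ≫ h ≫ (e b).inv)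
  map_id a := F.toFunctor.map_injective (by simp)
  map_comp f g := F.toFunctor.map_injective (by simp)

/-- The inverse over the base, as a functor over the base. -/
noncomputable def invBased : 𝒴 ⥤ᵇ 𝒳 where
  toFunctor := invFunctor F ξ e
  w := Functor.ext
    (fun η => (F.w_obj _).symm.trans (@IsHomLift.domain_eq _ _ _ _ 𝒴.p _ _ _ _ _ (e η).hom (he η)))
    (fun a b h => by
      have := he a
      have := he b
      have : 𝒳.p.IsHomLift (𝒴.p.map h) ((invFunctor F ξ e).map h) := by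
        rw [← BasedFunctor.isHomLift_iff F]
        simp only [invFunctor, Functor.map_preimage]
        infer_instance
      exact IsHomLift.fac' 𝒳.p (𝒴.p.map h) ((invFunctor F ξ e).map h))

end Construct

theorem isEquivOver_of_essSurjOver (F : 𝒳 ⥤ᵇ 𝒴) [F.toFunctor.Full] [F.toFunctor.Faithful]
    (h : EssSurjOver F) : FibCat.IsEquivOver F := by
  choose ξ e he using h
  refine ⟨invBased F ξ e he, ⟨BasedNatIso.mkNatIso
      (NatIso.ofComponents (fun a => F.toFunctor.preimageIso (e (F.obj a)))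
        (fun {a b} f => F.toFunctor.map_injective
          (show F.map ((invFunctor F ξ e).map (F.map f) ≫ (F.toFunctor.preimageIso (e (F.obj b))).hom) =
            F.map ((F.toFunctor.preimageIso (e (F.obj a))).hom ≫ f) by simp [invFunctor]))) (fun a => ?_)⟩,
    ⟨BasedNatIso.mkNatIso (NatIso.ofComponents e (fun {a b} f =>
        show F.map ((invFunctor F ξ e).map f) ≫ (e b).hom = (e a).hom ≫ f by simp [invFunctor]))
      (fun a => he a)⟩⟩
  rw [← BasedFunctor.isHomLift_iff F]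
  have := he (F.obj a)
  rw [F.w_obj] at this
  show 𝒴.p.IsHomLift _ (F.map (F.toFunctor.preimage (e (F.obj a)).hom))
  rw [Functor.map_preimage]
  exact this

theorem isEquivOver_iff (F : 𝒳 ⥤ᵇ 𝒴) : FibCat.IsEquivOver F ↔
    (F.toFunctor.Full ∧ F.toFunctor.Faithful) ∧ EssSurjOver F := by
  refine ⟨fun h => ⟨?_, essSurjOver_of_isEquivOver h⟩, fun ⟨⟨_, _⟩, h⟩ => isEquivOver_of_essSurjOver F h⟩
  have := isEquivalence_of_isEquivOver h
  exact ⟨inferInstance, inferInstance⟩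

/-- Isomorphisms of the base lift. -/
def Transportable (p : 𝒳.obj ⥤ C) : Prop :=
  ∀ ⦃T S : C⦄ (α : T ≅ S) (ξ : 𝒳.obj), p.obj ξ = T →
    ∃ (ξ' : 𝒳.obj) (e : ξ ≅ ξ'), p.IsHomLift α.hom e.hom

theorem transportable_of_isFibered [𝒳.p.IsFibered] : Transportable 𝒳.p := by
  intro T S α ξ hξ
  obtain ⟨ξ', φ, hφ⟩ := exists_stronglyCartesian 𝒳.p hξ α.inv
  have : IsIso φ := IsStronglyCartesian.isIso_of_base_isIso 𝒳.p α.inv φ
  refine ⟨ξ', (asIso φ).symm, ?_⟩
  have := IsHomLift.inv 𝒳.p α.inv φ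
  simpa using this

theorem isEquivOver_of_isEquivalence (F : 𝒳 ⥤ᵇ 𝒴) (ht : Transportable 𝒳.p)
    [F.toFunctor.IsEquivalence] : FibCat.IsEquivOver F := by
  refine isEquivOver_of_essSurjOver F fun η => ?_
  let e := F.toFunctor.objObjPreimageIso η
  let ξ := F.toFunctor.objPreimage η
  let α : 𝒳.p.obj ξ ≅ 𝒴.p.obj η := eqToIso (F.w_obj ξ).symm ≪≫ 𝒴.p.mapIso e
  obtain ⟨ξ', e', he'⟩ := ht α ξ rfl
  refine ⟨ξ', (F.toFunctor.mapIso e').symm ≪≫ e, ?_⟩
  have : 𝒴.p.IsHomLift α.hom e.hom :=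
    IsHomLift.of_fac 𝒴.p α.hom e.hom (F.w_obj ξ) rfl (by simp [α])
  have : 𝒳.p.IsHomLift α.inv e'.inv := IsHomLift.inv_lift_inv 𝒳.p α e'
  have h := (inferInstance : 𝒴.p.IsHomLift (α.inv ≫ α.hom) (F.map e'.inv ≫ e.hom))
  simpa using h

theorem isStronglyCartesian_of_map (F : 𝒳 ⥤ᵇ 𝒴) [F.toFunctor.Full] [F.toFunctor.Faithful]
    {R S : C} (f : R ⟶ S) {a b : 𝒳.obj} (φ : a ⟶ b)
    [𝒴.p.IsStronglyCartesian f (F.map φ)] : 𝒳.p.IsStronglyCartesian f φ where
  toIsHomLift := F.isHomLift_map f φ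
  universal_property' {a'} g ψ _ := by
    let g' : 𝒴.p.obj (F.obj a') ⟶ R := eqToHom (F.w_obj a') ≫ g
    have : 𝒴.p.IsHomLift (g' ≫ f) (F.map ψ) := by
      simp only [g', Category.assoc]; infer_instance
    obtain ⟨τ, ⟨hτ, hτc⟩, hu⟩ := IsStronglyCartesian.universal_property' (p := 𝒴.p) (f := f)
      (φ := F.map φ) g' (F.map ψ)
    obtain ⟨χ, rfl⟩ := F.toFunctor.map_surjective τ
    refine ⟨χ, ⟨?_, F.toFunctor.map_injective (by simpa using hτc)⟩, ?_⟩
    · have : 𝒴.p.IsHomLift g (F.map χ) := by simpa [g'] using hτ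
      exact F.isHomLift_map g χ
    · rintro χ' ⟨_, hc⟩
      apply F.toFunctor.map_injective
      exact hu _ ⟨by simp only [g']; infer_instance, by rw [← hc]; simp⟩

theorem isCartesian_of_map (F : 𝒳 ⥤ᵇ 𝒴) [F.toFunctor.Full] [F.toFunctor.Faithful]
    {R S : C} (f : R ⟶ S) {a b : 𝒳.obj} (φ : a ⟶ b)
    [𝒴.p.IsCartesian f (F.map φ)] : 𝒳.p.IsCartesian f φ where
  toIsHomLift := F.isHomLift_map f φ
  universal_property {a'} ψ _ := by
    obtain ⟨τ, ⟨hτ, hτc⟩, hu⟩ := IsCartesian.universal_property (p := 𝒴.p) (f := f)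
      (φ := F.map φ) (F.map ψ)
    obtain ⟨χ, rfl⟩ := F.toFunctor.map_surjective τ
    refine ⟨χ, ⟨F.isHomLift_map (𝟙 R) χ, F.toFunctor.map_injective (by simpa using hτc)⟩, ?_⟩
    rintro χ' ⟨_, hc⟩
    exact F.toFunctor.map_injective (hu _ ⟨inferInstance, by rw [← hc]; simp⟩)

theorem isCartesian_map (F : 𝒳 ⥤ᵇ 𝒴) (hF : FibCat.IsEquivOver F)
    {R S : C} (f : R ⟶ S) {a b : 𝒳.obj} (φ : a ⟶ b)
    [𝒳.p.IsCartesian f φ] : 𝒴.p.IsCartesian f (F.map φ) where
  universal_property {a'} ψ _ := by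
    obtain ⟨⟨_, _⟩, hes⟩ := (isEquivOver_iff F).1 hF
    obtain ⟨ξ, e, he⟩ := hes a'
    have hR := IsHomLift.domain_eq 𝒴.p f ψ
    rw [hR] at he
    obtain ⟨ψ', hψ'⟩ := F.toFunctor.map_surjective (e.hom ≫ ψ)
    have : 𝒳.p.IsHomLift f ψ' := by
      rw [← BasedFunctor.isHomLift_iff F, hψ']; infer_instance
    refine ⟨e.inv ≫ F.map (IsCartesian.map 𝒳.p f φ ψ'), ⟨inferInstance, ?_⟩, ?_⟩
    · rw [Category.assoc, ← F.toFunctor.map_comp, IsCartesian.fac, hψ', Iso.inv_hom_id_assoc]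
    · rintro τ ⟨hτ, hτc⟩
      obtain ⟨χ, hχ⟩ := F.toFunctor.map_surjective (e.hom ≫ τ)
      have : 𝒳.p.IsHomLift (𝟙 R) χ := by
        rw [← BasedFunctor.isHomLift_iff F, hχ]; infer_instance
      rw [← IsCartesian.map_uniq 𝒳.p f φ ψ' χ (F.toFunctor.map_injective
        (by rw [F.toFunctor.map_comp, hχ, hψ', Category.assoc, hτc]))]
      simp [hχ]

theorem isStronglyCartesian_map (F : 𝒳 ⥤ᵇ 𝒴) (hF : FibCat.IsEquivOver F)
    {R S : C} (f : R ⟶ S) {a b : 𝒳.obj} (φ : a ⟶ b)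
    [𝒳.p.IsStronglyCartesian f φ] : 𝒴.p.IsStronglyCartesian f (F.map φ) where
  universal_property' {a'} g ψ _ := by
    obtain ⟨⟨_, _⟩, hes⟩ := (isEquivOver_iff F).1 hF
    obtain ⟨ξ, e, he⟩ := hes a'
    obtain ⟨ψ', hψ'⟩ := F.toFunctor.map_surjective (e.hom ≫ ψ)
    have : 𝒳.p.IsHomLift (g ≫ f) ψ' := by
      rw [← BasedFunctor.isHomLift_iff F, hψ']; infer_instance
    let χ₀ := IsStronglyCartesian.map 𝒳.p f φ (g := g) rfl ψ'
    refine ⟨e.inv ≫ F.map χ₀, ⟨inferInstance, ?_⟩, ?_⟩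
    · rw [Category.assoc, ← F.toFunctor.map_comp, IsStronglyCartesian.fac, hψ', Iso.inv_hom_id_assoc]
    · rintro τ ⟨hτ, hτc⟩
      obtain ⟨χ, hχ⟩ := F.toFunctor.map_surjective (e.hom ≫ τ)
      have : 𝒳.p.IsHomLift g χ := by
        rw [← BasedFunctor.isHomLift_iff F, hχ]; infer_instance
      have : χ = χ₀ := IsStronglyCartesian.map_uniq 𝒳.p f φ rfl ψ' χ (F.toFunctor.map_injective
        (by rw [F.toFunctor.map_comp, hχ, hψ', Category.assoc, hτc]))
      rw [← this, hχ, Iso.inv_hom_id_assoc]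

theorem isFibered_of_isEquivOver {F : 𝒳 ⥤ᵇ 𝒴} (hF : FibCat.IsEquivOver F) [𝒳.p.IsFibered] :
    𝒴.p.IsFibered := by
  refine IsFibered.of_exists_isStronglyCartesian fun η R f => ?_
  obtain ⟨ξ, e, he⟩ := essSurjOver_of_isEquivOver hF η
  have hξ : 𝒳.p.obj ξ = 𝒴.p.obj η := (F.w_obj ξ).symm.trans (IsHomLift.domain_eq 𝒴.p (𝟙 _) e.hom)
  obtain ⟨b, φ, hφ⟩ := exists_stronglyCartesian 𝒳.p hξ f
  have := isStronglyCartesian_map F hF f φ
  refine ⟨F.obj b, F.map φ ≫ e.hom, ?_⟩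
  have h := (inferInstance : 𝒴.p.IsStronglyCartesian (f ≫ 𝟙 _) (F.map φ ≫ e.hom))
  simpa using h

theorem isFibered_iff {F : 𝒳 ⥤ᵇ 𝒴} (hF : FibCat.IsEquivOver F) :
    𝒳.p.IsFibered ↔ 𝒴.p.IsFibered := by
  obtain ⟨G, hG, -⟩ := isEquivOver_symm hF
  exact ⟨fun _ => isFibered_of_isEquivOver hF, fun _ => isFibered_of_isEquivOver hG⟩

theorem isFibGrpd_of_isEquivOver {F : 𝒳 ⥤ᵇ 𝒴} (hF : FibCat.IsEquivOver F)
    (h : FibCat.IsFibGrpd 𝒳.p) : FibCat.IsFibGrpd 𝒴.p := by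
  have := isFibered_of_isFibGrpd 𝒳.p h
  have := isFibered_of_isEquivOver hF
  obtain ⟨G, hG, -⟩ := isEquivOver_symm hF
  obtain ⟨⟨_, _⟩, -⟩ := (isEquivOver_iff G).1 hG
  refine isFibGrpd_of_isFibered 𝒴.p fun U => ⟨fun {a b} φ => ?_⟩
  have := φ.2
  have : IsIso (G.map (Fiber.fiberInclusion.map φ)) := isIso_of_isFibGrpd 𝒳.p h (𝟙 U) _
  have : IsIso (Fiber.fiberInclusion.map φ) := isIso_of_reflects_iso _ G.toFunctor
  exact isIso_fiber_hom 𝒴.p φ this

section Fibre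

variable (G : 𝒳 ⥤ᵇ 𝒴)

theorem fiberFunctor_faithful [G.toFunctor.Faithful] (U : C) : (FibCat.fiberFunctor G U).Faithful where
  map_injective {_ _} _ _ h := Fiber.hom_ext (G.toFunctor.map_injective (congrArg Subtype.val h))

theorem fiberFunctor_full [G.toFunctor.Full] (U : C) : (FibCat.fiberFunctor G U).Full where
  map_surjective {x y} φ := by
    obtain ⟨α, hα⟩ := G.toFunctor.map_surjective φ.1
    exact ⟨⟨α, (BasedFunctor.isHomLift_iff G (𝟙 U) α).1 (hα ▸ φ.2)⟩, Subtype.ext hα⟩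

theorem fiberFunctor_essSurj (h : EssSurjOver G) (U : C) : (FibCat.fiberFunctor G U).EssSurj where
  mem_essImage := by
    rintro ⟨η, hη⟩
    obtain ⟨ξ, e, he⟩ := h η
    subst hη
    have := he
    refine ⟨⟨ξ, (G.w_obj ξ).symm.trans (IsHomLift.domain_eq 𝒴.p (𝟙 (𝒴.p.obj η)) e.hom)⟩,
      ⟨{ hom := ⟨e.hom, he⟩
         inv := ⟨e.inv, IsHomLift.lift_id_inv 𝒴.p _ e⟩
         hom_inv_id := Fiber.hom_ext e.hom_inv_id
         inv_hom_id := Fiber.hom_ext e.inv_hom_id }⟩⟩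

theorem fiberFunctor_isEquivalence (h : FibCat.IsEquivOver G) (U : C) :
    (FibCat.fiberFunctor G U).IsEquivalence := by
  obtain ⟨⟨_, _⟩, hes⟩ := (isEquivOver_iff G).1 h
  exact { faithful := fiberFunctor_faithful G U, full := fiberFunctor_full G U,
          essSurj := fiberFunctor_essSurj G hes U }

/-- Sending every strongly cartesian morphism to a strongly cartesian one. -/
def Cart : Prop :=
  ∀ ⦃R S : C⦄ (f : R ⟶ S) ⦃a b : 𝒳.obj⦄ (φ : a ⟶ b),
    𝒳.p.IsStronglyCartesian f φ → 𝒴.p.IsStronglyCartesian f (G.map φ)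

theorem cart_of_isFibGrpd (h : FibCat.IsFibGrpd 𝒴.p) : Cart G :=
  fun _ _ f _ _ φ _ => stronglyCartesian_of_isFibGrpd 𝒴.p h f (G.map φ)

theorem faithful_of_fiber [𝒳.p.IsFibered] (hG : Cart G)
    (h : ∀ U, (FibCat.fiberFunctor G U).Faithful) : G.toFunctor.Faithful where
  map_injective {a b} φ ψ e := by
    have hp : 𝒳.p.map φ = 𝒳.p.map ψ := by
      have := congrArg 𝒴.p.map e
      rwa [map_base, map_base, cancel_epi, cancel_mono] at this
    obtain ⟨a', c, hc⟩ := exists_stronglyCartesian 𝒳.p rfl (𝒳.p.map φ)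
    have : 𝒳.p.IsHomLift (𝒳.p.map φ) ψ := hp ▸ inferInstance
    have := hG _ c hc
    let α := IsCartesian.map 𝒳.p (𝒳.p.map φ) c φ
    let β := IsCartesian.map 𝒳.p (𝒳.p.map φ) c ψ
    have hh : G.map α = G.map β := by
      apply IsCartesian.ext 𝒴.p (𝒳.p.map φ) (G.map c)
      rw [← G.toFunctor.map_comp, ← G.toFunctor.map_comp, IsCartesian.fac, IsCartesian.fac]
      exact e
    have := h (𝒳.p.obj a)
    have hab : Fiber.homMk 𝒳.p (𝒳.p.obj a) α = Fiber.homMk 𝒳.p (𝒳.p.obj a) β :=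
      (FibCat.fiberFunctor G (𝒳.p.obj a)).map_injective (Subtype.ext hh)
    have : α = β := congrArg Subtype.val hab
    rw [← IsCartesian.fac 𝒳.p (𝒳.p.map φ) c φ, ← IsCartesian.fac 𝒳.p (𝒳.p.map φ) c ψ]
    exact congrArg (· ≫ c) this

theorem full_of_fiber [𝒳.p.IsFibered] (hG : Cart G)
    (h : ∀ U, (FibCat.fiberFunctor G U).Full) : G.toFunctor.Full where
  map_surjective {a b} φ := by
    let f : 𝒳.p.obj a ⟶ 𝒳.p.obj b := eqToHom (G.w_obj a).symm ≫ 𝒴.p.map φ ≫ eqToHom (G.w_obj b)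
    have : 𝒴.p.IsHomLift f φ := IsHomLift.of_fac 𝒴.p f φ (G.w_obj a) (G.w_obj b) rfl
    obtain ⟨a', c, hc⟩ := exists_stronglyCartesian 𝒳.p rfl f
    have := hG f c hc
    let β := IsCartesian.map 𝒴.p f (G.map c) φ
    have := h (𝒳.p.obj a)
    let X : 𝒳.p.Fiber (𝒳.p.obj a) := ⟨a, rfl⟩
    let Y : 𝒳.p.Fiber (𝒳.p.obj a) := ⟨a', IsHomLift.domain_eq 𝒳.p f c⟩
    let β' : (FibCat.fiberFunctor G (𝒳.p.obj a)).obj X ⟶ (FibCat.fiberFunctor G (𝒳.p.obj a)).obj Y :=
      ⟨β, (inferInstance : 𝒴.p.IsHomLift (𝟙 (𝒳.p.obj a)) β)⟩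
    obtain ⟨α, hα⟩ := (FibCat.fiberFunctor G (𝒳.p.obj a)).map_surjective β'
    refine ⟨α.1 ≫ c, ?_⟩
    have hα' : G.map α.1 = β := congrArg Subtype.val hα
    rw [G.toFunctor.map_comp, hα']
    exact IsCartesian.fac 𝒴.p f (G.map c) φ

theorem essSurjOver_of_fiber (h : ∀ U, (FibCat.fiberFunctor G U).EssSurj) : EssSurjOver G := by
  intro η
  have := h (𝒴.p.obj η)
  let ξ := (FibCat.fiberFunctor G (𝒴.p.obj η)).objPreimage ⟨η, rfl⟩
  let e := (FibCat.fiberFunctor G (𝒴.p.obj η)).objObjPreimageIso ⟨η, rfl⟩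
  exact ⟨ξ.1, ⟨e.hom.1, e.inv.1, congrArg Subtype.val e.hom_inv_id, congrArg Subtype.val e.inv_hom_id⟩,
    e.hom.2⟩

theorem isEquivOver_of_fiber [𝒳.p.IsFibered] (hG : Cart G)
    (h : ∀ U, (FibCat.fiberFunctor G U).IsEquivalence) : FibCat.IsEquivOver G := by
  have := faithful_of_fiber G hG fun U => (h U).faithful
  have := full_of_fiber G hG fun U => (h U).full
  exact isEquivOver_of_essSurjOver G (essSurjOver_of_fiber G fun U => (h U).essSurj)

end Fibre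

end BasedFunctor

end Groth.Agent.FibBasics
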