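import Groth.Prelude.Def_W4stkcategoriessitesFib
import Groth.Agent.FibBasics.Basic

/-!
Factorization of a 1-morphism of fibred categories through a left adjoint and a fibration.
-/

set_option autoImplicit false

universe v u v₁ u₁

open CategoryTheory CategoryTheory.Functor

namespace Groth.Agent.FibBasics

variable {C : Type u₁} [Category.{v₁} C] {𝒳 𝒴 : BasedCategory.{v, u} C} (F : 𝒳 ⥤ᵇ 𝒴)

/-- The comma category over the identity. -/
abbrev AdjProp : ObjectProperty (Comma (𝟭 𝒴.obj) F.toFunctor) :=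
  fun z => 𝒴.p.IsHomLift (𝟙 (𝒳.p.obj z.right)) z.hom

/-- The category of arrows y ⟶ F x over an identity. -/
abbrev AdjObj := (AdjProp F).FullSubcategory

/-- Its projection to the base. -/
abbrev adjP : AdjObj F ⥤ C := (AdjProp F).ι ⋙ Comma.snd (𝟭 𝒴.obj) F.toFunctor ⋙ 𝒳.p

/-- The category of arrows y ⟶ F x over an identity, over the base. -/
abbrev adjBased : BasedCategory C := BasedCategory.ofFunctor (adjP F)

/-- Morphisms from components. -/
abbrev adjMk {z z' : AdjObj F} (b : z.1.left ⟶ z'.1.left) (a : z.1.right ⟶ z'.1.right)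
    (w : b ≫ z'.1.hom = z.1.hom ≫ F.map a) : z ⟶ z' := ObjectProperty.homMk { left := b, right := a, w := w }

theorem adj_w {z z' : AdjObj F} (φ : z ⟶ z') :
    φ.hom.left ≫ z'.1.hom = z.1.hom ≫ F.map φ.hom.right := φ.hom.w

theorem adj_ext {z z' : AdjObj F} {φ ψ : z ⟶ z'} (h₁ : φ.hom.left = ψ.hom.left)
    (h₂ : φ.hom.right = ψ.hom.right) : φ = ψ :=
  ObjectProperty.hom_ext _ (CommaMorphism.ext h₁ h₂)

theorem adj_base (z : AdjObj F) : 𝒴.p.obj z.1.left = 𝒳.p.obj z.1.right := by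
  have := z.2
  exact IsHomLift.domain_eq 𝒴.p (𝟙 (𝒳.p.obj z.1.right)) z.1.hom

theorem adj_lift {z z' : AdjObj F} (φ : z ⟶ z') {R S : C} (f : R ⟶ S)
    [𝒳.p.IsHomLift f φ.hom.right] : 𝒴.p.IsHomLift f φ.hom.left := by
  have := z.2
  have := z'.2
  subst_hom_lift 𝒳.p f φ.hom.right
  refine IsHomLift.of_fac _ _ _ (adj_base F z) (adj_base F z') ?_
  have h1 : 𝒴.p.map z.1.hom = eqToHom _ ≫ 𝟙 (𝒳.p.obj z.1.right) ≫ eqToHom _ :=
    IsHomLift.fac' 𝒴.p (𝟙 (𝒳.p.obj z.1.right)) z.1.hom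
  have h1' : 𝒴.p.map z'.1.hom = eqToHom _ ≫ 𝟙 (𝒳.p.obj z'.1.right) ≫ eqToHom _ :=
    IsHomLift.fac' 𝒴.p (𝟙 (𝒳.p.obj z'.1.right)) z'.1.hom
  have h2 := congrArg 𝒴.p.map φ.hom.w
  simp only [Functor.id_obj, Functor.id_map, Functor.map_comp, h1, h1', map_base] at h2
  simp only [Category.id_comp, eqToHom_trans, Category.assoc] at h2
  have := congrArg (fun k => k ≫ eqToHom (F.w_obj z'.1.right)) h2
  simp only [Category.assoc, eqToHom_trans] at this
  rw [← cancel_mono (eqToHom (adj_base F z').symm)] at *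
  simp_all

theorem adjBased_lift {z z' : AdjObj F} (φ : z ⟶ z') {R S : C} (f : R ⟶ S) :
    (adjP F).IsHomLift f φ ↔ 𝒳.p.IsHomLift f φ.hom.right :=
  isHomLift_comp_iff ((AdjProp F).ι ⋙ Comma.snd (𝟭 𝒴.obj) F.toFunctor) 𝒳.p f φ

theorem adj_sc {z z' : AdjObj F} (φ : z ⟶ z') {R S : C} (f : R ⟶ S)
    [ha : 𝒳.p.IsStronglyCartesian f φ.hom.right] [hb : 𝒴.p.IsStronglyCartesian f φ.hom.left]
    (hFa : 𝒴.p.IsStronglyCartesian f (F.map φ.hom.right)) :
    (adjP F).IsStronglyCartesian f φ where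
  toIsHomLift := (adjBased_lift F φ f).2 inferInstance
  universal_property' := fun {z''} g ψ hψ => by
    have hψa : 𝒳.p.IsHomLift (g ≫ f) ψ.hom.right := (adjBased_lift F ψ (g ≫ f)).1 hψ
    have hψb : 𝒴.p.IsHomLift (g ≫ f) ψ.hom.left := adj_lift F ψ (g ≫ f)
    let a := IsStronglyCartesian.map 𝒳.p f φ.hom.right (g := g) rfl ψ.hom.right
    let b : z''.1.left ⟶ z.1.left := IsStronglyCartesian.map 𝒴.p f φ.hom.left (g := g) rfl ψ.hom.left
    have ea : a ≫ φ.hom.right = ψ.hom.right := IsStronglyCartesian.fac 𝒳.p _ _ _ _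
    have eb : b ≫ φ.hom.left = ψ.hom.left := IsStronglyCartesian.fac 𝒴.p _ _ _ _
    have hz'' := z''.2
    have hz := z.2
    have w : b ≫ z.1.hom = z''.1.hom ≫ F.map a := by
      have h1 : 𝒴.p.IsHomLift g (F.map a) := inferInstance
      have h2 : 𝒴.p.IsHomLift g (b ≫ z.1.hom) := by
        obtain rfl : 𝒳.p.obj z.1.right = R := IsHomLift.domain_eq 𝒳.p f φ.hom.right
        exact IsHomLift.comp_lift_id_right' 𝒴.p g b (𝒳.p.obj z.1.right) z.1.hom
      have h3 : 𝒴.p.IsHomLift g (z''.1.hom ≫ F.map a) := by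
        exact IsHomLift.comp_lift_id_left' 𝒴.p (𝒳.p.obj z''.1.right) z''.1.hom g (F.map a)
      have := hFa
      refine IsStronglyCartesian.ext 𝒴.p f (F.map φ.hom.right) (g := g) ?_
      have wψ := adj_w F ψ
      have wφ := adj_w F φ
      rw [← ea, F.toFunctor.map_comp] at wψ
      rw [← eb, Category.assoc, wφ] at wψ
      rw [Category.assoc, Category.assoc]
      exact wψ
    refine ⟨adjMk F b a w, ⟨(adjBased_lift F (adjMk F b a w) g).2 (show 𝒳.p.IsHomLift g a from inferInstance), adj_ext F eb ea⟩, ?_⟩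
    rintro τ ⟨hτ, hτc⟩
    have := (adjBased_lift F τ g).1 hτ
    have := adj_lift F τ g
    exact adj_ext F
      (IsStronglyCartesian.map_uniq 𝒴.p f φ.hom.left rfl ψ.hom.left _ (congrArg (fun k => k.hom.left) hτc))
      (IsStronglyCartesian.map_uniq 𝒳.p f φ.hom.right rfl ψ.hom.right _ (congrArg (fun k => k.hom.right) hτc))

theorem adj_exists_lift [𝒳.p.IsFibered] [𝒴.p.IsFibered] (hF : FibCat.PreservesStronglyCartesian F)
    (z : AdjObj F) {R : C} (f : R ⟶ 𝒳.p.obj z.1.right) :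
    ∃ (z' : AdjObj F) (φ : z' ⟶ z), 𝒳.p.IsStronglyCartesian f φ.hom.right ∧
      𝒴.p.IsStronglyCartesian f φ.hom.left := by
  obtain ⟨x', a, ha⟩ := exists_stronglyCartesian 𝒳.p (a := z.1.right) rfl f
  obtain ⟨y', b, hb⟩ := exists_stronglyCartesian 𝒴.p (a := z.1.left) (adj_base F z) f
  have := z.2
  have := hF f a ha
  obtain rfl : 𝒳.p.obj x' = R := IsHomLift.domain_eq 𝒳.p f a
  have : 𝒴.p.IsHomLift f (b ≫ z.1.hom) := IsHomLift.comp_lift_id_right' 𝒴.p f b (𝒳.p.obj z.1.right) z.1.hom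
  let h := IsCartesian.map 𝒴.p f (F.map a) (b ≫ z.1.hom)
  let z' : AdjObj F := ⟨⟨y', x', h⟩, (inferInstance : 𝒴.p.IsHomLift (𝟙 (𝒳.p.obj x')) h)⟩
  exact ⟨z', adjMk F b a (IsCartesian.fac 𝒴.p f (F.map a) (b ≫ z.1.hom)).symm, ha, hb⟩

theorem adj_sc_iff [𝒳.p.IsFibered] [𝒴.p.IsFibered] (hF : FibCat.PreservesStronglyCartesian F)
    {z z' : AdjObj F} (φ : z ⟶ z') {R S : C} (f : R ⟶ S) :
    (adjP F).IsStronglyCartesian f φ ↔
      𝒳.p.IsStronglyCartesian f φ.hom.right ∧ 𝒴.p.IsStronglyCartesian f φ.hom.left := by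
  refine ⟨fun h => ?_, fun h => ?_⟩
  · have h0 : 𝒳.p.IsHomLift f φ.hom.right := (adjBased_lift F φ f).1 inferInstance
    obtain rfl : 𝒳.p.obj z.1.right = R := IsHomLift.domain_eq 𝒳.p f φ.hom.right
    obtain rfl : 𝒳.p.obj z'.1.right = S := IsHomLift.codomain_eq 𝒳.p f φ.hom.right
    obtain ⟨w, ψ, ha, hb⟩ := adj_exists_lift F hF z' f
    have hs : (adjP F).IsStronglyCartesian f ψ := adj_sc F ψ f (hF f _ ha)
    let κ := IsCartesian.domainUniqueUpToIso (adjP F) f ψ φ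
    have hc : κ.hom ≫ ψ = φ := IsCartesian.fac (adjP F) f ψ φ
    have hk : (adjP F).IsHomLift (𝟙 _) κ.hom :=
      IsCartesian.domainUniqueUpToIso_inv_isHomLift (adjP F) f ψ φ
    have := (adjBased_lift F κ.hom _).1 hk
    have := adj_lift F κ.hom (𝟙 (𝒳.p.obj z.1.right))
    let κ₂ := ((AdjProp F).ι ⋙ Comma.snd (𝟭 𝒴.obj) F.toFunctor).mapIso κ
    let κ₁ := ((AdjProp F).ι ⋙ Comma.fst (𝟭 𝒴.obj) F.toFunctor).mapIso κ
    have : IsIso κ.hom.hom.right := κ₂.isIso_hom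
    have : IsIso κ.hom.hom.left := κ₁.isIso_hom
    constructor
    · have := (inferInstance : 𝒳.p.IsStronglyCartesian (𝟙 _ ≫ f) (κ.hom.hom.right ≫ ψ.hom.right))
      rw [Category.id_comp] at this
      rw [← hc]; exact this
    · have := (inferInstance : 𝒴.p.IsStronglyCartesian (𝟙 _ ≫ f) (κ.hom.hom.left ≫ ψ.hom.left))
      rw [Category.id_comp] at this
      rw [← hc]; exact this
  · obtain ⟨h1, h2⟩ := h
    exact adj_sc F φ f (hF f _ h1)

/-- The inclusion. -/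
def adjU : 𝒳 ⥤ᵇ adjBased F where
  toFunctor :=
    { obj := fun x => ⟨⟨F.obj x, x, 𝟙 (F.obj x)⟩, by
        show 𝒴.p.IsHomLift (𝟙 (𝒳.p.obj x)) (𝟙 (F.obj x))
        rw [← F.w_obj x]; exact IsHomLift.id rfl⟩
      map := fun {x x'} a => adjMk F (F.map a) a ((Category.comp_id _).trans (Category.id_comp _).symm)
      map_id := fun x => adj_ext F (F.toFunctor.map_id x) rfl
      map_comp := fun a b => adj_ext F (F.toFunctor.map_comp a b) rfl }
  w := rfl

/-- The projection to the target. -/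
def adjV : adjBased F ⥤ᵇ 𝒴 where
  toFunctor := (AdjProp F).ι ⋙ Comma.fst (𝟭 𝒴.obj) F.toFunctor
  w := by
    refine Functor.ext (fun z => adj_base F z) (fun z z' φ => ?_)
    have : 𝒳.p.IsHomLift (𝒳.p.map φ.hom.right) φ.hom.right := IsHomLift.map _ _
    have := adj_lift F φ (𝒳.p.map φ.hom.right)
    exact IsHomLift.fac' 𝒴.p (𝒳.p.map φ.hom.right) φ.hom.left

/-- The left adjoint. -/
def adjW : adjBased F ⥤ᵇ 𝒳 where
  toFunctor := (AdjProp F).ι ⋙ Comma.snd (𝟭 𝒴.obj) F.toFunctor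
  w := rfl

/-- The adjunction. -/
def adjAdj : (adjW F).toFunctor ⊣ (adjU F).toFunctor :=
  Adjunction.mkOfHomEquiv
    { homEquiv := fun z x =>
        { toFun := fun a => adjMk F (z.1.hom ≫ F.map a) a (Category.comp_id _)
          invFun := fun φ => φ.hom.right
          left_inv := fun a => rfl
          right_inv := fun φ => adj_ext F ((adj_w F φ).symm.trans (Category.comp_id _)) rfl }
      homEquiv_naturality_left_symm := fun f g => rfl
      homEquiv_naturality_right := fun {z x x'} a b => adj_ext F (by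
        show z.1.hom ≫ F.map (a ≫ b) = (z.1.hom ≫ F.map a) ≫ F.map b
        exact (congrArg (z.1.hom ≫ ·) (F.toFunctor.map_comp a b)).trans (Category.assoc _ _ _).symm) rfl }

theorem adjV_isFibered [𝒳.p.IsFibered] [𝒴.p.IsFibered] (hF : FibCat.PreservesStronglyCartesian F) :
    (adjV F).toFunctor.IsFibered := by
  refine IsFibered.of_exists_isStronglyCartesian (fun z y b => ?_)
  let b' : y ⟶ z.1.left := b
  let f : 𝒴.p.obj y ⟶ 𝒳.p.obj z.1.right := 𝒴.p.map b' ≫ eqToHom (adj_base F z)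
  obtain ⟨x', a, ha⟩ := exists_stronglyCartesian 𝒳.p (a := z.1.right) rfl f
  have hx : 𝒳.p.obj x' = 𝒴.p.obj y := IsHomLift.domain_eq 𝒳.p f a
  have := hF f a ha
  have := z.2
  have : 𝒴.p.IsHomLift f b' := IsHomLift.of_fac' _ _ _ rfl (adj_base F z) (by simp [f])
  have : 𝒴.p.IsHomLift f (b' ≫ z.1.hom) := IsHomLift.comp_lift_id_right' 𝒴.p f b' (𝒳.p.obj z.1.right) z.1.hom
  let h := IsCartesian.map 𝒴.p f (F.map a) (b' ≫ z.1.hom)
  let z' : AdjObj F := ⟨⟨y, x', h⟩, by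
    show 𝒴.p.IsHomLift (𝟙 (𝒳.p.obj x')) h
    rw [hx]; infer_instance⟩
  let φ : z' ⟶ z := adjMk F b' a (IsCartesian.fac 𝒴.p f (F.map a) (b' ≫ z.1.hom)).symm
  refine ⟨z', φ, ?_⟩
  exact
    { toIsHomLift := IsHomLift.map (adjV F).toFunctor φ
      universal_property' := fun {z''} g ψ hψ => by
        let g' : z''.1.left ⟶ y := g
        have e : g' ≫ b' = ψ.hom.left :=
          IsHomLift.eq_of_isHomLift (adjV F).toFunctor (g ≫ b) ψ
        let k : 𝒳.p.obj z''.1.right ⟶ 𝒴.p.obj y := eqToHom (adj_base F z'').symm ≫ 𝒴.p.map g'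
        have : 𝒳.p.IsHomLift (𝒳.p.map ψ.hom.right) ψ.hom.right := IsHomLift.map _ _
        have := adj_lift F ψ (𝒳.p.map ψ.hom.right)
        have hk : k ≫ f = 𝒳.p.map ψ.hom.right := by
          have e2 : 𝒴.p.map ψ.hom.left = 𝒴.p.map g' ≫ 𝒴.p.map b' := by rw [← e, 𝒴.p.map_comp]
          refine Eq.trans ?_ (IsHomLift.fac 𝒴.p (𝒳.p.map ψ.hom.right) ψ.hom.left).symm
          simp [k, f, e2]
        let a₀ := IsStronglyCartesian.map 𝒳.p f a (g := k) hk.symm ψ.hom.right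
        have ea : a₀ ≫ a = ψ.hom.right := IsStronglyCartesian.fac 𝒳.p _ _ _ _
        have : 𝒴.p.IsHomLift k g' := IsHomLift.of_fac' _ _ _ (adj_base F z'') rfl (by simp [k])
        have hz'' := z''.2
        have w : g' ≫ h = z''.1.hom ≫ F.map a₀ := by
          have h1 : 𝒴.p.IsHomLift k (F.map a₀) := inferInstance
          have h2 : 𝒴.p.IsHomLift k (g' ≫ h) := IsHomLift.comp_lift_id_right' 𝒴.p k g' (𝒴.p.obj y) h
          have h3 : 𝒴.p.IsHomLift k (z''.1.hom ≫ F.map a₀) :=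
            IsHomLift.comp_lift_id_left' 𝒴.p (𝒳.p.obj z''.1.right) z''.1.hom k (F.map a₀)
          refine IsStronglyCartesian.ext 𝒴.p f (F.map a) (g := k) ?_
          rw [Category.assoc, Category.assoc, IsCartesian.fac, ← Category.assoc, e, adj_w F ψ,
            ← F.toFunctor.map_comp, ea]
        let χ : z'' ⟶ z' := adjMk F g' a₀ w
        refine ⟨χ, ⟨IsHomLift.map (adjV F).toFunctor χ, adj_ext F e ea⟩, ?_⟩
        rintro τ ⟨hτ, hτc⟩
        have := hτ
        have h2 : g' = τ.hom.left := @IsHomLift.eq_of_isHomLift _ _ _ _ (adjV F).toFunctor _ _ g τ hτ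
        have hτa : 𝒳.p.IsHomLift (𝒳.p.map τ.hom.right) τ.hom.right := IsHomLift.map _ _
        have hτb := adj_lift F τ (𝒳.p.map τ.hom.right)
        have hk' : 𝒳.p.IsHomLift k τ.hom.right := by
          refine IsHomLift.of_fac' _ _ _ rfl hx ?_
          have h4 := IsHomLift.fac 𝒴.p (𝒳.p.map τ.hom.right) τ.hom.left
          have e4 : 𝒴.p.map τ.hom.left = 𝒴.p.map g' := congrArg _ h2.symm
          rw [h4]
          simp [k, e4]
        exact adj_ext F h2.symm (IsStronglyCartesian.map_uniq 𝒳.p f a hk.symm ψ.hom.right _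
          (congrArg (fun m => m.hom.right) hτc)) }

theorem exists_adjoint_factorisation [𝒳.p.IsFibered] [𝒴.p.IsFibered]
    (hF : FibCat.PreservesStronglyCartesian F) :
    (adjBased F).p.IsFibered ∧ FibCat.PreservesStronglyCartesian (adjU F) ∧
      FibCat.PreservesStronglyCartesian (adjV F) ∧ FibCat.PreservesStronglyCartesian (adjW F) ∧
      BasedFunctor.comp (adjU F) (adjV F) = F ∧ (adjU F).toFunctor.Full ∧ (adjU F).toFunctor.Faithful ∧
      Nonempty ((adjW F).toFunctor ⊣ (adjU F).toFunctor) ∧ (adjV F).toFunctor.IsFibered := by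
  refine ⟨IsFibered.of_exists_isStronglyCartesian (fun z R f => ?_), fun R S f x x' a ha => ?_,
    fun R S f z z' φ hφ => ((adj_sc_iff F hF φ f).1 hφ).2, fun R S f z z' φ hφ => ((adj_sc_iff F hF φ f).1 hφ).1,
    rfl, ⟨fun {x x'} φ => ⟨φ.hom.right, adj_ext F ?_ rfl⟩⟩, ⟨fun h => congrArg (fun k => k.hom.right) h⟩,
    ⟨adjAdj F⟩, adjV_isFibered F hF⟩
  · obtain ⟨z', φ, h1, h2⟩ := adj_exists_lift F hF z f
    exact ⟨z', φ, (adj_sc_iff F hF φ f).2 ⟨h1, h2⟩⟩
  · exact (adj_sc_iff F hF ((adjU F).map a) f).2 ⟨ha, hF f a ha⟩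
  · exact ((Category.comp_id _).symm.trans ((adj_w F φ).trans (Category.id_comp _))).symm

end Groth.Agent.FibBasics
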