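import Groth.Agent.FibBasics.Basic

/-!
2-fibre products of plain categories: maps induced by morphisms of cospans, pasting, diagonals.
-/

set_option autoImplicit false

universe v u v₁ u₁ v₂ u₂ v₃ u₃ v₄ u₄ v₅ u₅ v₆ u₆

open CategoryTheory CategoryTheory.Functor CategoryTheory.Limits

namespace Groth.Agent.FibBasics

section Map

variable {X : Type u₁} {Y : Type u₂} {Z : Type u₃} {A : Type u₄} {B : Type u₅} {C : Type u₆}
  [Category.{v₁} X] [Category.{v₂} Y] [Category.{v₃} Z] [Category.{v₄} A]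
  [Category.{v₅} B] [Category.{v₆} C] {H : X ⥤ Z} {I : Y ⥤ Z} {F : A ⥤ C} {G : B ⥤ C}
  (ψ : CatCospanTransform H I F G)

theorem cpm_iso (x : CategoricalPullback H I) :
    ((FibCat.categoricalPullbackMap ψ).obj x).iso.hom =
      ψ.squareLeft.iso.inv.app x.fst ≫ ψ.base.map x.iso.hom ≫ ψ.squareRight.iso.hom.app x.snd := by
  simp [FibCat.categoricalPullbackMap]
  rfl

theorem cpm_faithful [ψ.left.Faithful] [ψ.right.Faithful] :
    (FibCat.categoricalPullbackMap ψ).Faithful := by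
  refine ⟨fun {x y} f g h => CategoricalPullback.hom_ext ?_ ?_⟩
  · exact ψ.left.map_injective (congrArg (fun k => k.fst) h)
  · exact ψ.right.map_injective (congrArg (fun k => k.snd) h)

theorem cpm_full [ψ.left.Full] [ψ.right.Full] [ψ.base.Faithful] :
    (FibCat.categoricalPullbackMap ψ).Full := by
  refine ⟨fun {x y} θ => ?_⟩
  let θ₁ : ψ.left.obj x.fst ⟶ ψ.left.obj y.fst := θ.fst
  let θ₂ : ψ.right.obj x.snd ⟶ ψ.right.obj y.snd := θ.snd
  obtain ⟨s, hs⟩ := ψ.left.map_surjective θ₁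
  obtain ⟨t, ht⟩ := ψ.right.map_surjective θ₂
  refine ⟨⟨s, t, ?_⟩, CategoricalPullback.hom_ext hs ht⟩
  have h0 := θ.w
  rw [cpm_iso, cpm_iso] at h0
  have h : F.map θ₁ ≫ ψ.squareLeft.iso.inv.app y.fst ≫ ψ.base.map y.iso.hom ≫
        ψ.squareRight.iso.hom.app y.snd =
      (ψ.squareLeft.iso.inv.app x.fst ≫ ψ.base.map x.iso.hom ≫ ψ.squareRight.iso.hom.app x.snd) ≫
        G.map θ₂ := h0
  rw [← hs, ← ht] at h
  have n₁ : F.map (ψ.left.map s) ≫ ψ.squareLeft.iso.inv.app y.fst =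
      ψ.squareLeft.iso.inv.app x.fst ≫ ψ.base.map (H.map s) := ψ.squareLeft.iso.inv.naturality s
  have n₂ : ψ.base.map (I.map t) ≫ ψ.squareRight.iso.hom.app y.snd =
      ψ.squareRight.iso.hom.app x.snd ≫ G.map (ψ.right.map t) := ψ.squareRight.iso.hom.naturality t
  apply ψ.base.map_injective
  apply (cancel_epi (ψ.squareLeft.iso.inv.app x.fst)).1
  apply (cancel_mono (ψ.squareRight.iso.hom.app y.snd)).1
  simp only [Functor.map_comp, Category.assoc]
  rw [n₂]
  exact ((reassoc_of% n₁) _).symm.trans (h.trans (by simp only [Category.assoc]))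

theorem cpm_isEquivalence [ψ.left.IsEquivalence] [ψ.right.IsEquivalence] [ψ.base.Full] [ψ.base.Faithful] :
    (FibCat.categoricalPullbackMap ψ).IsEquivalence := by
  have := cpm_faithful ψ
  have := cpm_full ψ
  have : (FibCat.categoricalPullbackMap ψ).EssSurj := by
    refine ⟨fun z => ?_⟩
    let a := ψ.left.objObjPreimageIso z.fst
    let b := ψ.right.objObjPreimageIso z.snd
    let θ : H.obj (ψ.left.objPreimage z.fst) ≅ I.obj (ψ.right.objPreimage z.snd) :=
      ψ.base.preimageIso (ψ.squareLeft.iso.app _ ≪≫ F.mapIso a ≪≫ z.iso ≪≫ G.mapIso b.symm ≪≫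
        (ψ.squareRight.iso.app _).symm)
    let x : CategoricalPullback H I := ⟨_, _, θ⟩
    refine ⟨x, ⟨CategoricalPullback.mkIso a b ?_⟩⟩
    rw [cpm_iso ψ x]
    show F.map a.hom ≫ z.iso.hom = (ψ.squareLeft.iso.inv.app (ψ.left.objPreimage z.fst) ≫ ψ.base.map θ.hom ≫
      ψ.squareRight.iso.hom.app (ψ.right.objPreimage z.snd)) ≫ G.map b.hom
    simp [θ, ← G.map_comp]
  exact { }

end Map

section Pasting

variable {A B A' B' A'' B'' : Type u} [Category.{v} A] [Category.{v} B] [Category.{v} A'] [Category.{v} B']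
  [Category.{v} A''] [Category.{v} B'']
  (t : A ⥤ B) (l : A ⥤ A') (r : B ⥤ B') (t' : A' ⥤ B') (l' : A' ⥤ A'') (r' : B' ⥤ B'') (t'' : A'' ⥤ B'')
  (e₁ : t ⋙ r ≅ l ⋙ t') (e₂ : t' ⋙ r' ≅ l' ⋙ t'')

/-- Composition with the lower square. -/
def pasteMap : CategoricalPullback r t' ⥤ CategoricalPullback (r ⋙ r') t'' where
  obj x := ⟨x.fst, l'.obj x.snd, r'.mapIso x.iso ≪≫ e₂.app x.snd⟩
  map {x y} f :=
    { fst := f.fst
      snd := l'.map f.snd
      w := by
        have n : r'.map (t'.map f.snd) ≫ e₂.hom.app y.snd = e₂.hom.app x.snd ≫ t''.map (l'.map f.snd) :=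
          e₂.hom.naturality f.snd
        show r'.map (r.map f.fst) ≫ r'.map y.iso.hom ≫ e₂.hom.app y.snd =
          (r'.map x.iso.hom ≫ e₂.hom.app x.snd) ≫ t''.map (l'.map f.snd)
        rw [← r'.map_comp_assoc, f.w, r'.map_comp, Category.assoc, Category.assoc, n] }
  map_id x := CategoricalPullback.hom_ext rfl (l'.map_id _)
  map_comp f g := CategoricalPullback.hom_ext rfl (l'.map_comp _ _)

theorem pasteMap_isEquivalence (h₂ : FibCat.IsTwoCart t' l' r' t'' e₂) :
    (pasteMap r t' l' r' t'' e₂).IsEquivalence := by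
  let Q := (CategoricalPullback.CatCommSqOver.toFunctorToCategoricalPullback r' t'' A').obj ⟨t', l', e₂⟩
  have : Q.IsEquivalence := h₂
  have : (pasteMap r t' l' r' t'' e₂).Faithful := by
    refine ⟨fun {x y} f g h => ?_⟩
    have h1 : f.fst = g.fst := congrArg (fun k => k.fst) h
    have h2 : l'.map f.snd = l'.map g.snd := congrArg (fun k => k.snd) h
    refine CategoricalPullback.hom_ext h1 (Q.map_injective (CategoricalPullback.hom_ext ?_ h2))
    show t'.map f.snd = t'.map g.snd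
    apply (cancel_epi x.iso.hom).1
    rw [← f.w, ← g.w, h1]
  have : (pasteMap r t' l' r' t'' e₂).Full := by
    refine ⟨fun {x y} θ => ?_⟩
    let s : x.fst ⟶ y.fst := θ.fst
    let w : l'.obj x.snd ⟶ l'.obj y.snd := θ.snd
    have hw : r'.map (r.map s) ≫ r'.map y.iso.hom ≫ e₂.hom.app y.snd =
        (r'.map x.iso.hom ≫ e₂.hom.app x.snd) ≫ t''.map w := θ.w
    let q : Q.obj x.snd ⟶ Q.obj y.snd :=
      { fst := x.iso.inv ≫ r.map s ≫ y.iso.hom
        snd := w
        w := by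
          show r'.map (x.iso.inv ≫ r.map s ≫ y.iso.hom) ≫ e₂.hom.app y.snd = e₂.hom.app x.snd ≫ t''.map w
          rw [r'.map_comp, r'.map_comp, Category.assoc, Category.assoc, hw]
          simp }
    obtain ⟨f, hf⟩ := Q.map_surjective q
    have hf1 : t'.map f = x.iso.inv ≫ r.map s ≫ y.iso.hom := congrArg (fun k => k.fst) hf
    have hf2 : l'.map f = w := congrArg (fun k => k.snd) hf
    exact ⟨⟨s, f, by rw [hf1, Iso.hom_inv_id_assoc]⟩, CategoricalPullback.hom_ext rfl hf2⟩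
  have : (pasteMap r t' l' r' t'' e₂).EssSurj := by
    refine ⟨fun z => ?_⟩
    let w : CategoricalPullback r' t'' := ⟨r.obj z.fst, z.snd, z.iso⟩
    let i := Q.objObjPreimageIso w
    let θ : t'.obj (Q.objPreimage w) ≅ r.obj z.fst := (CategoricalPullback.π₁ r' t'').mapIso i
    let ν : l'.obj (Q.objPreimage w) ≅ z.snd := (CategoricalPullback.π₂ r' t'').mapIso i
    have hi : r'.map θ.hom ≫ z.iso.hom = e₂.hom.app _ ≫ t''.map ν.hom := i.hom.w
    refine ⟨⟨z.fst, Q.objPreimage w, θ.symm⟩, ⟨CategoricalPullback.mkIso (Iso.refl _) ν ?_⟩⟩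
    show r'.map (r.map (𝟙 z.fst)) ≫ z.iso.hom = (r'.map θ.inv ≫ e₂.hom.app _) ≫ t''.map ν.hom
    rw [Category.assoc, ← hi]
    simp [← r'.map_comp_assoc]
  exact { }

theorem isTwoCart_paste (h₂ : FibCat.IsTwoCart t' l' r' t'' e₂) :
    FibCat.IsTwoCart t l r t' e₁ ↔
      FibCat.IsTwoCart t (l ⋙ l') (r ⋙ r') t''
        ((Functor.associator t r r').symm ≪≫ isoWhiskerRight e₁ r' ≪≫ Functor.associator l t' r' ≪≫
          isoWhiskerLeft l e₂ ≪≫ (Functor.associator l l' t'').symm) := by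
  have := pasteMap_isEquivalence r t' l' r' t'' e₂ h₂
  unfold FibCat.IsTwoCart
  let U := (CategoricalPullback.CatCommSqOver.toFunctorToCategoricalPullback r t' A).obj ⟨t, l, e₁⟩
  let O := (CategoricalPullback.CatCommSqOver.toFunctorToCategoricalPullback (r ⋙ r') t'' A).obj
    ⟨t, l ⋙ l', (Functor.associator t r r').symm ≪≫ isoWhiskerRight e₁ r' ≪≫ Functor.associator l t' r' ≪≫
          isoWhiskerLeft l e₂ ≪≫ (Functor.associator l l' t'').symm⟩
  let i : U ⋙ pasteMap r t' l' r' t'' e₂ ≅ O := NatIso.ofComponents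
    (fun a => CategoricalPullback.mkIso (Iso.refl _) (Iso.refl _) (by
      show r'.map (r.map (𝟙 (t.obj a))) ≫ ((Functor.associator t r r').symm ≪≫ isoWhiskerRight e₁ r' ≪≫
          Functor.associator l t' r' ≪≫ isoWhiskerLeft l e₂ ≪≫ (Functor.associator l l' t'').symm).hom.app a =
        (r'.map (e₁.hom.app a) ≫ e₂.hom.app (l.obj a)) ≫ t''.map (𝟙 (l'.obj (l.obj a)))
      simp))
    (fun {a b} f => CategoricalPullback.hom_ext
      (show t.map f ≫ 𝟙 _ = 𝟙 _ ≫ t.map f by simp)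
      (show l'.map (l.map f) ≫ 𝟙 _ = 𝟙 _ ≫ l'.map (l.map f) by simp))
  show U.IsEquivalence ↔ O.IsEquivalence
  constructor
  · intro _
    exact Functor.isEquivalence_of_iso i
  · intro _
    have : (U ⋙ pasteMap r t' l' r' t'' e₂).IsEquivalence := Functor.isEquivalence_of_iso i.symm
    exact Functor.isEquivalence_of_comp_right U (pasteMap r t' l' r' t'' e₂)

end Pasting

section Assoc

variable {A B C D E : Type u} [Category.{v} A] [Category.{v} B] [Category.{v} C] [Category.{v} D]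
  [Category.{v} E] (F : A ⥤ B) (G : C ⥤ B) (H : C ⥤ D) (K : E ⥤ D)

/-- Reassociation, forwards. -/
def assocHom : CategoricalPullback (CategoricalPullback.π₂ F G ⋙ H) K ⥤
    CategoricalPullback F (CategoricalPullback.π₁ H K ⋙ G) where
  obj x := ⟨x.fst.fst, ⟨x.fst.snd, x.snd, x.iso⟩, x.fst.iso⟩
  map {x y} f := { fst := f.fst.fst, snd := ⟨f.fst.snd, f.snd, f.w⟩, w := f.fst.w }

/-- Reassociation, backwards. -/
def assocInv : CategoricalPullback F (CategoricalPullback.π₁ H K ⋙ G) ⥤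
    CategoricalPullback (CategoricalPullback.π₂ F G ⋙ H) K where
  obj x := ⟨⟨x.fst, x.snd.fst, x.iso⟩, x.snd.snd, x.snd.iso⟩
  map {x y} f := { fst := ⟨f.fst, f.snd.fst, f.w⟩, snd := f.snd.snd, w := f.snd.w }

theorem exists_assoc : ∃ e : CategoricalPullback (CategoricalPullback.π₂ F G ⋙ H) K ≌
      CategoricalPullback F (CategoricalPullback.π₁ H K ⋙ G),
      e.functor ⋙ e.inverse = 𝟭 _ ∧ e.inverse ⋙ e.functor = 𝟭 _ ∧
      ∀ x, (e.functor.obj x).fst = x.fst.fst ∧ (e.functor.obj x).snd.fst = x.fst.snd ∧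
        (e.functor.obj x).snd.snd = x.snd := by
  have h1 : assocHom F G H K ⋙ assocInv F G H K = 𝟭 _ := rfl
  have h2 : assocInv F G H K ⋙ assocHom F G H K = 𝟭 _ := rfl
  exact ⟨CategoryTheory.Equivalence.mk (assocHom F G H K) (assocInv F G H K) (eqToIso h1.symm) (eqToIso h2),
    h1, h2, fun x => ⟨rfl, rfl, rfl⟩⟩

end Assoc

end Groth.Agent.FibBasics
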