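import Groth.Agent.FibBasics.Basic
import Groth.Prelude.Def_FibClv

/-!
Cleavages, cofibred categories, wide subcategory of cartesian morphisms.
-/

set_option autoImplicit false

universe v₃ u₃ v₂ u₂ v u

open CategoryTheory CategoryTheory.Functor

namespace Groth.Agent.FibBasics

variable {𝒮 : Type u} [Category.{v} 𝒮] {𝒳 : Type u₂} [Category.{v₂} 𝒳] {p : 𝒳 ⥤ 𝒮}

theorem cartesian_comp_of {R S T : 𝒮} {a b c b₀ a₀ : 𝒳} (f : R ⟶ S) (g : S ⟶ T) (φ : a ⟶ b) (ψ : b ⟶ c)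
    [p.IsCartesian f φ] [p.IsCartesian g ψ] (L₂ : a₀ ⟶ b₀) (L₁ : b₀ ⟶ c) [p.IsCartesian f L₂]
    [p.IsCartesian g L₁] [p.IsCartesian (f ≫ g) (L₂ ≫ L₁)] : p.IsCartesian (f ≫ g) (φ ≫ ψ) := by
  let τ := IsCartesian.domainUniqueUpToIso p g L₁ ψ
  have hτ : τ.hom ≫ L₁ = ψ := IsCartesian.fac p g L₁ ψ
  have := IsCartesian.of_comp_iso p f φ τ
  let σ := IsCartesian.domainUniqueUpToIso p f L₂ (φ ≫ τ.hom)
  have hσ : σ.hom ≫ L₂ = φ ≫ τ.hom := IsCartesian.fac p f L₂ _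
  have h := IsCartesian.of_iso_comp p (f ≫ g) (L₂ ≫ L₁) σ
  rwa [← Category.assoc, hσ, Category.assoc, hτ] at h

/-- The component of the comparison morphism, on underlying objects. -/
noncomputable def cc (K : FibCat.Cleavage p) {R S T : 𝒮} {a : 𝒳} (ha : p.obj a = S) (f : T ⟶ S) (g : R ⟶ T) :
    K.obj (K.obj_proj ha f) g ⟶ K.obj ha (g ≫ f) :=
  IsCartesian.map p (g ≫ f) (K.lift ha (g ≫ f)) (K.lift (K.obj_proj ha f) g ≫ K.lift ha f)

theorem cc_lift (K : FibCat.Cleavage p) {R S T : 𝒮} {a : 𝒳} (ha : p.obj a = S) (f : T ⟶ S) (g : R ⟶ T) :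
    p.IsHomLift (𝟙 R) (cc K ha f g) :=
  IsCartesian.map_isHomLift p (g ≫ f) (K.lift ha (g ≫ f)) _

theorem cc_comp (K : FibCat.Cleavage p) {R S T : 𝒮} {a : 𝒳} (ha : p.obj a = S) (f : T ⟶ S) (g : R ⟶ T) :
    cc K ha f g ≫ K.lift ha (g ≫ f) = K.lift (K.obj_proj ha f) g ≫ K.lift ha f :=
  IsCartesian.fac p (g ≫ f) (K.lift ha (g ≫ f)) _

theorem cc_eq (K : FibCat.Cleavage p) {R S T : 𝒮} (f : T ⟶ S) (g : R ⟶ T) (a : p.Fiber S) :
    ((K.comp f g).app a).1 = cc K a.2 f g := rfl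

theorem isFibered_iff_comp_isIso (K : FibCat.Cleavage p) :
    p.IsFibered ↔ ∀ (R S T : 𝒮) (f : T ⟶ S) (g : R ⟶ T), IsIso (K.comp f g) := by
  constructor
  · intro _ R S T f g
    have : ∀ a, IsIso ((K.comp f g).app a) := fun a => by
      apply isIso_fiber_hom p
      rw [FibCat.Cleavage.comp_app]
      exact (IsCartesian.domainUniqueUpToIso p (g ≫ f) (K.lift a.2 (g ≫ f))
        (K.lift (K.obj_proj a.2 f) g ≫ K.lift a.2 f)).isIso_hom
    exact NatIso.isIso_of_isIso_app _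
  · intro h
    have := K.isPreFibered
    refine { comp := fun {R S T} f g {a b c} φ ψ _ _ => ?_ }
    have hc : p.obj c = T := IsHomLift.codomain_eq p g ψ
    have hi : IsIso ((K.comp g f).app ⟨c, hc⟩) := by
      have := h R T S g f
      exact ((asIso (K.comp g f)).app ⟨c, hc⟩).isIso_hom
    have hi' : IsIso (cc K hc g f) :=
      (inferInstance : IsIso (Fiber.fiberInclusion.map ((K.comp g f).app ⟨c, hc⟩)))
    have : p.IsHomLift (𝟙 R) (asIso (cc K hc g f)).hom := cc_lift K hc g f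
    have h1 := IsCartesian.of_iso_comp p (f ≫ g) (K.lift hc (f ≫ g)) (asIso (cc K hc g f))
    rw [asIso_hom, cc_comp] at h1
    exact cartesian_comp_of f g φ ψ (K.lift (K.obj_proj hc g) f) (K.lift hc g)

theorem inverseImage_isEquivalence [p.IsFibered] (K : FibCat.Cleavage p) {S T : 𝒮} (f : T ⟶ S) [IsIso f] :
    (K.inverseImage f).IsEquivalence := by
  have hi : ∀ (a : p.Fiber S), IsIso (K.lift a.2 f) := fun a =>
    IsStronglyCartesian.isIso_of_base_isIso p f (K.lift a.2 f)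
  have : (K.inverseImage f).Faithful := ⟨fun {a b} φ ψ h => by
    have h' := congrArg (fun k => Fiber.fiberInclusion.map k ≫ K.lift b.2 f) h
    simp only [FibCat.Cleavage.inverseImage_map] at h'
    let φ' : a.1 ⟶ b.1 := φ.1
    let ψ' : a.1 ⟶ b.1 := ψ.1
    have : p.IsHomLift (𝟙 S) φ' := φ.2
    have : p.IsHomLift (𝟙 S) ψ' := ψ.2
    have e : K.lift a.2 f ≫ φ' = K.lift a.2 f ≫ ψ' :=
      (IsCartesian.fac p f (K.lift b.2 f) (K.lift a.2 f ≫ φ')).symm.trans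
        (h'.trans (IsCartesian.fac p f (K.lift b.2 f) (K.lift a.2 f ≫ ψ')))
    have := hi a
    exact Subtype.ext ((cancel_epi (K.lift a.2 f)).1 e)⟩
  have : (K.inverseImage f).Full := ⟨fun {a b} θ => by
    have := hi a
    let t : K.obj a.2 f ⟶ K.obj b.2 f := θ.1
    have : p.IsHomLift (𝟙 T) t := θ.2
    let m : a.1 ⟶ b.1 := CategoryTheory.inv (K.lift a.2 f) ≫ t ≫ K.lift b.2 f
    have hm : p.IsHomLift (𝟙 S) m := by
      have := IsHomLift.inv p f (K.lift a.2 f)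
      have h := (inferInstance : p.IsHomLift (CategoryTheory.inv f ≫ 𝟙 T ≫ f) m)
      simpa using h
    refine ⟨⟨m, hm⟩, Fiber.hom_ext ?_⟩
    rw [FibCat.Cleavage.inverseImage_map]
    refine (IsCartesian.map_uniq p f (K.lift b.2 f) _ t ?_).symm
    show t ≫ K.lift b.2 f = K.lift a.2 f ≫ m
    simp [m]⟩
  have : (K.inverseImage f).EssSurj := ⟨fun b => by
    let a : p.Fiber S := ⟨K.obj b.2 (CategoryTheory.inv f), K.obj_proj b.2 _⟩
    have := hi a
    have : IsIso (K.lift b.2 (CategoryTheory.inv f)) :=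
      IsStronglyCartesian.isIso_of_base_isIso p (CategoryTheory.inv f) _
    let h : K.obj a.2 f ⟶ b.1 := K.lift a.2 f ≫ K.lift b.2 (CategoryTheory.inv f)
    have hh : p.IsHomLift (𝟙 T) h := by
      have hx := (inferInstance : p.IsHomLift (f ≫ CategoryTheory.inv f)
        (K.lift a.2 f ≫ K.lift b.2 (CategoryTheory.inv f)))
      simpa using hx
    let H : (K.inverseImage f).obj a ⟶ b := ⟨h, hh⟩
    have : IsIso H := isIso_fiber_hom p H (inferInstanceAs (IsIso (K.lift a.2 f ≫ K.lift b.2 (CategoryTheory.inv f))))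
    exact ⟨a, ⟨asIso H⟩⟩⟩
  exact { }

theorem congr_app_comp (K : FibCat.Cleavage p) {R S : 𝒮} {f f' : R ⟶ S} (h : f = f') (a : p.Fiber S)
    (m : K.obj a.2 f ⟶ K.obj a.2 f') (hm : ((K.inverseImageCongr h).hom.app a).1 = m) :
    m ≫ K.lift a.2 f' = K.lift a.2 f := by
  subst h
  subst hm
  exact Category.id_comp _

theorem comp_id_left (K : FibCat.Cleavage p) {S T : 𝒮} (f : T ⟶ S) (a : p.Fiber S) :
    Fiber.fiberInclusion.map ((K.comp f (𝟙 T)).app a ≫ (K.inverseImageCongr (Category.id_comp f)).hom.app a) =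
      (K.transport (𝟙 T)).app ((K.inverseImage f).obj a) := by
  let m : K.obj a.2 (𝟙 T ≫ f) ⟶ K.obj a.2 f := ((K.inverseImageCongr (Category.id_comp f)).hom.app a).1
  show cc K a.2 f (𝟙 T) ≫ m = K.lift (K.obj_proj a.2 f) (𝟙 T)
  have h1 := congr_app_comp K (Category.id_comp f) a m rfl
  have : p.IsHomLift (𝟙 T) (cc K a.2 f (𝟙 T) ≫ m) :=
    ((K.comp f (𝟙 T)).app a ≫ (K.inverseImageCongr (Category.id_comp f)).hom.app a).2
  apply IsCartesian.ext p f (K.lift a.2 f)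
  rw [Category.assoc, h1, cc_comp]

theorem comp_id_right (K : FibCat.Cleavage p) {S T : 𝒮} (f : T ⟶ S) (a : p.Fiber S) :
    (K.comp (𝟙 S) f).app a ≫ (K.inverseImageCongr (Category.comp_id f)).hom.app a =
      (K.inverseImage f).map (Fiber.homMk p S (K.lift a.2 (𝟙 S))) := by
  let m : K.obj a.2 (f ≫ 𝟙 S) ⟶ K.obj a.2 f := ((K.inverseImageCongr (Category.comp_id f)).hom.app a).1
  have h1 := congr_app_comp K (Category.comp_id f) a m rfl
  let r : K.obj (K.obj_proj a.2 (𝟙 S)) f ⟶ K.obj a.2 f :=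
    IsCartesian.map p f (K.lift a.2 f) (K.lift (K.obj_proj a.2 (𝟙 S)) f ≫ K.lift a.2 (𝟙 S))
  apply Fiber.hom_ext
  show cc K a.2 (𝟙 S) f ≫ m = r
  have : p.IsHomLift (𝟙 T) (cc K a.2 (𝟙 S) f ≫ m) :=
    ((K.comp (𝟙 S) f).app a ≫ (K.inverseImageCongr (Category.comp_id f)).hom.app a).2
  apply IsCartesian.ext p f (K.lift a.2 f)
  rw [Category.assoc, h1, cc_comp]
  exact (IsCartesian.fac p f (K.lift a.2 f) _).symm

theorem comp_assoc (K : FibCat.Cleavage p) {S T U V : 𝒮} (f : T ⟶ S) (g : U ⟶ T) (h : V ⟶ U) :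
    Functor.whiskerLeft (K.inverseImage f) (K.comp g h) ≫ K.comp f (h ≫ g) ≫
        (K.inverseImageCongr (Category.assoc h g f)).hom =
      Functor.whiskerRight (K.comp f g) (K.inverseImage h) ≫ K.comp (g ≫ f) h := by
  apply NatTrans.ext
  funext a
  apply Fiber.hom_ext
  let m : K.obj a.2 ((h ≫ g) ≫ f) ⟶ K.obj a.2 (h ≫ g ≫ f) :=
    ((K.inverseImageCongr (Category.assoc h g f)).hom.app a).1
  have h1 := congr_app_comp K (Category.assoc h g f) a m rfl
  have := cc_lift K a.2 f g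
  let r : K.obj (K.obj_proj (K.obj_proj a.2 f) g) h ⟶ K.obj (K.obj_proj a.2 (g ≫ f)) h :=
    IsCartesian.map p h (K.lift (K.obj_proj a.2 (g ≫ f)) h)
      (K.lift (K.obj_proj (K.obj_proj a.2 f) g) h ≫ cc K a.2 f g)
  have hr : r ≫ K.lift (K.obj_proj a.2 (g ≫ f)) h =
      K.lift (K.obj_proj (K.obj_proj a.2 f) g) h ≫ cc K a.2 f g := IsCartesian.fac p h _ _
  show cc K (K.obj_proj a.2 f) g h ≫ cc K a.2 f (h ≫ g) ≫ m = r ≫ cc K a.2 (g ≫ f) h
  have : p.IsHomLift (𝟙 V) (cc K (K.obj_proj a.2 f) g h ≫ cc K a.2 f (h ≫ g) ≫ m) :=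
    ((K.comp g h).app ((K.inverseImage f).obj a) ≫ (K.comp f (h ≫ g)).app a ≫
      (K.inverseImageCongr (Category.assoc h g f)).hom.app a).2
  have : p.IsHomLift (𝟙 V) (r ≫ cc K a.2 (g ≫ f) h) := by
    have := cc_lift K a.2 (g ≫ f) h
    have hh := (inferInstance : p.IsHomLift (𝟙 V ≫ 𝟙 V) (r ≫ cc K a.2 (g ≫ f) h))
    simpa using hh
  apply IsCartesian.ext p (h ≫ g ≫ f) (K.lift a.2 (h ≫ g ≫ f))
  rw [Category.assoc, Category.assoc, h1, cc_comp, ← Category.assoc, cc_comp, Category.assoc,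
    Category.assoc, cc_comp, ← Category.assoc r, hr, Category.assoc, cc_comp]

theorem existsUnique_glue (K : FibCat.Cleavage p) {C : Type u₃} [Category.{v₃} C] (F G : 𝒳 ⥤ C)
    (u : ∀ S : 𝒮, (Fiber.fiberInclusion ⋙ F : p.Fiber S ⥤ C) ⟶ Fiber.fiberInclusion ⋙ G)
    (hu : ∀ ⦃T S : 𝒮⦄ (f : T ⟶ S) (a : p.Fiber S),
      F.map ((K.transport f).app a) ≫ (u S).app a =
        (u T).app ((K.inverseImage f).obj a) ≫ G.map ((K.transport f).app a)) :
    ∃! v : F ⟶ G, ∀ (S : 𝒮) (a : p.Fiber S), v.app a.1 = (u S).app a := by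
  let v : F ⟶ G :=
    { app := fun x => (u (p.obj x)).app ⟨x, rfl⟩
      naturality := fun x y φ => by
        let X : p.Fiber (p.obj x) := ⟨x, rfl⟩
        let Y : p.Fiber (p.obj y) := ⟨y, rfl⟩
        let L : K.obj Y.2 (p.map φ) ⟶ y := K.lift Y.2 (p.map φ)
        have : p.IsCartesian (p.map φ) L := K.isCartesian Y.2 (p.map φ)
        have : p.IsHomLift (p.map φ) φ := IsHomLift.map p φ
        let t : X ⟶ (K.inverseImage (p.map φ)).obj Y :=
          ⟨IsCartesian.map p (p.map φ) L φ, IsCartesian.map_isHomLift p (p.map φ) L φ⟩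
        have ht : t.1 ≫ L = φ := IsCartesian.fac p (p.map φ) L φ
        let ux : F.obj x ⟶ G.obj x := (u (p.obj x)).app X
        let uy : F.obj y ⟶ G.obj y := (u (p.obj y)).app Y
        let uz : F.obj (K.obj Y.2 (p.map φ)) ⟶ G.obj (K.obj Y.2 (p.map φ)) :=
          (u (p.obj x)).app ((K.inverseImage (p.map φ)).obj Y)
        let t' : x ⟶ K.obj Y.2 (p.map φ) := t.1
        have hn : F.map t' ≫ uz = ux ≫ G.map t' := (u (p.obj x)).naturality t
        have hc : F.map L ≫ uy = uz ≫ G.map L := hu (p.map φ) Y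
        have ht' : t' ≫ L = φ := ht
        show F.map φ ≫ uy = ux ≫ G.map φ
        rw [← ht', F.map_comp, G.map_comp, Category.assoc, hc, ← Category.assoc, hn, Category.assoc] }
  refine ⟨v, fun S a => ?_, fun w hw => ?_⟩
  · obtain ⟨a, rfl⟩ := a
    rfl
  · apply NatTrans.ext
    funext x
    exact hw (p.obj x) ⟨x, rfl⟩

theorem exists_normalised [p.IsPreFibered] : ∃ K : FibCat.Cleavage p, K.IsNormalised := by
  have H : ∀ {R S : 𝒮} {a : 𝒳} (_ : p.obj a = S) (f : R ⟶ S), ∃ (b : 𝒳) (φ : b ⟶ a),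
      p.IsCartesian f φ ∧ ∀ e : R = S, f = eqToHom e → ∃ h : b = a, φ = eqToHom h := by
    intro R S a ha f
    by_cases h : ∃ e : R = S, f = eqToHom e
    · obtain ⟨e, rfl⟩ := h
      subst e
      have : p.IsHomLift (𝟙 R) (𝟙 a) := IsHomLift.id ha
      exact ⟨a, 𝟙 a, by rw [eqToHom_refl]; infer_instance, fun _ _ => ⟨rfl, rfl⟩⟩
    · obtain ⟨b, φ, hφ⟩ := IsPreFibered.exists_isCartesian p ha f
      exact ⟨b, φ, hφ, fun e he => absurd ⟨e, he⟩ h⟩
  choose b φ hφ hn using @H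
  exact ⟨⟨fun ha f => b ha f, fun ha f => φ ha f, fun ha f => hφ ha f⟩,
    fun S a ha => hn ha (𝟙 S) rfl (eqToHom_refl S rfl).symm⟩

theorem isFibGrpd_cartSub (p : 𝒳 ⥤ 𝒮) [p.IsFibered] : FibCat.IsFibGrpd (FibCat.cartSubProj p) := by
  refine isFibGrpd_of_lifts _ (fun x V f => ?_) (fun R S f y x φ hφ => ?_)
  · obtain ⟨b, φ, hφ⟩ := exists_stronglyCartesian p (rfl : p.obj x.obj = _) f
    have : p.IsHomLift f φ := hφ.toIsHomLift
    let ψ : (⟨b⟩ : FibCat.cartSub p) ⟶ x := ⟨φ, (isStronglyCartesian_map_iff_lift p f φ).1 hφ⟩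
    exact ⟨⟨b⟩, ψ, (isHomLift_comp_iff (wideSubcategoryInclusion (FibCat.cartMor p)) p f ψ).2
      (inferInstanceAs (p.IsHomLift f φ))⟩
  · have hl : p.IsHomLift f φ.1 :=
      (isHomLift_comp_iff (wideSubcategoryInclusion (FibCat.cartMor p)) p f φ).1 hφ
    have hsc : p.IsStronglyCartesian f φ.1 := (isStronglyCartesian_map_iff_lift p f φ.1).2 φ.2
    exact
    { toIsHomLift := hφ
      universal_property' := fun {z} g ψ hψ => by
        have hψl : p.IsHomLift (g ≫ f) ψ.1 :=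
          (isHomLift_comp_iff (wideSubcategoryInclusion (FibCat.cartMor p)) p _ ψ).1 hψ
        let χ := IsStronglyCartesian.map p f φ.1 (g := g) rfl ψ.1
        have hc : χ ≫ φ.1 = ψ.1 := IsStronglyCartesian.fac p f φ.1 rfl ψ.1
        have hψc : p.IsStronglyCartesian (g ≫ f) ψ.1 := (isStronglyCartesian_map_iff_lift p _ ψ.1).2 ψ.2
        have : p.IsStronglyCartesian (g ≫ f) (χ ≫ φ.1) := hc ▸ hψc
        have hχ : p.IsStronglyCartesian g χ := IsStronglyCartesian.of_comp (p := p) (f := g) (g := f) (ψ := φ.1)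
        let χ' : z ⟶ y := ⟨χ, (isStronglyCartesian_map_iff_lift p g χ).1 hχ⟩
        refine ⟨χ', ⟨(isHomLift_comp_iff (wideSubcategoryInclusion (FibCat.cartMor p)) p g χ').2
          (inferInstanceAs (p.IsHomLift g χ)), WideSubcategory.hom_ext _ hc⟩, ?_⟩
        rintro τ ⟨hτ, hτc⟩
        have : p.IsHomLift g τ.1 :=
          (isHomLift_comp_iff (wideSubcategoryInclusion (FibCat.cartMor p)) p g τ).1 hτ
        exact WideSubcategory.hom_ext _
          (IsStronglyCartesian.map_uniq p f φ.1 rfl ψ.1 τ.1 (by rw [← hτc]; rfl)) }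

end Groth.Agent.FibBasics
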