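import Groth.Prelude.Def_AlgSt
import Groth.Prelude.Def_W4c2modmodulilectNerve
import Groth.Agent.FibBasics.Basic
import Mathlib.CategoryTheory.Adjunction.Comma
import Mathlib.CategoryTheory.Category.ULift

/-!
Sections of a category fibred in groupoids over a diagram with simply connected comma categories.
-/

set_option autoImplicit false

universe w v₃ u₃ v₂ u₂ v₁ u₁

open CategoryTheory CategoryTheory.Functor
open W4c2modmodulilect

namespace Groth.Agent.FibBasics

section Contractible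

variable {C : Type u₁} [Category.{v₁} C]

/-- The property used: constant functors to a groupoid give an equivalence. -/
def SimplyConn (C : Type u₁) [Category.{v₁} C] (A : Type u₂) [Category.{v₂} A] : Prop :=
  Nonempty C ∧ (Functor.const C : A ⥤ C ⥤ A).IsEquivalence

theorem simplyConn_of_hasContractibleNerve
    (h : HasContractibleNerve.{max w v₂ u₂, max w v₂ u₂} C) (A : Type u₂) [Category.{v₂} A] [IsGroupoid A] :
    SimplyConn C A := by
  refine ⟨h.1, ?_⟩
  let e : A ≌ AsSmall.{max w v₂ u₂} A := AsSmall.equiv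
  have : IsGroupoid (AsSmall.{max w v₂ u₂} A) := ⟨fun {X Y} f => by
    have : IsIso (e.inverse.map f) := IsGroupoid.all_isIso _
    exact isIso_of_fully_faithful e.inverse f⟩
  letI : Groupoid.{max w v₂ u₂} (AsSmall.{max w v₂ u₂} A) := Groupoid.ofIsGroupoid
  have := h.2 (AsSmall.{max w v₂ u₂} A)
  have : ((Functor.const C : A ⥤ C ⥤ A) ⋙ (e.congrRight (E := C)).functor).IsEquivalence :=
    isEquivalence_of_iso (NatIso.ofComponents (fun a => NatIso.ofComponents (fun c => Iso.refl _)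
      (fun {c c'} k => by
        exact (Category.comp_id _).trans ((e.functor.map_id a).symm.trans (Category.id_comp _).symm)))
      (fun {a b} f => by
        ext c
        exact (Category.comp_id _).trans (Category.id_comp _).symm) :
      e.functor ⋙ (Functor.const C : AsSmall.{max w v₂ u₂} A ⥤ C ⥤ AsSmall.{max w v₂ u₂} A) ≅ _)
  exact isEquivalence_of_comp_right _ (e.congrRight (E := C)).functor

theorem eq_of_simplyConn {S : Type u₂} (h : SimplyConn C (Discrete S)) (f : C → S)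
    (hf : ∀ {a b : C}, (a ⟶ b) → f a = f b) (a b : C) : f a = f b := by
  let F : C ⥤ Discrete S := { obj := fun c => ⟨f c⟩, map := fun k => Discrete.eqToHom (hf k) }
  have := h.2
  let e := (Functor.const C : Discrete S ⥤ C ⥤ Discrete S).objObjPreimageIso F
  exact (Discrete.eq_of_hom (e.app a).hom).symm.trans (Discrete.eq_of_hom (e.app b).hom)

theorem simplyConn_of_adjunction {D : Type u₃} [Category.{v₃} D] {L : C ⥤ D} {R : D ⥤ C} (adj : L ⊣ R)
    {A : Type u₂} [Category.{v₂} A] [IsGroupoid A] (h : SimplyConn C A) : SimplyConn D A := by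
  obtain ⟨⟨c⟩, hc⟩ := h
  refine ⟨⟨L.obj c⟩, ?_⟩
  have : ((whiskeringLeft C D A).obj L).IsEquivalence := by
    let e : (D ⥤ A) ≌ (C ⥤ A) := CategoryTheory.Equivalence.mk
      ((whiskeringLeft C D A).obj L) ((whiskeringLeft D C A).obj R)
      (NatIso.ofComponents (fun F => NatIso.ofComponents (fun d => (asIso (F.map (adj.counit.app d))).symm)
        (fun {d d'} k => by
          show F.map k ≫ CategoryTheory.inv (F.map (adj.counit.app d')) =
            CategoryTheory.inv (F.map (adj.counit.app d)) ≫ F.map (L.map (R.map k))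
          rw [IsIso.comp_inv_eq, Category.assoc, IsIso.eq_inv_comp]
          exact (F.map_comp _ _).symm.trans ((congrArg F.map (adj.counit_naturality k).symm).trans (F.map_comp _ _))))
        (fun {F G} α => by
          ext d
          simp only [NatTrans.comp_app, NatIso.ofComponents_hom_app, Iso.symm_hom, asIso_inv,
            IsIso.eq_inv_comp]
          simp [whiskeringLeft]))
      (NatIso.ofComponents (fun F => NatIso.ofComponents (fun c => (asIso (F.map (adj.unit.app c))).symm)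
        (fun {c c'} k => by
          show F.map (R.map (L.map k)) ≫ CategoryTheory.inv (F.map (adj.unit.app c')) =
            CategoryTheory.inv (F.map (adj.unit.app c)) ≫ F.map k
          rw [IsIso.comp_inv_eq, Category.assoc, IsIso.eq_inv_comp]
          exact (F.map_comp _ _).symm.trans ((congrArg F.map (adj.unit_naturality k)).trans (F.map_comp _ _))))
        (fun {F G} α => by
          ext d
          simp [whiskeringLeft]))
    exact e.isEquivalence_functor
  have : ((Functor.const D : A ⥤ D ⥤ A) ⋙ (whiskeringLeft C D A).obj L).IsEquivalence :=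
    isEquivalence_of_iso (NatIso.ofComponents (fun a => NatIso.ofComponents (fun c => Iso.refl _)
      (fun {c c'} k => rfl)) (fun {a b} f => by
        ext c; exact (Category.comp_id _).trans (Category.id_comp _).symm) :
      (Functor.const C : A ⥤ C ⥤ A) ≅ _)
  exact isEquivalence_of_comp_right _ ((whiskeringLeft C D A).obj L)

end Contractible

section Sections

variable {C : Type u₁} [Category.{v₁} C] {D : Type u₂} [Category.{v₂} D] {F : Type u₃} [Category.{v₃} F]
  (φ : C ⥤ D) (p : F ⥤ D)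

/-- Sections over the base. -/
abbrev Sect := FibCat.selfOver D ⥤ᵇ BasedCategory.ofFunctor p

theorem sect_lift {p : F ⥤ D} (s : Sect p) {Y Y' : D} (g : Y ⟶ Y') : p.IsHomLift g (s.map g) := by
  have h : (FibCat.selfOver D).p.IsHomLift g g := IsHomLift.map (𝟭 D) g
  exact (BasedFunctor.isHomLift_iff s g g).2 h

theorem diag_lift {φ : C ⥤ D} {p : F ⥤ D} (G : BasedCategory.ofFunctor φ ⥤ᵇ BasedCategory.ofFunctor p)
    {X X' : C} (k : X ⟶ X') : p.IsHomLift (φ.map k) (G.map k) := by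
  have h : (BasedCategory.ofFunctor φ).p.IsHomLift (φ.map k) k := IsHomLift.map φ k
  exact (BasedFunctor.isHomLift_iff G (φ.map k) k).2 h

theorem lift_comp_id {R S : D} (f : R ⟶ S) {a b c : F} (t : a ⟶ b) (u : b ⟶ c)
    (ht : p.IsHomLift f t) (hu : p.IsHomLift (𝟙 S) u) : p.IsHomLift f (t ≫ u) := by
  have h := @IsHomLift.comp _ _ _ _ p _ _ _ _ _ _ f (𝟙 S) t u ht hu
  rwa [Category.comp_id] at h

theorem lift_id_comp {R S : D} (f : R ⟶ S) {a b c : F} (u : a ⟶ b) (t : b ⟶ c)
    (hu : p.IsHomLift (𝟙 R) u) (ht : p.IsHomLift f t) : p.IsHomLift f (u ≫ t) := by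
  have h := @IsHomLift.comp _ _ _ _ p _ _ _ _ _ _ (𝟙 R) f u t hu ht
  rwa [Category.id_comp] at h

variable {p}

theorem fib_factor (hp : FibCat.IsFibGrpd p) {R' R S : D} (g : R' ⟶ R) (f : R ⟶ S) {a b c : F} (ψ : b ⟶ c)
    (hψ : p.IsHomLift f ψ) (t : a ⟶ c) (ht : p.IsHomLift (g ≫ f) t) :
    ∃ u : a ⟶ b, p.IsHomLift g u ∧ u ≫ ψ = t := by
  have := hψ
  have := stronglyCartesian_of_isFibGrpd p hp f ψ
  have := ht
  exact ⟨IsStronglyCartesian.map p f ψ (g := g) rfl t, inferInstance, IsStronglyCartesian.fac p f ψ rfl t⟩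

theorem fib_ext (hp : FibCat.IsFibGrpd p) {R' R S : D} (g : R' ⟶ R) (f : R ⟶ S) {a b c : F} (ψ : b ⟶ c)
    (hψ : p.IsHomLift f ψ) (u u' : a ⟶ b) (hu : p.IsHomLift g u) (hu' : p.IsHomLift g u')
    (h : u ≫ ψ = u' ≫ ψ) : u = u' := by
  have := hψ
  have := stronglyCartesian_of_isFibGrpd p hp f ψ
  have := hu
  have := hu'
  exact IsStronglyCartesian.ext p f ψ (g := g) h

theorem fib_factor_id (hp : FibCat.IsFibGrpd p) {R S : D} (f : R ⟶ S) {a b c : F} (ψ : b ⟶ c)
    (hψ : p.IsHomLift f ψ) (t : a ⟶ c) (ht : p.IsHomLift f t) :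
    ∃ u : a ⟶ b, p.IsHomLift (𝟙 R) u ∧ u ≫ ψ = t :=
  fib_factor hp (𝟙 R) f ψ hψ t (by rw [Category.id_comp]; exact ht)

variable (p)

theorem restr_isEquivalence (hp : FibCat.IsFibGrpd p)
    (hdisc : ∀ (Y : D) (S : Type v₃), SimplyConn (StructuredArrow Y φ) (Discrete S))
    (hfib : ∀ Y : D, SimplyConn (StructuredArrow Y φ) (p.Fiber Y)) :
    (Stk.restr (FibCat.toSelf (BasedCategory.ofFunctor φ)) (BasedCategory.ofFunctor p)).IsEquivalence := by
  have hfaith : (Stk.restr (FibCat.toSelf (BasedCategory.ofFunctor φ)) (BasedCategory.ofFunctor p)).Faithful :=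
    ⟨fun {s s'} α β e => by
      apply BasedNatTrans.ext
      apply NatTrans.ext
      funext Y
      obtain ⟨z⟩ := (hfib Y).1
      let f : Y ⟶ φ.obj z.right := z.hom
      have hX : α.toNatTrans.app (φ.obj z.right) = β.toNatTrans.app (φ.obj z.right) :=
        congrArg (fun t => t.toNatTrans.app z.right) e
      exact fib_ext hp (𝟙 Y) f (s'.map f) (sect_lift s' f) _ _ (α.isHomLift' Y) (β.isHomLift' Y)
        (((α.toNatTrans.naturality f).symm.trans (congrArg (s.map f ≫ ·) hX)).trans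
          (β.toNatTrans.naturality f))⟩
  have hfull : (Stk.restr (FibCat.toSelf (BasedCategory.ofFunctor φ)) (BasedCategory.ofFunctor p)).Full := by
    refine ⟨fun {s s'} γ => ?_⟩
    let σ : D ⥤ F := s.toFunctor
    let σ' : D ⥤ F := s'.toFunctor
    have hσ : ∀ {Y Y' : D} (g : Y ⟶ Y'), p.IsHomLift g (σ.map g) := fun g => sect_lift s g
    have hσ' : ∀ {Y Y' : D} (g : Y ⟶ Y'), p.IsHomLift g (σ'.map g) := fun g => sect_lift s' g
    let γ₀ : ∀ X : C, σ.obj (φ.obj X) ⟶ σ'.obj (φ.obj X) := fun X => γ.toNatTrans.app X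
    have hγl : ∀ X, p.IsHomLift (𝟙 (φ.obj X)) (γ₀ X) := fun X => γ.isHomLift' X
    have hγn : ∀ {X X' : C} (k : X ⟶ X'), σ.map (φ.map k) ≫ γ₀ X' = γ₀ X ≫ σ'.map (φ.map k) :=
      fun k => γ.toNatTrans.naturality k
    have hex : ∀ (Y : D) (z : StructuredArrow Y φ), ∃ a : σ.obj Y ⟶ σ'.obj Y,
        p.IsHomLift (𝟙 Y) a ∧ a ≫ σ'.map z.hom = σ.map z.hom ≫ γ₀ z.right := fun Y z =>
      fib_factor_id hp (R := Y) z.hom (σ'.map z.hom) (hσ' z.hom) _
        (lift_comp_id p z.hom (σ.map z.hom) (γ₀ z.right) (hσ z.hom) (hγl z.right))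
    choose a ha hac using hex
    have hconst : ∀ (Y : D) (z z' : StructuredArrow Y φ), a Y z = a Y z' := fun Y z z' => by
      refine eq_of_simplyConn (hdisc Y _) (a Y) (fun {z z'} k => ?_) z z'
      refine fib_ext hp (𝟙 Y) z'.hom (σ'.map z'.hom) (hσ' _) _ _ (ha Y z) (ha Y z') ?_
      rw [hac Y z', ← StructuredArrow.w k, σ.map_comp, σ'.map_comp, ← Category.assoc, hac Y z,
        Category.assoc, Category.assoc, hγn k.right]
    have hz : ∀ Y : D, ∃ _ : StructuredArrow Y φ, True := fun Y => ⟨(hfib Y).1.some, trivial⟩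
    choose z₀ hz₀ using hz
    have hnat : ∀ {Y Y' : D} (g : Y ⟶ Y'), σ.map g ≫ a Y' (z₀ Y') = a Y (z₀ Y) ≫ σ'.map g := fun {Y Y'} g => by
      refine fib_ext hp g (z₀ Y').hom (σ'.map (z₀ Y').hom) (hσ' _) _ _
        (lift_comp_id p g _ _ (hσ g) (ha Y' (z₀ Y'))) (lift_id_comp p g _ _ (ha Y (z₀ Y)) (hσ' g)) ?_
      rw [Category.assoc, Category.assoc, hac, hconst Y (z₀ Y) (StructuredArrow.mk (g ≫ (z₀ Y').hom)),
        ← σ'.map_comp]
      refine Eq.trans ?_ (hac Y (StructuredArrow.mk (g ≫ (z₀ Y').hom))).symm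
      exact (Category.assoc _ _ _).symm.trans (congrArg (· ≫ γ₀ _) (σ.map_comp g (z₀ Y').hom).symm)
    let α : s ⟶ s' :=
      { toNatTrans := { app := fun Y => a Y (z₀ Y), naturality := fun Y Y' g => hnat g }
        isHomLift' := fun Y => ha Y (z₀ Y) }
    refine ⟨α, ?_⟩
    apply BasedNatTrans.ext
    apply NatTrans.ext
    funext X
    show a (φ.obj X) (z₀ (φ.obj X)) = γ₀ X
    rw [hconst (φ.obj X) (z₀ (φ.obj X)) (StructuredArrow.mk (𝟙 _))]
    have h := hac (φ.obj X) (StructuredArrow.mk (𝟙 _))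
    exact (Category.comp_id _).symm.trans ((congrArg (_ ≫ ·) (σ'.map_id (φ.obj X)).symm).trans
      (h.trans ((congrArg (· ≫ γ₀ X) (σ.map_id (φ.obj X))).trans (Category.id_comp _))))
  refine { faithful := hfaith, full := hfull, essSurj := ⟨fun G => ?_⟩ }
  let Γ : C ⥤ F := G.toFunctor
  have hΓ : ∀ {X X' : C} (k : X ⟶ X'), p.IsHomLift (φ.map k) (Γ.map k) := fun k => diag_lift G k
  have hG : ∀ X : C, p.obj (Γ.obj X) = φ.obj X := fun X => G.w_obj X
  have := isFibered_of_isFibGrpd p hp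
  have hL : ∀ (Y : D) (z : StructuredArrow Y φ), ∃ (b : F) (ℓ : b ⟶ Γ.obj z.right),
      p.IsStronglyCartesian z.hom ℓ := fun Y z => exists_stronglyCartesian p (hG z.right) z.hom
  choose L ℓ hℓ using hL
  have hℓl : ∀ Y z, p.IsHomLift z.hom (ℓ Y z) := fun Y z => (hℓ Y z).toIsHomLift
  have hLY : ∀ (Y : D) (z : StructuredArrow Y φ), p.obj (L Y z) = Y := fun Y z =>
    @IsHomLift.domain_eq _ _ _ _ p _ _ _ _ z.hom (ℓ Y z) (hℓl Y z)
  have hGk : ∀ {Y : D} {z z' : StructuredArrow Y φ} (k : z ⟶ z') {b : F} (t : b ⟶ Γ.obj z.right),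
      p.IsHomLift z.hom t → p.IsHomLift z'.hom (t ≫ Γ.map k.right) := by
    intro Y z z' k b t ht
    have h := @IsHomLift.comp _ _ _ _ p _ _ _ _ _ _ z.hom (φ.map k.right) t (Γ.map k.right) ht (hΓ k.right)
    rwa [StructuredArrow.w k] at h
  have hM : ∀ {Y : D} {z z' : StructuredArrow Y φ} (k : z ⟶ z'), ∃ m : L Y z ⟶ L Y z',
      p.IsHomLift (𝟙 Y) m ∧ m ≫ ℓ Y z' = ℓ Y z ≫ Γ.map k.right := fun {Y z z'} k =>
    fib_factor_id hp z'.hom (ℓ Y z') (hℓl Y z') _ (hGk k (ℓ Y z) (hℓl Y z))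
  choose M hMl hMc using @hM
  have hs : ∀ Y : D, ∃ (b : F) (e : ∀ z : StructuredArrow Y φ, b ⟶ Γ.obj z.right),
      p.obj b = Y ∧ (∀ z : StructuredArrow Y φ, p.IsHomLift z.hom (e z)) ∧
        ∀ {z z' : StructuredArrow Y φ} (k : z ⟶ z'), e z ≫ Γ.map k.right = e z' := by
    intro Y
    let Φ : StructuredArrow Y φ ⥤ p.Fiber Y :=
      { obj := fun z => ⟨L Y z, hLY Y z⟩
        map := fun k => ⟨M k, hMl k⟩
        map_id := fun z => Subtype.ext (fib_ext hp (𝟙 Y) z.hom (ℓ Y z) (hℓl Y z) _ _ (hMl (𝟙 z))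
          (IsHomLift.id (hLY Y z)) ((hMc (𝟙 z)).trans (((congrArg (ℓ Y z ≫ ·) (Γ.map_id z.right))).trans
            ((Category.comp_id _).trans (Category.id_comp _).symm))))
        map_comp := fun {z z' z''} k k' => Subtype.ext (fib_ext hp (𝟙 Y) z''.hom (ℓ Y z'') (hℓl Y z'') _ _
          (hMl (k ≫ k')) (lift_comp_id p (𝟙 Y) _ _ (hMl k) (hMl k')) (by
            show M (k ≫ k') ≫ ℓ Y z'' = (M k ≫ M k') ≫ ℓ Y z''
            rw [hMc, Category.assoc, hMc, ← Category.assoc, hMc]
            exact (congrArg (ℓ Y z ≫ ·) (Γ.map_comp k.right k'.right)).trans (Category.assoc _ _ _).symm)) }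
    have := (hfib Y).2
    let c := (Functor.const (StructuredArrow Y φ) : p.Fiber Y ⥤ _).objPreimage Φ
    let ι := (Functor.const (StructuredArrow Y φ) : p.Fiber Y ⥤ _).objObjPreimageIso Φ
    let t : ∀ z, c.1 ⟶ L Y z := fun z => (ι.hom.app z).1
    refine ⟨c.1, fun z => t z ≫ ℓ Y z, c.2,
      fun z => lift_id_comp p z.hom _ _ (ι.hom.app z).2 (hℓl Y z), fun {z z'} k => ?_⟩
    have hn : t z' = t z ≫ M k :=
      (Category.id_comp _).symm.trans (congrArg Subtype.val (ι.hom.naturality k))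
    exact ((Category.assoc _ _ _).trans ((congrArg (t z ≫ ·) (hMc k).symm).trans (Category.assoc _ _ _).symm)).trans
      (congrArg (· ≫ ℓ Y z') hn.symm)
  choose sO e hsO he hec using hs
  have hm : ∀ {Y' Y : D} (g : Y' ⟶ Y), ∃ m : sO Y' ⟶ sO Y, p.IsHomLift g m ∧
      ∀ z : StructuredArrow Y φ, m ≫ e Y z = e Y' (StructuredArrow.mk (g ≫ z.hom)) := by
    intro Y' Y g
    have hex : ∀ z : StructuredArrow Y φ, ∃ m : sO Y' ⟶ sO Y, p.IsHomLift g m ∧
        m ≫ e Y z = e Y' (StructuredArrow.mk (g ≫ z.hom)) := fun z =>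
      fib_factor hp g z.hom (e Y z) (he Y z) _ (he Y' (StructuredArrow.mk (g ≫ z.hom)))
    choose m hml hmc using hex
    obtain ⟨z₁⟩ := (hfib Y).1
    refine ⟨m z₁, hml z₁, fun z => ?_⟩
    rw [show m z₁ = m z from eq_of_simplyConn (hdisc Y _) m (fun {z z'} k => ?_) z₁ z]
    · exact hmc z
    · refine fib_ext hp g z'.hom (e Y z') (he Y z') _ _ (hml z) (hml z') ?_
      rw [hmc z', ← hec Y k, ← Category.assoc, hmc z]
      exact hec Y' (StructuredArrow.homMk k.right (by
        show (g ≫ z.hom) ≫ φ.map k.right = g ≫ z'.hom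
        rw [Category.assoc, StructuredArrow.w k]) :
          StructuredArrow.mk (g ≫ z.hom) ⟶ StructuredArrow.mk (g ≫ z'.hom))
  choose m hml hmc using @hm
  have hmu : ∀ {Y' Y : D} (g : Y' ⟶ Y) (n : sO Y' ⟶ sO Y), p.IsHomLift g n →
      (∀ z : StructuredArrow Y φ, n ≫ e Y z = e Y' (StructuredArrow.mk (g ≫ z.hom))) → n = m g := by
    intro Y' Y g n hn hnc
    obtain ⟨z⟩ := (hfib Y).1
    exact fib_ext hp g z.hom (e Y z) (he Y z) _ _ hn (hml g) ((hnc z).trans (hmc g z).symm)
  let s₀ : D ⥤ F :=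
    { obj := sO
      map := fun g => m g
      map_id := fun Y => (hmu (𝟙 Y) (𝟙 _) (IsHomLift.id (hsO Y)) (fun z => by
        exact (Category.id_comp _).trans ((Category.comp_id _).symm.trans
          ((congrArg (e Y z ≫ ·) (Γ.map_id z.right).symm).trans
            (hec Y (StructuredArrow.homMk (𝟙 z.right) (by simp) : z ⟶ StructuredArrow.mk (𝟙 Y ≫ z.hom))))))).symm
      map_comp := fun {Y Y' Y''} g g' => (hmu (g ≫ g') (m g ≫ m g')
        (@IsHomLift.comp _ _ _ _ p _ _ _ _ _ _ g g' _ _ (hml g) (hml g')) (fun z => by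
        rw [Category.assoc, hmc g', hmc g]
        show e Y (StructuredArrow.mk (g ≫ g' ≫ z.hom)) = _
        rw [Category.assoc])).symm }
  let s : Sect p :=
    { toFunctor := s₀
      w := CategoryTheory.Functor.ext hsO (fun Y Y' g => @IsHomLift.fac' _ _ _ _ p _ _ _ _ g (m g) (hml g)) }
  let T : ∀ X : C, StructuredArrow (φ.obj X) φ := fun X => StructuredArrow.mk (𝟙 (φ.obj X))
  have hiso : ∀ X : C, IsIso (e (φ.obj X) (T X)) := fun X => by
    have : p.IsHomLift (𝟙 (φ.obj X)) (e (φ.obj X) (T X)) := he _ (T X)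
    exact isIso_of_isFibGrpd p hp (𝟙 (φ.obj X)) _
  refine ⟨s, ⟨BasedNatIso.mkNatIso (NatIso.ofComponents
    (fun X => @asIso _ _ _ _ (e (φ.obj X) (T X)) (hiso X)) (fun {X X'} k => ?_))
    (fun X => he (φ.obj X) (T X))⟩⟩
  show m (φ.map k) ≫ e (φ.obj X') (T X') = e (φ.obj X) (T X) ≫ Γ.map k
  rw [hmc (φ.map k) (T X')]
  exact (hec (φ.obj X) (StructuredArrow.homMk k (by
    show 𝟙 (φ.obj X) ≫ φ.map k = φ.map k ≫ 𝟙 (φ.obj X')
    simp) : T X ⟶ StructuredArrow.mk (φ.map k ≫ (T X').hom))).symm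

/-- Inclusion of a fibre in the comma category. -/
def fiberToArrow (Y : D) : φ.Fiber Y ⥤ StructuredArrow Y φ where
  obj a := StructuredArrow.mk (eqToHom a.2.symm : Y ⟶ φ.obj a.1)
  map {a b} k := StructuredArrow.homMk k.1 (by
    have := k.2
    show eqToHom a.2.symm ≫ φ.map k.1 = eqToHom b.2.symm
    rw [IsHomLift.fac' φ (𝟙 Y) k.1]
    simp)

theorem fiberToArrow_isLeftAdjoint [φ.IsFibered] (Y : D) : (fiberToArrow φ Y).IsLeftAdjoint := by
  have : ∀ z, Limits.HasTerminal (CostructuredArrow (fiberToArrow φ Y) z) := by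
    intro z
    obtain ⟨b, ℓ, hℓ⟩ := exists_stronglyCartesian φ (a := z.right) rfl z.hom
    have hb : φ.obj b = Y := IsHomLift.domain_eq φ z.hom ℓ
    let bo : φ.Fiber Y := ⟨b, hb⟩
    let zt : CostructuredArrow (fiberToArrow φ Y) z := CostructuredArrow.mk
      (StructuredArrow.homMk ℓ (by
        show eqToHom hb.symm ≫ φ.map ℓ = z.hom
        rw [IsHomLift.fac' φ z.hom ℓ]; simp) : (fiberToArrow φ Y).obj bo ⟶ z)
    have hl : ∀ w : CostructuredArrow (fiberToArrow φ Y) z, φ.IsHomLift z.hom w.hom.right := fun w => by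
      refine IsHomLift.of_fac φ _ _ w.left.2 rfl ?_
      have := StructuredArrow.w w.hom
      simp only [eqToHom_refl, Category.comp_id]
      exact this.symm
    have : ∀ w, Nonempty (w ⟶ zt) := fun w => by
      let u : w.left.1 ⟶ z.right := w.hom.right
      have : φ.IsHomLift z.hom u := hl w
      let t : w.left.1 ⟶ b := IsCartesian.map φ z.hom ℓ u
      exact ⟨CostructuredArrow.homMk ⟨t, (inferInstance : φ.IsHomLift (𝟙 Y) t)⟩
        (StructuredArrow.hom_ext _ _ (IsCartesian.fac φ z.hom ℓ u))⟩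
    have : ∀ w, Subsingleton (w ⟶ zt) := fun w => ⟨fun k k' => by
      have := k.left.2
      have := k'.left.2
      apply CostructuredArrow.hom_ext
      apply Subtype.ext
      exact IsCartesian.ext φ z.hom ℓ k.left.1 k'.left.1
        ((congrArg (fun u => u.right) (CostructuredArrow.w k)).trans
          (congrArg (fun u => u.right) (CostructuredArrow.w k')).symm)⟩
    exact Limits.hasTerminal_of_unique zt
  exact isLeftAdjoint_of_costructuredArrowTerminals _

end Sections

end Groth.Agent.FibBasics
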