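import Groth.Agent.FibBasics.CatPb

/-!
The square of diagonals of a 2-fibre product is 2-cartesian.
-/

set_option autoImplicit false

universe v u v₁ u₁ v₂ u₂

open CategoryTheory CategoryTheory.Functor CategoryTheory.Limits

namespace Groth.Agent.FibBasics

variable {X Y V : Type u} [Category.{v} X] [Category.{v} Y] [Category.{v} V] (p : X ⥤ Y) (q : V ⥤ Y)

/-- The diagonal of a functor, into the plain 2-fibre product. -/
abbrev pDiag {A : Type u₁} {B : Type u₂} [Category.{v₁} A] [Category.{v₂} B] (F : A ⥤ B) : A ⥤ CategoricalPullback F F :=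
  (CategoricalPullback.CatCommSqOver.toFunctorToCategoricalPullback F F A).obj ⟨𝟭 _, 𝟭 _, Iso.refl _⟩

/-- The cospan map inducing `U ×_V U ⥤ X ×_Y X`. -/
abbrev sqTransform : CatCospanTransform (CategoricalPullback.π₂ p q) (CategoricalPullback.π₂ p q) p p :=
  ⟨CategoricalPullback.π₁ p q, q, CategoricalPullback.π₁ p q,
    ⟨(CatCommSq.iso (CategoricalPullback.π₁ p q) (CategoricalPullback.π₂ p q) p q).symm⟩,
    ⟨(CatCommSq.iso (CategoricalPullback.π₁ p q) (CategoricalPullback.π₂ p q) p q).symm⟩⟩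

theorem sq_iso (z : CategoricalPullback (CategoricalPullback.π₂ p q) (CategoricalPullback.π₂ p q)) :
    ((FibCat.categoricalPullbackMap (sqTransform p q)).obj z).iso.hom =
      z.fst.iso.hom ≫ q.map z.iso.hom ≫ z.snd.iso.inv := by
  refine (cpm_iso (sqTransform p q) z).trans ?_
  rfl

theorem exists_diag_isTwoCart :
    ∃ e : CategoricalPullback.π₁ p q ⋙ pDiag p ≅
      pDiag (CategoricalPullback.π₂ p q) ⋙ FibCat.categoricalPullbackMap (sqTransform p q), (∀ u, (e.hom.app u).fst = 𝟙 _ ∧ (e.hom.app u).snd = 𝟙 _) ∧ FibCat.IsTwoCart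
      (CategoricalPullback.π₁ p q) (pDiag (CategoricalPullback.π₂ p q)) (pDiag p)
      (FibCat.categoricalPullbackMap (sqTransform p q)) e := by
  let L : CategoricalPullback p q ⥤ _ := pDiag (CategoricalPullback.π₂ p q)
  let G := FibCat.categoricalPullbackMap (sqTransform p q)
  let e : CategoricalPullback.π₁ p q ⋙ pDiag p ≅ L ⋙ G := NatIso.ofComponents
    (fun u => CategoricalPullback.mkIso (Iso.refl _) (Iso.refl _) (by
      show p.map (𝟙 u.fst) ≫ ((FibCat.categoricalPullbackMap (sqTransform p q)).obj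
        ((pDiag (CategoricalPullback.π₂ p q)).obj u)).iso.hom = 𝟙 (p.obj u.fst) ≫ p.map (𝟙 u.fst)
      rw [sq_iso p q]
      show p.map (𝟙 u.fst) ≫ u.iso.hom ≫ q.map (𝟙 u.snd) ≫ u.iso.inv = 𝟙 (p.obj u.fst) ≫ p.map (𝟙 u.fst)
      simp))
    (fun {a b} f => CategoricalPullback.hom_ext
      (show f.fst ≫ 𝟙 _ = 𝟙 _ ≫ f.fst by simp) (show f.fst ≫ 𝟙 _ = 𝟙 _ ≫ f.fst by simp))
  refine ⟨e, fun u => ⟨rfl, rfl⟩, ?_⟩
  let Q := (CategoricalPullback.CatCommSqOver.toFunctorToCategoricalPullback (pDiag p) G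
    (CategoricalPullback p q)).obj ⟨CategoricalPullback.π₁ p q, L, e⟩
  show Q.IsEquivalence
  have : Q.Faithful := by
    refine ⟨fun {a b} f g h => ?_⟩
    exact congrArg (fun k => k.snd.fst) h
  have : Q.Full := by
    refine ⟨fun {a b} θ => ?_⟩
    let k : a ⟶ b := θ.snd.fst
    let k' : a ⟶ b := θ.snd.snd
    let f : a.fst ⟶ b.fst := θ.fst
    have h1 : f = k.fst := (Category.comp_id _).symm.trans
      ((congrArg (fun m => m.fst) θ.w : f ≫ 𝟙 b.fst = 𝟙 a.fst ≫ k.fst).trans (Category.id_comp _))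
    have h2 : f = k'.fst := (Category.comp_id _).symm.trans
      ((congrArg (fun m => m.snd) θ.w : f ≫ 𝟙 b.fst = 𝟙 a.fst ≫ k'.fst).trans (Category.id_comp _))
    have h3 : k.snd = k'.snd := (Category.comp_id _).symm.trans
      ((θ.snd.w : k.snd ≫ 𝟙 b.snd = 𝟙 a.snd ≫ k'.snd).trans (Category.id_comp _))
    have hk : k = k' := CategoricalPullback.hom_ext (h1.symm.trans h2) h3
    exact ⟨k, CategoricalPullback.hom_ext h1.symm (CategoricalPullback.hom_ext rfl hk)⟩
  have : Q.EssSurj := by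
    refine ⟨fun z => ?_⟩
    let x : X := z.fst
    let u : CategoricalPullback p q := z.snd.fst
    let u' : CategoricalPullback p q := z.snd.snd
    let θ : u.snd ≅ u'.snd := z.snd.iso
    let α : x ≅ u.fst := (CategoricalPullback.π₁ p p).mapIso z.iso
    let β : x ≅ u'.fst := (CategoricalPullback.π₂ p p).mapIso z.iso
    have hw0 := z.iso.hom.w
    rw [sq_iso p q] at hw0
    have hw : p.map α.hom ≫ u.iso.hom ≫ q.map θ.hom ≫ u'.iso.inv = 𝟙 (p.obj x) ≫ p.map β.hom := hw0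
    let u₀ : CategoricalPullback p q := ⟨x, u.snd, p.mapIso α ≪≫ u.iso⟩
    let i : u₀ ≅ u := CategoricalPullback.mkIso α (Iso.refl _) (by simp [u₀])
    let j : u₀ ≅ u' := CategoricalPullback.mkIso β θ (by
      show p.map β.hom ≫ u'.iso.hom = (p.map α.hom ≫ u.iso.hom) ≫ q.map θ.hom
      rw [Category.id_comp] at hw
      rw [← hw]
      simp)
    refine ⟨u₀, ⟨CategoricalPullback.mkIso (Iso.refl _)
      (CategoricalPullback.mkIso i j (show 𝟙 u.snd ≫ θ.hom = 𝟙 u.snd ≫ θ.hom from rfl)) ?_⟩⟩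
    apply CategoricalPullback.hom_ext
    · show 𝟙 x ≫ α.hom = 𝟙 x ≫ α.hom
      rfl
    · show 𝟙 x ≫ β.hom = 𝟙 x ≫ β.hom
      rfl
  exact { }

end Groth.Agent.FibBasics
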