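import Groth.Agent.FibBasics.Fp

/-!
The 2-fibre product of a functor with an identity, between categories fibred in groupoids.
-/

set_option autoImplicit false

universe v₃ u₃ v₂ u₂ v u

open CategoryTheory CategoryTheory.Functor CategoryTheory.Limits

namespace Groth.Agent.FibBasics

variable {S : Type u} [Category.{v} S] {X : Type u₂} [Category.{v₂} X] {Y : Type u₃} [Category.{v₃} Y]

theorem isFibGrpd_pullback_id (πX : X ⥤ S) (hX : FibCat.IsFibGrpd πX) (πY : Y ⥤ S)
    (hY : FibCat.IsFibGrpd πY) (F : Y ⥤ X) (hF : F ⋙ πX = πY) :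
    FibCat.IsFibGrpd (CategoricalPullback.π₂ F (𝟭 X)) := by
  subst hF
  refine isFibGrpd_of_lifts _ (fun z x' g => ?_) (fun R T g z' z φ hφ => ?_)
  · let θ : F.obj z.fst ≅ z.snd := z.iso
    let g₀ : x' ⟶ z.snd := g
    let f : πX.obj x' ⟶ (F ⋙ πX).obj z.fst := πX.map (g₀ ≫ θ.inv)
    obtain ⟨y, c, hc⟩ := hY.exists_lift (x := z.fst) f
    have : πX.IsHomLift f (F.map c) := (isHomLift_comp_iff F πX f c).1 hc
    have : πX.IsHomLift f (g₀ ≫ θ.inv) := IsHomLift.map πX (g₀ ≫ θ.inv)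
    have := stronglyCartesian_of_isFibGrpd πX hX f (F.map c)
    have := stronglyCartesian_of_isFibGrpd πX hX f (g₀ ≫ θ.inv)
    let κ := (IsCartesian.domainUniqueUpToIso πX f (g₀ ≫ θ.inv) (F.map c) : F.obj y ≅ x')
    have hκ : κ.hom ≫ g₀ ≫ θ.inv = F.map c := IsCartesian.fac πX f (g₀ ≫ θ.inv) (F.map c)
    let z' : CategoricalPullback F (𝟭 X) := ⟨y, x', κ⟩
    have w : F.map c ≫ θ.hom = κ.hom ≫ g₀ := by rw [← hκ]; simp
    let ψ : z' ⟶ z := { fst := c, snd := g₀, w := w }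
    exact ⟨z', ψ, IsHomLift.map (CategoricalPullback.π₂ F (𝟭 X)) ψ⟩
  · subst_hom_lift (CategoricalPullback.π₂ F (𝟭 X)) g φ
    exact
    { universal_property' := fun {z''} h ψ hψ => by
        let θ : F.obj z.fst ≅ z.snd := z.iso
        let θ' : F.obj z'.fst ≅ z'.snd := z'.iso
        let θ'' : F.obj z''.fst ≅ z''.snd := z''.iso
        let h₀ : z''.snd ⟶ z'.snd := h
        let u : z'.snd ⟶ z.snd := φ.snd
        have hψ2 : h₀ ≫ u = ψ.snd :=
          IsHomLift.eq_of_isHomLift (CategoricalPullback.π₂ F (𝟭 X)) (h ≫ (CategoricalPullback.π₂ F (𝟭 X)).map φ) ψ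
        have w1 : F.map φ.fst ≫ θ.hom = θ'.hom ≫ u := φ.w
        have w2 : F.map ψ.fst ≫ θ.hom = θ''.hom ≫ h₀ ≫ u := by rw [hψ2]; exact ψ.w
        let e : F.obj z''.fst ⟶ F.obj z'.fst := θ''.hom ≫ h₀ ≫ θ'.inv
        have he : e ≫ F.map φ.fst = F.map ψ.fst := by
          rw [← cancel_mono θ.hom, Category.assoc, w1, w2]
          simp [e]
        let g' : (F ⋙ πX).obj z''.fst ⟶ (F ⋙ πX).obj z'.fst := πX.map e
        have hg' : g' ≫ (F ⋙ πX).map φ.fst = (F ⋙ πX).map ψ.fst := by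
          show πX.map e ≫ πX.map (F.map φ.fst) = πX.map (F.map ψ.fst)
          rw [← πX.map_comp, he]
        have := hY.isStronglyCartesian φ.fst
        have : (F ⋙ πX).IsHomLift ((F ⋙ πX).map ψ.fst) ψ.fst := IsHomLift.map (F ⋙ πX) ψ.fst
        let χ := IsStronglyCartesian.map (F ⋙ πX) ((F ⋙ πX).map φ.fst) φ.fst (g := g') hg'.symm ψ.fst
        have hc : χ ≫ φ.fst = ψ.fst := IsStronglyCartesian.fac (F ⋙ πX) _ φ.fst hg'.symm ψ.fst
        have : πX.IsHomLift g' (F.map χ) := (isHomLift_comp_iff F πX g' χ).1 inferInstance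
        have : πX.IsHomLift g' e := IsHomLift.map πX e
        have := hX.isStronglyCartesian (F.map φ.fst)
        have hχ : F.map χ = e := IsStronglyCartesian.ext πX (πX.map (F.map φ.fst)) (F.map φ.fst) (g := g')
          (by rw [← F.map_comp, hc, he])
        have w : F.map χ ≫ θ'.hom = θ''.hom ≫ h₀ := by rw [hχ]; simp [e]
        let Χ : z'' ⟶ z' := { fst := χ, snd := h₀, w := w }
        refine ⟨Χ, ⟨IsHomLift.map (CategoricalPullback.π₂ F (𝟭 X)) Χ, CategoricalPullback.hom_ext hc hψ2⟩, ?_⟩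
        rintro τ ⟨hτ, hτc⟩
        have := hτ
        have h2 : h₀ = τ.snd := IsHomLift.eq_of_isHomLift (CategoricalPullback.π₂ F (𝟭 X)) h τ
        have w3 : F.map τ.fst ≫ θ'.hom = θ''.hom ≫ h₀ := by rw [h2]; exact τ.w
        have h3 : F.map τ.fst = e := by
          rw [← cancel_mono θ'.hom, w3]; simp [e]
        have : (F ⋙ πX).IsHomLift g' τ.fst := by
          rw [isHomLift_comp_iff, h3]; infer_instance
        exact CategoricalPullback.hom_ext
          (IsStronglyCartesian.map_uniq (F ⋙ πX) ((F ⋙ πX).map φ.fst) φ.fst hg'.symm ψ.fst τ.fst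
            (congrArg (fun k => k.fst) hτc)) h2.symm }

end Groth.Agent.FibBasics
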