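import Groth.Agent.FibBasics.Clv
import Mathlib.CategoryTheory.Bicategory.Functor.LocallyDiscrete

/-!
The Grothendieck construction of a strict functor and split cleavages.
-/

set_option autoImplicit false

universe v₂ u₂ v₁ u₁

open CategoryTheory CategoryTheory.Functor Opposite
open CategoryTheory.Pseudofunctor (CoGrothendieck)

namespace Groth.Agent.FibBasics

variable {𝒮 : Type u₁} [Category.{v₁} 𝒮]

/-- The category of pairs attached to a strict functor. -/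
abbrev Gro (F : 𝒮ᵒᵖ ⥤ Cat.{v₂, u₂}) := CoGrothendieck F.toPseudofunctor'

/-- Its projection. -/
abbrev groP (F : 𝒮ᵒᵖ ⥤ Cat.{v₂, u₂}) : Gro F ⥤ 𝒮 :=
  CoGrothendieck.forget F.toPseudofunctor'

/-- Restriction functor. -/
abbrev fm (F : 𝒮ᵒᵖ ⥤ Cat.{v₂, u₂}) {R S : 𝒮} (f : R ⟶ S) : F.obj (op S) ⥤ F.obj (op R) :=
  (F.map f.op).toFunctor

theorem fm_id (F : 𝒮ᵒᵖ ⥤ Cat.{v₂, u₂}) (S : 𝒮) : fm F (𝟙 S) = 𝟭 _ :=
  congrArg Cat.Hom.toFunctor (F.map_id (op S))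

theorem fm_comp (F : 𝒮ᵒᵖ ⥤ Cat.{v₂, u₂}) {R S T : 𝒮} (f : R ⟶ S) (g : S ⟶ T) :
    fm F (f ≫ g) = fm F g ⋙ fm F f :=
  congrArg Cat.Hom.toFunctor (F.map_comp g.op f.op)

theorem cat_eqToHom_app {A B : Cat.{v₂, u₂}} {P Q : A ⟶ B} (h : P = Q) (x : A) :
    (eqToHom h).toNatTrans.app x = eqToHom (congrArg (fun K => K.toFunctor.obj x) h) := by
  subst h; rfl

theorem gro_comp_fiber (F : 𝒮ᵒᵖ ⥤ Cat.{v₂, u₂}) {a b c : Gro F} (φ : a ⟶ b) (ψ : b ⟶ c)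
    (h : (fm F φ.base).obj ((fm F ψ.base).obj c.fiber) = (fm F (φ.base ≫ ψ.base)).obj c.fiber) :
    (φ ≫ ψ).fiber = φ.fiber ≫ (fm F φ.base).map ψ.fiber ≫ eqToHom h := by
  show φ.fiber ≫ (fm F φ.base).map ψ.fiber ≫
    (F.toPseudofunctor'.mapComp ψ.base.op.toLoc φ.base.op.toLoc).inv.toNatTrans.app c.fiber = _
  congr 2
  rw [Functor.toPseudofunctor'_mapComp, eqToIso.inv]
  exact cat_eqToHom_app _ _

theorem gro_id_fiber (F : 𝒮ᵒᵖ ⥤ Cat.{v₂, u₂}) (a : Gro F) (h : a.fiber = (fm F (𝟙 a.base)).obj a.fiber) :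
    (𝟙 a : a ⟶ a).fiber = eqToHom h := by
  show (F.toPseudofunctor'.mapId ⟨op a.base⟩).inv.toNatTrans.app a.fiber = _
  rw [Functor.toPseudofunctor'_mapId, eqToIso.inv]
  exact cat_eqToHom_app _ _

/-- Inverse image object. -/
abbrev groD (F : 𝒮ᵒᵖ ⥤ Cat.{v₂, u₂}) (x : Gro F) {R : 𝒮} (f : R ⟶ x.base) : Gro F :=
  ⟨R, (fm F f).obj x.fiber⟩

/-- The canonical cartesian morphism. -/
abbrev groL (F : 𝒮ᵒᵖ ⥤ Cat.{v₂, u₂}) (x : Gro F) {R : 𝒮} (f : R ⟶ x.base) : groD F x f ⟶ x :=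
  ⟨f, 𝟙 _⟩

theorem gro_obj_ext (F : 𝒮ᵒᵖ ⥤ Cat.{v₂, u₂}) {S : 𝒮} {x y : F.obj (op S)} (h : x = y) :
    (⟨S, x⟩ : Gro F) = ⟨S, y⟩ := congrArg (CoGrothendieck.mk S) h

theorem groL_sc (F : 𝒮ᵒᵖ ⥤ Cat.{v₂, u₂}) (x : Gro F) {R : 𝒮} (f : R ⟶ x.base) :
    (groP F).IsStronglyCartesian f (groL F x f) :=
  CoGrothendieck.isStronglyCartesian_homCartesianLift x.fiber f

theorem gro_eq_hom (F : 𝒮ᵒᵖ ⥤ Cat.{v₂, u₂}) {S : 𝒮} {x y : F.obj (op S)} (h : x = y) {c : Gro F}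
    (ψ : (⟨S, y⟩ : Gro F) ⟶ c) :
    ∀ e : (⟨S, x⟩ : Gro F) = ⟨S, y⟩,
      (eqToHom e ≫ ψ).base = ψ.base ∧
        ∀ hb : (fm F ψ.base).obj c.fiber = (fm F (eqToHom e ≫ ψ).base).obj c.fiber,
          (eqToHom e ≫ ψ).fiber = eqToHom h ≫ ψ.fiber ≫ eqToHom hb := by
  subst h
  intro e
  have he : eqToHom e ≫ ψ = ψ := by rw [eqToHom_refl]; exact Category.id_comp ψ
  refine ⟨congrArg CoGrothendieck.Hom.base he, fun hb => ?_⟩
  obtain ⟨h1, h2⟩ := (CoGrothendieck.Hom.ext_iff _ _).1 he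
  rw [h2]
  exact (Category.id_comp _).symm

theorem eqToHom_aux {A : Type u₂} [Category.{v₂} A] {w x y z : A} (e : w = x) (h₁ : x = y) (h₂ : y = z)
    (h₃ : w = z) : eqToHom h₃ = (eqToHom e ≫ 𝟙 x ≫ eqToHom h₁) ≫ eqToHom h₂ := by
  subst e h₁ h₂; simp

theorem eqToHom_aux' {A : Type u₂} [Category.{v₂} A] {w x y z : A} (e : w = x) (h₀ : x = w) (h₁ : w = y)
    (h₂ : y = z) (h₃ : w = z) :
    eqToHom h₃ = (eqToHom e ≫ eqToHom h₀ ≫ eqToHom h₁) ≫ eqToHom h₂ := by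
  subst e h₁ h₂; simp

theorem groL_comp (F : 𝒮ᵒᵖ ⥤ Cat.{v₂, u₂}) (x : Gro F) {R T : 𝒮} (f : R ⟶ x.base) (g : T ⟶ R) :
    ∃ h : groD F (groD F x f) g = groD F x (g ≫ f),
      groL F (groD F x f) g ≫ groL F x f = eqToHom h ≫ groL F x (g ≫ f) := by
  have e : (fm F g).obj ((fm F f).obj x.fiber) = (fm F (g ≫ f)).obj x.fiber :=
    (Functor.congr_obj (fm_comp F g f) x.fiber).symm
  refine ⟨gro_obj_ext F e, ?_⟩
  obtain ⟨hb, hf⟩ := gro_eq_hom F e (groL F x (g ≫ f)) (gro_obj_ext F e)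
  refine CoGrothendieck.Hom.ext _ _ hb.symm ?_
  rw [hf (congrArg (fun k => (fm F k).obj x.fiber) hb.symm), gro_comp_fiber F _ _ e]
  show 𝟙 _ ≫ (fm F g).map (𝟙 _) ≫ eqToHom _ = (eqToHom e ≫ 𝟙 _ ≫ eqToHom _) ≫ eqToHom _
  rw [Category.id_comp, CategoryTheory.Functor.map_id, Category.id_comp]
  exact eqToHom_aux _ _ _ _

theorem groL_id (F : 𝒮ᵒᵖ ⥤ Cat.{v₂, u₂}) (x : Gro F) {R : 𝒮} (e : R = x.base) :
    ∃ h : groD F x (eqToHom e) = x, groL F x (eqToHom e) = eqToHom h := by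
  subst e
  rw [eqToHom_refl]
  have e0 : (fm F (𝟙 x.base)).obj x.fiber = x.fiber := Functor.congr_obj (fm_id F x.base) x.fiber
  refine ⟨gro_obj_ext F e0, ?_⟩
  have hk := gro_eq_hom F e0 (𝟙 x) (gro_obj_ext F e0)
  have hcomp : eqToHom (gro_obj_ext F e0) ≫ 𝟙 x = eqToHom (gro_obj_ext F e0) := Category.comp_id _
  rw [← hcomp]
  refine CoGrothendieck.Hom.ext _ _ hk.1.symm ?_
  have hb := congrArg (fun k => (fm F k).obj x.fiber) hk.1.symm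
  refine Eq.trans ?_ (congrArg (· ≫ eqToHom _) (((hk.2 hb).trans
    (congrArg (fun k => eqToHom e0 ≫ k ≫ eqToHom hb) (gro_id_fiber F x e0.symm))).symm))
  show 𝟙 _ = _
  exact (eqToHom_refl _ rfl).symm.trans (eqToHom_aux' e0 e0.symm hb _ rfl)

theorem groL_congr (F : 𝒮ᵒᵖ ⥤ Cat.{v₂, u₂}) {x x' : Gro F} (e : x = x') {R : 𝒮} (f : R ⟶ x.base)
    (f' : R ⟶ x'.base) (hf : f' = f ≫ eqToHom (congrArg CoGrothendieck.base e)) :
    ∃ h : groD F x f = groD F x' f', groL F x f ≫ eqToHom e = eqToHom h ≫ groL F x' f' := by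
  subst e
  obtain rfl : f' = f := by rw [hf, eqToHom_refl, Category.comp_id]
  exact ⟨rfl, (Category.comp_id _).trans (Category.id_comp _).symm⟩

theorem exists_splitting_of_iso {𝒳 : Type u₂} [Category.{v₂} 𝒳] (p : 𝒳 ⥤ 𝒮) (F : 𝒮ᵒᵖ ⥤ Cat.{v₂, u₂})
    (Φ : 𝒳 ⥤ Gro F) (Ψ : Gro F ⥤ 𝒳) (h₁ : Φ ⋙ Ψ = 𝟭 𝒳) (h₂ : Ψ ⋙ Φ = 𝟭 _) (h₃ : Φ ⋙ groP F = p) :
    ∃ K : FibCat.Cleavage p, K.IsSplitting := by
  subst h₃
  let e := CategoryTheory.Equivalence.mk Φ Ψ (eqToIso h₁.symm) (eqToIso h₂)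
  have : Φ.IsEquivalence := e.isEquivalence_functor
  have ho : ∀ a, Ψ.obj (Φ.obj a) = a := Functor.congr_obj h₁
  have ho' : ∀ x, Φ.obj (Ψ.obj x) = x := Functor.congr_obj h₂
  let f₀ : ∀ {R S : 𝒮} {a : 𝒳}, (Φ ⋙ groP F).obj a = S → (R ⟶ S) → (R ⟶ (Φ.obj a).base) :=
    fun ha f => f ≫ eqToHom ha.symm
  let obj : ∀ {R S : 𝒮} {a : 𝒳}, (Φ ⋙ groP F).obj a = S → (R ⟶ S) → 𝒳 :=
    fun {_ _ a} ha f => Ψ.obj (groD F (Φ.obj a) (f₀ ha f))
  let lift : ∀ {R S : 𝒮} {a : 𝒳} (ha : (Φ ⋙ groP F).obj a = S) (f : R ⟶ S), obj ha f ⟶ a :=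
    fun {_ _ a} ha f => Ψ.map (groL F (Φ.obj a) (f₀ ha f)) ≫ eqToHom (ho a)
  have hΦ : ∀ {R S : 𝒮} {a : 𝒳} (ha : (Φ ⋙ groP F).obj a = S) (f : R ⟶ S),
      Φ.map (lift ha f) = eqToHom (ho' _) ≫ groL F (Φ.obj a) (f₀ ha f) := by
    intro R S a ha f
    rw [Φ.map_comp, eqToHom_map]
    have := Functor.congr_hom h₂ (groL F (Φ.obj a) (f₀ ha f))
    simp only [Functor.comp_map, Functor.id_map] at this
    rw [this]
    simp
  let 𝒳b : BasedCategory 𝒮 := BasedCategory.ofFunctor (Φ ⋙ groP F)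
  let 𝒢b : BasedCategory 𝒮 := BasedCategory.ofFunctor (groP F)
  let Φb : 𝒳b ⥤ᵇ 𝒢b := { toFunctor := Φ, w := rfl }
  have : Φb.toFunctor.IsEquivalence := this
  have hc : ∀ {R S : 𝒮} {a : 𝒳} (ha : (Φ ⋙ groP F).obj a = S) (f : R ⟶ S),
      (Φ ⋙ groP F).IsCartesian f (lift ha f) := by
    intro R S a ha f
    subst ha
    have hsc := groL_sc F (Φ.obj a) f
    have key : ∀ (z z' : Gro F) (h : z = z') (k : z' ⟶ Φ.obj a), (groP F).IsCartesian f k →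
        (groP F).IsCartesian f (eqToHom h ≫ k) := by
      rintro z z' rfl k hk
      rwa [eqToHom_refl, Category.id_comp]
    have h1 : (groP F).IsCartesian f (Φ.map (lift rfl f)) := by
      rw [hΦ rfl f]
      refine key _ _ _ _ ?_
      have e : f₀ (rfl : (Φ ⋙ groP F).obj a = _) f = f := Category.comp_id f
      rw [e]
      exact @IsStronglyCartesian.isCartesian_of_isStronglyCartesian _ _ _ _ _ _ _ _ _ f _ hsc
    exact @isCartesian_of_map _ _ 𝒳b 𝒢b Φb _ _ _ _ f _ _ (lift rfl f) h1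
  refine ⟨⟨obj, lift, hc⟩, ?_, ?_⟩
  · intro S a ha
    subst ha
    obtain ⟨h, hL⟩ := groL_id F (Φ.obj a) (rfl : (Φ.obj a).base = (Φ.obj a).base)
    have e : f₀ (rfl : (Φ ⋙ groP F).obj a = _) (𝟙 _) = eqToHom rfl := Category.comp_id _
    have hobj : obj (rfl : (Φ ⋙ groP F).obj a = _) (𝟙 _) = a :=
      (congrArg Ψ.obj ((congrArg (fun k => groD F (Φ.obj a) k) e).trans h)).trans (ho a)
    refine ⟨hobj, ?_⟩
    apply Φ.map_injective
    show Φ.map (lift (rfl : (Φ ⋙ groP F).obj a = _) (𝟙 _)) = Φ.map (eqToHom hobj)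
    rw [hΦ rfl, eqToHom_map]
    have : ∀ (k : (Φ.obj a).base ⟶ (Φ.obj a).base) (_ : k = eqToHom rfl) (z : Gro F)
        (hz : z = groD F (Φ.obj a) k) (h' : z = Φ.obj a),
        eqToHom hz ≫ groL F (Φ.obj a) k = eqToHom h' := by
      rintro k rfl z hz h'
      rw [hL, eqToHom_trans]
    exact this _ e _ _ _
  · intro S T U f g a ha
    subst ha
    have hg : ∀ {A B : 𝒮} (g : U ⟶ A) (e1 : A = B) (e2 : B = A), g = (g ≫ eqToHom e1) ≫ eqToHom e2 := by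
      rintro A B g rfl e2
      simp
    obtain ⟨hA, hA'⟩ := groL_comp F (Φ.obj a) f g
    obtain ⟨hB, hB'⟩ := groL_congr F (ho' (groD F (Φ.obj a) (f₀ (rfl : (Φ ⋙ groP F).obj a = _) f)))
      (f₀ (by exact congrArg CoGrothendieck.base (ho' _)) g) g (hg _ _ _)
    have e : f₀ (rfl : (Φ ⋙ groP F).obj a = _) f = f := Category.comp_id f
    have e' : f₀ (rfl : (Φ ⋙ groP F).obj a = _) (g ≫ f) = g ≫ f := Category.comp_id _
    have hobj : obj (a := obj (rfl : (Φ ⋙ groP F).obj a = _) f) (congrArg CoGrothendieck.base (ho' _)) g =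
        obj (rfl : (Φ ⋙ groP F).obj a = _) (g ≫ f) :=
      congrArg Ψ.obj (((hB.trans (congrArg (fun k => groD F (groD F (Φ.obj a) k) g) e)).trans hA).trans
        (congrArg (fun k => groD F (Φ.obj a) k) e'.symm))
    refine ⟨hobj, ?_⟩
    apply Φ.map_injective
    show Φ.map (lift (congrArg CoGrothendieck.base (ho' _)) g ≫ lift rfl f) = Φ.map (eqToHom hobj ≫ lift rfl (g ≫ f))
    refine (Φ.map_comp _ _).trans (Eq.trans ?_ ((Φ.map_comp _ _).trans (congrArg₂ (· ≫ ·)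
      (eqToHom_map Φ hobj) (hΦ rfl (g ≫ f)))).symm)
    refine (congrArg₂ (· ≫ ·) (hΦ (congrArg CoGrothendieck.base (ho' _)) g) (hΦ rfl f)).trans ?_
    rw [Category.assoc, reassoc_of% hB']
    have main : ∀ (k : T ⟶ (Φ.obj a).base) (k' : U ⟶ (Φ.obj a).base), k = f → k' = g ≫ f →
        ∀ (z : Gro F) (h1 : z = groD F (groD F (Φ.obj a) k) g) (h2 : z = groD F (Φ.obj a) k'),
        eqToHom h1 ≫ groL F (groD F (Φ.obj a) k) g ≫ groL F (Φ.obj a) k = eqToHom h2 ≫ groL F (Φ.obj a) k' := by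
      rintro k k' rfl rfl z h1 h2
      rw [hA', eqToHom_trans_assoc]; rfl
    rw [eqToHom_trans_assoc, eqToHom_trans_assoc]
    exact main _ _ e e' _ _ _

/-- The strict functor of a split cleavage. -/
noncomputable def fibFun {𝒳 : Type u₂} [Category.{v₂} 𝒳] {p : 𝒳 ⥤ 𝒮} (K : FibCat.Cleavage p)
    (hi : ∀ S : 𝒮, K.inverseImage (𝟙 S) = 𝟭 _)
    (hc : ∀ {R S T : 𝒮} (f : T ⟶ S) (g : R ⟶ T), K.inverseImage (g ≫ f) = K.inverseImage f ⋙ K.inverseImage g) :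
    𝒮ᵒᵖ ⥤ Cat.{v₂, u₂} where
  obj S := Cat.of (p.Fiber S.unop)
  map f := (K.inverseImage f.unop).toCatHom
  map_id S := congrArg Functor.toCatHom (hi S.unop)
  map_comp f g := congrArg Functor.toCatHom (hc f.unop g.unop)

theorem exists_iso_of_splitting {𝒳 : Type u₂} [Category.{v₂} 𝒳] (p : 𝒳 ⥤ 𝒮) (K : FibCat.Cleavage p)
    (hK : K.IsSplitting) :
    ∃ (F : 𝒮ᵒᵖ ⥤ Cat.{v₂, u₂}) (Φ : 𝒳 ⥤ Gro F) (Ψ : Gro F ⥤ 𝒳),
      Φ ⋙ Ψ = 𝟭 𝒳 ∧ Ψ ⋙ Φ = 𝟭 _ ∧ Φ ⋙ groP F = p := by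
  have hi : ∀ S : 𝒮, K.inverseImage (𝟙 S) = 𝟭 _ := by
    intro S
    apply fiber_functor_ext p
    refine Functor.ext (fun a => (hK.1 a.2).1) (fun a b φ => ?_)
    obtain ⟨ea, la⟩ := hK.1 a.2
    obtain ⟨eb, lb⟩ := hK.1 b.2
    show IsCartesian.map p (𝟙 S) (K.lift b.2 (𝟙 S)) (K.lift a.2 (𝟙 S) ≫ Fiber.fiberInclusion.map φ) = _
    have h := IsCartesian.fac p (𝟙 S) (K.lift b.2 (𝟙 S)) (K.lift a.2 (𝟙 S) ≫ Fiber.fiberInclusion.map φ)
    have key : ∀ (A B : 𝒳) (ea : A = a.1) (eb : B = b.1) (m : A ⟶ B),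
        m ≫ eqToHom eb = eqToHom ea ≫ φ.1 → m = eqToHom ea ≫ φ.1 ≫ eqToHom eb.symm := by
      rintro A B rfl rfl m hm
      simpa using hm
    refine key _ _ ea eb _ ?_
    rw [← lb, ← la]
    exact h
  have hc : ∀ {R S T : 𝒮} (f : T ⟶ S) (g : R ⟶ T),
      K.inverseImage (g ≫ f) = K.inverseImage f ⋙ K.inverseImage g := by
    intro R S T f g
    apply fiber_functor_ext p
    refine Functor.ext (fun a => (hK.2 f g a.2).1.symm) (fun a b φ => ?_)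
    obtain ⟨ea, la⟩ := hK.2 f g a.2
    obtain ⟨eb, lb⟩ := hK.2 f g b.2
    let φ' : a.1 ⟶ b.1 := φ.1
    have : p.IsHomLift (𝟙 S) φ' := φ.2
    let m1 : K.obj a.2 f ⟶ K.obj b.2 f := IsCartesian.map p f (K.lift b.2 f) (K.lift a.2 f ≫ φ')
    let m2 : K.obj (K.obj_proj a.2 f) g ⟶ K.obj (K.obj_proj b.2 f) g :=
      IsCartesian.map p g (K.lift (K.obj_proj b.2 f) g) (K.lift (K.obj_proj a.2 f) g ≫ m1)
    let m : K.obj a.2 (g ≫ f) ⟶ K.obj b.2 (g ≫ f) :=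
      IsCartesian.map p (g ≫ f) (K.lift b.2 (g ≫ f)) (K.lift a.2 (g ≫ f) ≫ φ')
    show m = eqToHom ea.symm ≫ m2 ≫ eqToHom eb
    refine (IsCartesian.map_uniq p (g ≫ f) (K.lift b.2 (g ≫ f)) (K.lift a.2 (g ≫ f) ≫ φ') _ ?_).symm
    rw [Category.assoc, Category.assoc, ← lb]
    have f2 : m2 ≫ K.lift (K.obj_proj b.2 f) g = K.lift (K.obj_proj a.2 f) g ≫ m1 :=
      IsCartesian.fac p g (K.lift (K.obj_proj b.2 f) g) _
    have f1 : m1 ≫ K.lift b.2 f = K.lift a.2 f ≫ φ' := IsCartesian.fac p f (K.lift b.2 f) _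
    rw [reassoc_of% f2, f1, reassoc_of% la]
    simp
  let F := fibFun K hi hc
  let ψb : ∀ {x y : Gro F}, (x ⟶ y) → (x.fiber.1 ⟶ y.fiber.1) := fun {x y} h =>
    h.fiber.1 ≫ K.lift y.fiber.2 h.base
  have key : ∀ {x : Gro F} {y : p.Fiber x.base} (h : x.fiber = y), (eqToHom h : x.fiber ⟶ y).1 =
      eqToHom (congrArg Subtype.val h) := by
    rintro x y rfl; rfl
  have hψl : ∀ {x y : Gro F} (h : x ⟶ y), p.IsHomLift h.base (ψb h) := fun {x y} h => by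
    let φ : x.fiber.1 ⟶ K.obj y.fiber.2 h.base := h.fiber.1
    have : p.IsHomLift (𝟙 x.base) φ := h.fiber.2
    have := (inferInstance : p.IsHomLift (𝟙 x.base ≫ h.base) (φ ≫ K.lift y.fiber.2 h.base))
    rwa [Category.id_comp] at this
  let Ψ : Gro F ⥤ 𝒳 :=
    { obj := fun x => x.fiber.1
      map := fun h => ψb h
      map_id := fun x => by
        obtain ⟨e, l⟩ := hK.1 x.fiber.2
        have e0 : x.fiber = (fm F (𝟙 x.base)).obj x.fiber :=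
          (Functor.congr_obj (fm_id F x.base) x.fiber).symm
        show (𝟙 x : x ⟶ x).fiber.1 ≫ K.lift x.fiber.2 (𝟙 x.base) = 𝟙 x.fiber.1
        rw [gro_id_fiber F x e0, l]
        exact (congrArg (fun k => k ≫ eqToHom e) (key e0)).trans (eqToHom_trans _ _)
      map_comp := fun {x y z} h k => by
        obtain ⟨e, l⟩ := hK.2 k.base h.base z.fiber.2
        have hh : (fm F h.base).obj ((fm F k.base).obj z.fiber) = (fm F (h.base ≫ k.base)).obj z.fiber :=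
          (Functor.congr_obj (fm_comp F h.base k.base) z.fiber).symm
        show (h ≫ k).fiber.1 ≫ K.lift z.fiber.2 (h.base ≫ k.base) =
          (h.fiber.1 ≫ K.lift y.fiber.2 h.base) ≫ k.fiber.1 ≫ K.lift z.fiber.2 k.base
        rw [gro_comp_fiber F h k hh]
        let kf : y.fiber.1 ⟶ K.obj z.fiber.2 k.base := k.fiber.1
        have : p.IsHomLift (𝟙 y.base) kf := k.fiber.2
        let hf : x.fiber.1 ⟶ K.obj y.fiber.2 h.base := h.fiber.1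
        let m : K.obj y.fiber.2 h.base ⟶ K.obj (K.obj_proj z.fiber.2 k.base) h.base :=
          IsCartesian.map p h.base (K.lift (K.obj_proj z.fiber.2 k.base) h.base) (K.lift y.fiber.2 h.base ≫ kf)
        have fm' : m ≫ K.lift (K.obj_proj z.fiber.2 k.base) h.base = K.lift y.fiber.2 h.base ≫ kf :=
          IsCartesian.fac p h.base _ _
        have he : ∀ {A B : p.Fiber x.base} (h : A = B), (eqToHom h : A ⟶ B).1 = eqToHom (congrArg Subtype.val h) := by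
          rintro A B rfl; rfl
        show (hf ≫ m ≫ (eqToHom hh : _ ⟶ _).1) ≫ K.lift z.fiber.2 (h.base ≫ k.base) =
          (hf ≫ K.lift y.fiber.2 h.base) ≫ kf ≫ K.lift z.fiber.2 k.base
        refine Eq.trans (congrArg (fun t => (hf ≫ m ≫ t) ≫ K.lift z.fiber.2 (h.base ≫ k.base)) (he hh)) ?_
        show (hf ≫ m ≫ eqToHom e) ≫ K.lift z.fiber.2 (h.base ≫ k.base) = _
        rw [Category.assoc, Category.assoc, Category.assoc, ← l, reassoc_of% fm'] }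
  have hbase : ∀ {x y : Gro F} (h : x ⟶ y), p.map (Ψ.map h) = eqToHom x.fiber.2 ≫ h.base ≫ eqToHom y.fiber.2.symm :=
    fun {x y} h => @IsHomLift.fac' _ _ _ _ p _ _ _ _ h.base (ψb h) (hψl h)
  have : Ψ.Faithful := ⟨fun {x y} h h' e => by
    have hb : h.base = h'.base := by
      have := (hbase h).symm.trans ((congrArg p.map e).trans (hbase h'))
      rwa [cancel_epi, cancel_mono] at this
    cases h with | mk b φ =>
    cases h' with | mk b' φ' =>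
    obtain rfl : b = b' := hb
    let u : x.fiber.1 ⟶ K.obj y.fiber.2 b := φ.1
    let u' : x.fiber.1 ⟶ K.obj y.fiber.2 b := φ'.1
    have hl : p.IsHomLift (𝟙 x.base) u := φ.2
    have hl' : p.IsHomLift (𝟙 x.base) u' := φ'.2
    have : φ = φ' := Subtype.ext
      (IsCartesian.ext p b (K.lift y.fiber.2 b) u u' e)
    rw [this]⟩
  have hfull : ∀ {x y : Gro F} (φ : x.fiber.1 ⟶ y.fiber.1), ∃ h : x ⟶ y, Ψ.map h = φ := fun {x y} φ => by
    let b : x.base ⟶ y.base := eqToHom x.fiber.2.symm ≫ p.map φ ≫ eqToHom y.fiber.2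
    have : p.IsHomLift b φ := IsHomLift.of_fac p b φ x.fiber.2 y.fiber.2 rfl
    let m : x.fiber.1 ⟶ K.obj y.fiber.2 b := IsCartesian.map p b (K.lift y.fiber.2 b) φ
    exact ⟨⟨b, ⟨m, (inferInstance : p.IsHomLift (𝟙 x.base) m)⟩⟩, IsCartesian.fac p b (K.lift y.fiber.2 b) φ⟩
  let obj : 𝒳 → Gro F := fun a => ⟨p.obj a, (⟨a, rfl⟩ : p.Fiber (p.obj a))⟩
  choose mp hmp using fun (a b : 𝒳) (φ : a ⟶ b) => hfull (x := obj a) (y := obj b) φ
  let Φ : 𝒳 ⥤ Gro F :=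
    { obj := obj
      map := fun {a b} φ => mp a b φ
      map_id := fun a => Ψ.map_injective ((hmp a a (𝟙 a)).trans (Ψ.map_id (obj a)).symm)
      map_comp := fun {a b c} φ ψ => Ψ.map_injective (by
        rw [hmp, Ψ.map_comp, hmp, hmp]) }
  refine ⟨F, Φ, Ψ, ?_, ?_, ?_⟩
  · exact Functor.ext (fun a => rfl) (fun a b φ => (hmp a b φ).trans (by simp))
  · refine Functor.ext (fun x => ?_) (fun x y h => ?_)
    · obtain ⟨S, ⟨a, ha⟩⟩ := x
      obtain rfl : p.obj a = S := ha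
      rfl
    · obtain ⟨S, ⟨a, ha⟩⟩ := x
      obtain rfl : p.obj a = S := ha
      obtain ⟨T, ⟨b, hb⟩⟩ := y
      obtain rfl : p.obj b = T := hb
      apply Ψ.map_injective
      show Ψ.map (mp a b (Ψ.map h)) = Ψ.map (𝟙 _ ≫ h ≫ 𝟙 _)
      rw [hmp, Category.id_comp, Category.comp_id]
  · refine Functor.ext (fun a => rfl) (fun a b φ => ?_)
    have := hbase (mp a b φ)
    rw [hmp] at this
    show (mp a b φ).base = eqToHom rfl ≫ p.map φ ≫ eqToHom rfl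
    rw [this]
    simp [obj]

end Groth.Agent.FibBasics
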