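import Groth.Agent.FibBasics.Yoneda
import Groth.Agent.FibBasics.Split

/-!
Every fibred category is equivalent to a split one.
-/

set_option autoImplicit false

universe v u

open CategoryTheory CategoryTheory.Functor Opposite
open CategoryTheory.Pseudofunctor (CoGrothendieck)

namespace Groth.Agent.FibBasics

variable {C : Type u} [Category.{v} C] (𝒳 : BasedCategory.{v, max u v} C)

/-- Postcomposition with an arrow, over the base. -/
abbrev mapB {U V : C} (f : U ⟶ V) : FibCat.overCat U ⥤ᵇ FibCat.overCat V :=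
  ⟨Over.map f, Over.mapForget_eq f⟩

theorem based_ext_max {𝒜 ℬ : BasedCategory.{v, max u v} C} {G H : 𝒜 ⥤ᵇ ℬ} (h : G.toFunctor = H.toFunctor) : G = H := by
  cases G; cases H; cases h; rfl

theorem mapB_one_comp {U V W : C} (g : W ⟶ U) (f : U ⟶ V) :
    (mapB (g ≫ f)).obj (one W) = (mapB f).obj ((mapB g).obj (one W)) :=
  Functor.congr_obj (Over.mapComp_eq g f) (one W)

theorem mapB_one_id (U : C) : (mapB (𝟙 U)).obj (one U) = one U :=
  Functor.congr_obj (Over.mapId_eq U) (one U)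

/-- Cartesian functors on a slice. -/
abbrev CObj (U : C) :=
  ObjectProperty.FullSubcategory (FibCat.PreservesStronglyCartesian (𝒳 := FibCat.overCat U) (𝒴 := 𝒳))

/-- The value at the identity. -/
abbrev cEv (U : C) : CObj 𝒳 U → 𝒳.p.Fiber U := fun G => (FibCat.evalAtId 𝒳 U).obj G.obj

/-- Cartesian functors on a slice, with morphisms the fibre morphisms of the values at the identity. -/
abbrev SObj (U : C) := InducedCategory (𝒳.p.Fiber U) (cEv 𝒳 U)

variable {𝒳}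

theorem exists_alpha {U : C} {G H : SObj 𝒳 U} (θ : G ⟶ H) :
    ∃ α : (G : CObj 𝒳 U).obj ⟶ (H : CObj 𝒳 U).obj, α.toNatTrans.app (one U) = θ.hom.1 := by
  obtain ⟨α, hα⟩ := evalAtId_surjective (cartOne_of_preserves _ (H : CObj 𝒳 U).property) θ.hom
  exact ⟨α, congrArg Subtype.val hα⟩

/-- The natural transformation of a fibre morphism. -/
noncomputable def alpha {U : C} {G H : SObj 𝒳 U} (θ : G ⟶ H) :
    (G : CObj 𝒳 U).obj ⟶ (H : CObj 𝒳 U).obj := (exists_alpha θ).choose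

theorem alpha_app_one {U : C} {G H : SObj 𝒳 U} (θ : G ⟶ H) :
    (alpha θ).toNatTrans.app (one U) = θ.hom.1 := (exists_alpha θ).choose_spec

theorem alpha_unique {U : C} {G H : SObj 𝒳 U} (θ : G ⟶ H)
    (β : (G : CObj 𝒳 U).obj ⟶ (H : CObj 𝒳 U).obj) (h : β.toNatTrans.app (one U) = θ.hom.1) :
    alpha θ = β :=
  evalAtId_injective (cartOne_of_preserves _ (H : CObj 𝒳 U).property) _ _
    (Subtype.ext ((alpha_app_one θ).trans h.symm))

theorem app_congr {U : C} {G H : FibCat.overCat U ⥤ᵇ 𝒳} (β : G ⟶ H) {a b : (FibCat.overCat U).obj} (h : a = b) :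
    β.toNatTrans.app a = eqToHom (congrArg G.obj h) ≫ β.toNatTrans.app b ≫ eqToHom (congrArg H.obj h.symm) := by
  subst h; simp

/-- Precomposition on objects. -/
def sRes {U V : C} (f : U ⟶ V) (G : CObj 𝒳 V) : CObj 𝒳 U :=
  ⟨BasedFunctor.comp (mapB f) G.obj, fun _ _ k _ _ φ hφ =>
    G.property k _ (cart_of_isFibGrpd (mapB f) (isFibGrpd_overForget V) k φ hφ)⟩

theorem sRes_id {U : C} (G : CObj 𝒳 U) : sRes (𝟙 U) G = G :=
  ObjectProperty.FullSubcategory.ext (based_ext_max (by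
    show Over.map (𝟙 U) ⋙ G.obj.toFunctor = G.obj.toFunctor
    rw [Over.mapId_eq]; rfl))

theorem sRes_comp {U V W : C} (g : W ⟶ U) (f : U ⟶ V) (G : CObj 𝒳 V) :
    sRes (g ≫ f) G = sRes g (sRes f G) :=
  ObjectProperty.FullSubcategory.ext (based_ext_max (by
    show Over.map (g ≫ f) ⋙ G.obj.toFunctor = Over.map g ⋙ Over.map f ⋙ G.obj.toFunctor
    rw [Over.mapComp_eq]; rfl))

/-- Precomposition on objects of the category with small morphism sets. -/
def sR {U V : C} (f : U ⟶ V) (G : SObj 𝒳 V) : SObj 𝒳 U := sRes f G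

/-- Left whiskering of a 2-morphism. -/
def bWhiskL {U V : C} (f : U ⟶ V) {G H : FibCat.overCat V ⥤ᵇ 𝒳} (β : G ⟶ H) :
    BasedFunctor.comp (mapB f) G ⟶ BasedFunctor.comp (mapB f) H :=
  { toNatTrans := whiskerLeft (Over.map f) β.toNatTrans
    isHomLift' := fun x => β.isHomLift' ((mapB f).obj x) }

/-- Restriction functor. -/
noncomputable def sMap {U V : C} (f : U ⟶ V) : SObj 𝒳 V ⥤ SObj 𝒳 U where
  obj G := sR f G
  map θ := InducedCategory.homMk ((FibCat.evalAtId 𝒳 U).map (bWhiskL f (alpha θ)))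
  map_id G := InducedCategory.hom_ext (Subtype.ext (by
    show (alpha (𝟙 G)).toNatTrans.app ((mapB f).obj (one U)) = 𝟙 _
    rw [alpha_unique (𝟙 G) (𝟙 _) rfl]; rfl))
  map_comp θ η := InducedCategory.hom_ext (Subtype.ext (by
    show (alpha (θ ≫ η)).toNatTrans.app ((mapB f).obj (one U)) =
      (alpha θ).toNatTrans.app ((mapB f).obj (one U)) ≫ (alpha η).toNatTrans.app ((mapB f).obj (one U))
    rw [alpha_unique (θ ≫ η) (alpha θ ≫ alpha η) (by
      show (alpha θ).toNatTrans.app (one _) ≫ (alpha η).toNatTrans.app (one _) = _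
      rw [alpha_app_one, alpha_app_one]; rfl)]
    rfl))

theorem alpha_sMap {U V : C} (f : U ⟶ V) {G H : SObj 𝒳 V} (θ : G ⟶ H) :
    alpha ((sMap f).map θ) = bWhiskL f (alpha θ) := alpha_unique _ _ rfl

theorem sobj_eqToHom {U : C} {G H : SObj 𝒳 U} (h : G = H) :
    (eqToHom h : G ⟶ H).hom.1 = eqToHom (congrArg (fun K : CObj 𝒳 U => K.obj.obj (one U)) h) := by
  subst h; rfl

theorem sMap_id (U : C) : sMap (𝒳 := 𝒳) (𝟙 U) = 𝟭 _ := by
  refine Functor.ext (fun G => sRes_id G) (fun G H θ => InducedCategory.hom_ext (Subtype.ext ?_))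
  show (alpha θ).toNatTrans.app ((mapB (𝟙 U)).obj (one U)) =
    (eqToHom (sRes_id G) : sR (𝟙 U) G ⟶ G).hom.1 ≫ θ.hom.1 ≫
      (eqToHom (sRes_id H).symm : H ⟶ sR (𝟙 U) H).hom.1
  refine Eq.trans ?_ (congrArg₂ (fun a b => a ≫ θ.hom.1 ≫ b) (sobj_eqToHom (G := sR (𝟙 U) G) (H := G) (sRes_id G))
    (sobj_eqToHom (G := H) (H := sR (𝟙 U) H) (sRes_id H).symm)).symm
  refine (app_congr (alpha θ) (mapB_one_id U)).trans ?_
  rw [alpha_app_one]
  rfl

theorem sMap_comp {U V W : C} (g : W ⟶ U) (f : U ⟶ V) :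
    sMap (𝒳 := 𝒳) (g ≫ f) = sMap f ⋙ sMap g := by
  refine Functor.ext (fun G => sRes_comp g f G) (fun G H θ => InducedCategory.hom_ext (Subtype.ext ?_))
  show (alpha θ).toNatTrans.app ((mapB (g ≫ f)).obj (one W)) =
    (eqToHom (sRes_comp g f G) : sR (g ≫ f) G ⟶ sR g (sR f G)).hom.1 ≫
      (alpha ((sMap f).map θ)).toNatTrans.app ((mapB g).obj (one W)) ≫
      (eqToHom (sRes_comp g f H).symm : sR g (sR f H) ⟶ sR (g ≫ f) H).hom.1
  refine Eq.trans ?_ (congrArg₂ (fun a b => a ≫ (alpha ((sMap f).map θ)).toNatTrans.app ((mapB g).obj (one W)) ≫ b)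
    (sobj_eqToHom (G := sR (g ≫ f) G) (H := sR g (sR f G)) (sRes_comp g f G))
    (sobj_eqToHom (G := sR g (sR f H)) (H := sR (g ≫ f) H) (sRes_comp g f H).symm)).symm
  refine (app_congr (alpha θ) (mapB_one_comp g f)).trans ?_
  rw [alpha_sMap]
  rfl

variable (𝒳)

/-- The strict functor. -/
noncomputable def sFun : Cᵒᵖ ⥤ Cat.{v, max u v} where
  obj U := Cat.of (SObj 𝒳 U.unop)
  map f := (sMap f.unop).toCatHom
  map_id U := congrArg Functor.toCatHom (sMap_id U.unop)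
  map_comp f g := congrArg Functor.toCatHom (sMap_comp g.unop f.unop)

variable {𝒳}

theorem eqToHom_sandwich {A B A' B' : C} (f g : A ⟶ B) (ha : A' = A) (hb : B = B')
    (h : eqToHom ha ≫ f ≫ eqToHom hb = eqToHom ha ≫ g ≫ eqToHom hb) : f = g := by
  subst ha hb; simpa using h

theorem map_toOne_congr {U : C} (G : FibCat.overCat U ⥤ᵇ 𝒳) {a b : (FibCat.overCat U).obj} (h : a = b)
    (e : G.obj b = G.obj a) : eqToHom e ≫ G.map (toOne a) = G.map (toOne b) := by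
  subst h; simp

/-- The morphism of values attached to a morphism of pairs. -/
noncomputable def sVal {x y : Gro (sFun 𝒳)} (h : x ⟶ y) :
    (x.fiber : CObj 𝒳 x.base).obj.obj (one x.base) ⟶ (y.fiber : CObj 𝒳 y.base).obj.obj (one y.base) :=
  (InducedCategory.Hom.hom (h.fiber : (x.fiber : SObj 𝒳 x.base) ⟶ sR h.base y.fiber)).1 ≫
    (y.fiber : CObj 𝒳 y.base).obj.map (toOne ((mapB h.base).obj (one x.base)))

theorem sVal_lift {x y : Gro (sFun 𝒳)} (h : x ⟶ y) : 𝒳.p.IsHomLift h.base (sVal h) := by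
  let m0 := (InducedCategory.Hom.hom (h.fiber : (x.fiber : SObj 𝒳 x.base) ⟶ sR h.base y.fiber))
  let m : (x.fiber : CObj 𝒳 x.base).obj.obj (one x.base) ⟶
    (y.fiber : CObj 𝒳 y.base).obj.obj ((mapB h.base).obj (one x.base)) := m0.1
  have : 𝒳.p.IsHomLift (𝟙 x.base) m := m0.2
  have h2 : 𝒳.p.IsHomLift (𝟙 x.base ≫ h.base)
      ((y.fiber : CObj 𝒳 y.base).obj.map (toOne ((mapB h.base).obj (one x.base)))) :=
    based_lift_one (y.fiber : CObj 𝒳 y.base).obj ((mapB h.base).obj (one x.base))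
  rw [Category.id_comp] at h2
  have := (inferInstance : 𝒳.p.IsHomLift (𝟙 x.base ≫ h.base) (m ≫
    (y.fiber : CObj 𝒳 y.base).obj.map (toOne ((mapB h.base).obj (one x.base)))))
  rwa [Category.id_comp] at this

/-- The comparison functor. -/
noncomputable def sEval : Gro (sFun 𝒳) ⥤ 𝒳.obj where
  obj x := (x.fiber : CObj 𝒳 x.base).obj.obj (one x.base)
  map h := sVal h
  map_id x := by
    have e0 : x.fiber = (fm (sFun 𝒳) (𝟙 x.base)).obj x.fiber :=
      (Functor.congr_obj (fm_id (sFun 𝒳) x.base) x.fiber).symm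
    show (InducedCategory.Hom.hom (_ : (x.fiber : SObj 𝒳 x.base) ⟶ sR (𝟙 x.base) x.fiber)).1 ≫ _ = _
    rw [gro_id_fiber (sFun 𝒳) x e0]
    refine (congrArg (fun k => k ≫ (x.fiber : CObj 𝒳 x.base).obj.map (toOne ((mapB (𝟙 x.base)).obj (one x.base))))
      (sobj_eqToHom (𝒳 := 𝒳) e0)).trans ?_
    refine (map_toOne_congr _ (mapB_one_id x.base) _).trans ?_
    rw [toOne_one]
    exact (x.fiber : CObj 𝒳 x.base).obj.toFunctor.map_id _
  map_comp {x y z} h k := by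
    have hh : (fm (sFun 𝒳) h.base).obj ((fm (sFun 𝒳) k.base).obj z.fiber) =
        (fm (sFun 𝒳) (h.base ≫ k.base)).obj z.fiber :=
      (Functor.congr_obj (fm_comp (sFun 𝒳) h.base k.base) z.fiber).symm
    let hf : (x.fiber : SObj 𝒳 x.base) ⟶ sR h.base y.fiber := h.fiber
    let kf : (y.fiber : SObj 𝒳 y.base) ⟶ sR k.base z.fiber := k.fiber
    let Z : FibCat.overCat z.base ⥤ᵇ 𝒳 := (z.fiber : CObj 𝒳 z.base).obj
    let Y : FibCat.overCat y.base ⥤ᵇ 𝒳 := (y.fiber : CObj 𝒳 y.base).obj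
    let a : (FibCat.overCat y.base).obj := (mapB h.base).obj (one x.base)
    show (InducedCategory.Hom.hom (_ : (x.fiber : SObj 𝒳 x.base) ⟶ sR (h.base ≫ k.base) z.fiber)).1 ≫ _ = _
    rw [gro_comp_fiber (sFun 𝒳) h k hh]
    show (hf.hom.1 ≫ (alpha kf).toNatTrans.app a ≫
        (eqToHom hh : sR h.base (sR k.base z.fiber) ⟶ sR (h.base ≫ k.base) z.fiber).hom.1) ≫
        Z.map (toOne ((mapB (h.base ≫ k.base)).obj (one x.base))) =
      (hf.hom.1 ≫ Y.map (toOne a)) ≫ kf.hom.1 ≫ Z.map (toOne ((mapB k.base).obj (one y.base)))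
    refine Eq.trans (congrArg (fun e => (hf.hom.1 ≫ (alpha kf).toNatTrans.app a ≫ e) ≫
      Z.map (toOne ((mapB (h.base ≫ k.base)).obj (one x.base)))) (sobj_eqToHom hh)) ?_
    refine Eq.trans ?_ (congrArg (fun e => (hf.hom.1 ≫ Y.map (toOne a)) ≫ e ≫
      Z.map (toOne ((mapB k.base).obj (one y.base)))) (alpha_app_one kf))
    refine ((Category.assoc _ _ _).trans (congrArg (hf.hom.1 ≫ ·) ((Category.assoc _ _ _).trans
      (congrArg ((alpha kf).toNatTrans.app a ≫ ·) (map_toOne_congr Z (mapB_one_comp h.base k.base) _))))).trans ?_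
    refine Eq.trans ?_ (Category.assoc _ _ _).symm
    congr 1
    have hn := (alpha kf).toNatTrans.naturality (toOne a)
    refine Eq.trans (Eq.trans ?_ ((congrArg (fun m => m ≫ Z.map (toOne ((mapB k.base).obj (one y.base)))) hn).trans
      (Category.assoc _ _ _)).symm) (Category.assoc _ _ _)
    show _ = (alpha kf).toNatTrans.app a ≫ Z.map ((mapB k.base).map (toOne a)) ≫ Z.map (toOne _)
    exact congrArg ((alpha kf).toNatTrans.app a ≫ ·) ((congrArg Z.map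
      (toOne_unique ((mapB k.base).map (toOne a) ≫ toOne _)).symm).trans (Z.toFunctor.map_comp _ _))

/-- The comparison functor over the base. -/
noncomputable def sEvalB : BasedCategory.ofFunctor (groP (sFun 𝒳)) ⥤ᵇ 𝒳 where
  toFunctor := sEval
  w := Functor.ext (fun x => (x.fiber : CObj 𝒳 x.base).obj.w_obj (one x.base))
    (fun x y h => @IsHomLift.fac' _ _ _ _ 𝒳.p _ _ _ _ h.base (sVal h) (sVal_lift h))

theorem sEvalB_isEquivOver [𝒳.p.IsFibered] : FibCat.IsEquivOver (sEvalB (𝒳 := 𝒳)) := by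
  have hc : ∀ (x y : Gro (sFun 𝒳)) (b : x.base ⟶ y.base), 𝒳.p.IsCartesian b
      ((y.fiber : CObj 𝒳 y.base).obj.map (toOne ((mapB b).obj (one x.base)))) := fun x y b => by
    have h := cartOne_of_preserves _ (y.fiber : CObj 𝒳 y.base).property ((mapB b).obj (one x.base))
    have h' : 𝒳.p.IsStronglyCartesian b ((y.fiber : CObj 𝒳 y.base).obj.map (toOne ((mapB b).obj (one x.base)))) := by
      have h2 : 𝒳.p.IsStronglyCartesian (𝟙 x.base ≫ b)
        ((y.fiber : CObj 𝒳 y.base).obj.map (toOne ((mapB b).obj (one x.base)))) := h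
      rwa [Category.id_comp] at h2
    infer_instance
  have hbase : ∀ {x y : Gro (sFun 𝒳)} (h : x ⟶ y), 𝒳.p.map (sVal h) =
      eqToHom ((x.fiber : CObj 𝒳 x.base).obj.w_obj (one x.base)) ≫ h.base ≫
        eqToHom ((y.fiber : CObj 𝒳 y.base).obj.w_obj (one y.base)).symm :=
    fun {x y} h => @IsHomLift.fac' _ _ _ _ 𝒳.p _ _ _ _ h.base (sVal h) (sVal_lift h)
  have hfa : (sEval (𝒳 := 𝒳)).Faithful := ⟨fun {x y} h h' e => by
    have hb : h.base = h'.base := by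
      have := (hbase h).symm.trans ((congrArg 𝒳.p.map e).trans (hbase h'))
      exact eqToHom_sandwich _ _ _ _ this
    cases h with | mk b φ =>
    cases h' with | mk b' φ' =>
    obtain rfl : b = b' := hb
    let φ₁ : (x.fiber : SObj 𝒳 x.base) ⟶ sR b y.fiber := φ
    let φ₂ : (x.fiber : SObj 𝒳 x.base) ⟶ sR b y.fiber := φ'
    let u : (x.fiber : CObj 𝒳 x.base).obj.obj (one x.base) ⟶
      (y.fiber : CObj 𝒳 y.base).obj.obj ((mapB b).obj (one x.base)) := φ₁.hom.1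
    let u' : (x.fiber : CObj 𝒳 x.base).obj.obj (one x.base) ⟶
      (y.fiber : CObj 𝒳 y.base).obj.obj ((mapB b).obj (one x.base)) := φ₂.hom.1
    have : 𝒳.p.IsHomLift (𝟙 x.base) u := φ₁.hom.2
    have : 𝒳.p.IsHomLift (𝟙 x.base) u' := φ₂.hom.2
    have := hc x y b
    have h3 : φ₁ = φ₂ := InducedCategory.hom_ext (Subtype.ext
      (IsCartesian.ext 𝒳.p b ((y.fiber : CObj 𝒳 y.base).obj.map (toOne ((mapB b).obj (one x.base)))) u u' e))
    exact congrArg (CoGrothendieck.Hom.mk b) h3⟩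
  have hfu : (sEval (𝒳 := 𝒳)).Full := ⟨fun {x y} φ => by
    let φ₀ : (x.fiber : CObj 𝒳 x.base).obj.obj (one x.base) ⟶
      (y.fiber : CObj 𝒳 y.base).obj.obj (one y.base) := φ
    have hx := (x.fiber : CObj 𝒳 x.base).obj.w_obj (one x.base)
    have hy := (y.fiber : CObj 𝒳 y.base).obj.w_obj (one y.base)
    let b : x.base ⟶ y.base := eqToHom hx.symm ≫ 𝒳.p.map φ₀ ≫ eqToHom hy
    have : 𝒳.p.IsHomLift b φ₀ := IsHomLift.of_fac 𝒳.p b φ₀ hx hy rfl
    let ℓ : (y.fiber : CObj 𝒳 y.base).obj.obj ((mapB b).obj (one x.base)) ⟶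
      (y.fiber : CObj 𝒳 y.base).obj.obj (one y.base) :=
      (y.fiber : CObj 𝒳 y.base).obj.map (toOne ((mapB b).obj (one x.base)))
    have hC : 𝒳.p.IsCartesian b ℓ := hc x y b
    let m := @IsCartesian.map _ _ _ _ 𝒳.p _ _ _ _ b ℓ hC _ φ₀ ‹𝒳.p.IsHomLift b φ₀›
    let θ : (x.fiber : SObj 𝒳 x.base) ⟶ sR b y.fiber :=
      InducedCategory.homMk ⟨m, @IsCartesian.map_isHomLift _ _ _ _ 𝒳.p _ _ _ _ b ℓ hC _ φ₀ _⟩
    exact ⟨⟨b, θ⟩, @IsCartesian.fac _ _ _ _ 𝒳.p _ _ _ _ b ℓ hC _ φ₀ _⟩⟩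
  have : (sEvalB (𝒳 := 𝒳)).toFunctor.Faithful := hfa
  have : (sEvalB (𝒳 := 𝒳)).toFunctor.Full := hfu
  refine isEquivOver_of_essSurjOver _ (fun a => ?_)
  obtain ⟨G, hG, ⟨e⟩⟩ := exists_evalAtId_iso (𝒳 := 𝒳) (U := 𝒳.p.obj a) ⟨a, rfl⟩
  exact ⟨⟨𝒳.p.obj a, (⟨G, hG⟩ : CObj 𝒳 (𝒳.p.obj a))⟩, Fiber.fiberInclusion.mapIso e, e.hom.2⟩

theorem exists_strictification (𝒳 : BasedCategory.{v, max u v} C) [𝒳.p.IsFibered] :
    ∃ E : 𝒳 ⥤ᵇ BasedCategory.ofFunctor (groP (sFun 𝒳)), FibCat.IsEquivOver E := by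
  obtain ⟨E, hE, -⟩ := isEquivOver_symm (sEvalB_isEquivOver (𝒳 := 𝒳))
  exact ⟨E, hE⟩

theorem sObj_isGroupoid (h : FibCat.IsFibGrpd 𝒳.p) (U : C) : IsGroupoid (SObj 𝒳 U) where
  all_isIso {G H} θ := by
    have := isGroupoid_fiber 𝒳.p h U
    have : IsIso ((inducedFunctor (cEv 𝒳 U)).map θ) := IsGroupoid.all_isIso _
    exact isIso_of_fully_faithful (inducedFunctor (cEv 𝒳 U)) θ

end Groth.Agent.FibBasics
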